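import Mathlib
import Cfsg.Prelude.Def_Sporadic_a
import Cfsg.Prelude.Def_Sporadic
import Cfsg.Agent.S0426

/-!
# S0420 / M11U, PART D (helper3; architect lead)

A group of order 7920 acting faithfully on 11 points and preserving a Steiner system `S(4,5,11)`
is isomorphic to the automorphism group of that Steiner system (which has order 7920 by S0426).
-/

set_option autoImplicit false

namespace Cfsg.Agent.M11U

open scoped Pointwise

universe u v

/-- PART D. -/
theorem iso_aut_of_invariant {G : Type u} [Group G] [Finite G] (hcard : Nat.card G = 7920)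
    {Ω : Type v} [Fintype Ω] [DecidableEq Ω] [MulAction G Ω] [FaithfulSMul G Ω]
    (hΩ : Fintype.card Ω = 11) (B : Set (Finset Ω)) (hB : Cfsg.IsSteinerSystem 4 5 B)
    (hinv : ∀ g : G, ∀ b ∈ B, b.image (fun ω => g • ω) ∈ B) :
    Nonempty (G ≃* Cfsg.setSystemAut B) := by
  classical
  -- the action homomorphism
  set φ : G →* Equiv.Perm Ω := MulAction.toPermHom G Ω with hφ
  have hφinj : Function.Injective φ := MulAction.toPerm_injective
  have hsmul : ∀ (g : G) (b : Finset Ω), (φ g) • b = b.image (fun ω => g • ω) := by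
    intro g b
    ext ω
    simp only [Finset.mem_smul_finset, Finset.mem_image]
    constructor
    · rintro ⟨y, hy, rfl⟩
      exact ⟨y, hy, rfl⟩
    · rintro ⟨y, hy, rfl⟩
      exact ⟨y, hy, rfl⟩
  have hmem : ∀ g : G, φ g ∈ Cfsg.setSystemAut B := by
    intro g
    rw [MulAction.mem_stabilizer_iff]
    apply Set.Subset.antisymm
    · rintro _ ⟨b, hb, rfl⟩
      show (φ g) • b ∈ B
      rw [hsmul]
      exact hinv g b hb
    · intro b hb
      refine ⟨(φ g⁻¹) • b, ?_, ?_⟩
      · rw [hsmul]
        exact hinv g⁻¹ b hb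
      · show (φ g) • ((φ g⁻¹) • b) = b
        rw [smul_smul, ← map_mul, mul_inv_cancel, map_one, one_smul]
  -- the restricted homomorphism
  let ψ : G →* Cfsg.setSystemAut B := φ.codRestrict (Cfsg.setSystemAut B) hmem
  have hψinj : Function.Injective ψ := by
    intro a b hab
    apply hφinj
    have := congrArg Subtype.val hab
    exact this
  have hcardA : Nat.card (Cfsg.setSystemAut B) = 7920 := (Cfsg.Agent.S0426.result hΩ hB).1.2
  haveI : Finite (Cfsg.setSystemAut B) := inferInstance
  have hψbij : Function.Bijective ψ := by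
    rw [Nat.bijective_iff_injective_and_card]
    exact ⟨hψinj, by rw [hcard, hcardA]⟩
  exact ⟨MulEquiv.ofBijective ψ hψbij⟩

end Cfsg.Agent.M11U
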