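import Mathlib
import Cfsg.Prelude.Def_Sporadic_a

/-!
# S0420, PART C: a sharply `4`-transitive group of degree `11` preserves an `S(4,5,11)`

`G` of order `7920` acting faithfully and `4`-transitively on `11` points is sharply `4`-transitive.
For four distinct points `a b c d` the element swapping `a, b` and fixing `c, d` is an involution
with exactly one further fixed point `e`; the point `e` is the same for all six transpositions of
`{a,b,c,d}` and the blocks `{a,b,c,d,e}` form a Steiner system `S(4,5,11)` preserved by `G`.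
-/

set_option autoImplicit false
set_option linter.style.haveILetI false

namespace Cfsg.Agent.M11U

universe u v

section Core

variable {G : Type u} [Group G] {Ω : Type v} [MulAction G Ω]

/-- an element fixing four distinct points is trivial -/
def h8_Sharp4 (G : Type u) [Group G] (Ω : Type v) [MulAction G Ω] : Prop :=
  ∀ g : G, ∀ a b c d : Ω, [a, b, c, d].Nodup → g • a = a → g • b = b → g • c = c → g • d = d →
    g = 1

/-- four distinct points can be moved to any four distinct points -/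
def h8_Trans4 (G : Type u) [Group G] (Ω : Type v) [MulAction G Ω] : Prop :=
  ∀ a b c d a' b' c' d' : Ω, [a, b, c, d].Nodup → [a', b', c', d'].Nodup →
    ∃ g : G, g • a = a' ∧ g • b = b' ∧ g • c = c' ∧ g • d = d'

theorem h8_agree4 (hs : h8_Sharp4 G Ω) (g h : G) (a b c d : Ω) (hnd : [a, b, c, d].Nodup)
    (ha : g • a = h • a) (hb : g • b = h • b) (hc : g • c = h • c) (hd : g • d = h • d) :
    g = h := by
  have h1 := hs (h⁻¹ * g) a b c d hnd (by rw [mul_smul, ha, inv_smul_smul])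
    (by rw [mul_smul, hb, inv_smul_smul]) (by rw [mul_smul, hc, inv_smul_smul])
    (by rw [mul_smul, hd, inv_smul_smul])
  exact (inv_mul_eq_one.mp h1).symm

variable [Fintype Ω] [DecidableEq Ω]

/-- the fixed points of `g` -/
def h8_fix (g : G) : Finset Ω := Finset.univ.filter (fun ω => g • ω = ω)

theorem h8_mem_fix (g : G) (ω : Ω) : ω ∈ h8_fix g ↔ g • ω = ω := by
  simp [h8_fix]

theorem h8_card_fix_modEq (g : G) (p n : ℕ) [hp : Fact p.Prime] (hg : g ^ p ^ n = 1) :
    (h8_fix (Ω := Ω) g).card ≡ Fintype.card Ω [MOD p] := by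
  have h1 : (MulAction.toPermHom G Ω g) ^ p ^ n = 1 := by
    rw [← map_pow, hg, map_one]
  have h2 := Equiv.Perm.card_compl_support_modEq h1
  have h3 : (MulAction.toPermHom G Ω g).supportᶜ = h8_fix g := by
    ext ω
    simp [h8_fix, Equiv.Perm.mem_support, MulAction.toPermHom_apply, MulAction.toPerm_apply]
  rwa [h3] at h2

/-- the element swapping `a, b` and fixing `c, d` has exactly one further fixed point -/
theorem h8_swap_extra (hs : h8_Sharp4 G Ω) (hΩ : Fintype.card Ω = 11) (g : G) (a b c d : Ω)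
    (hnd : [a, b, c, d].Nodup) (hab : g • a = b) (hba : g • b = a) (hc : g • c = c)
    (hd : g • d = d) :
    ∃ e : Ω, e ∉ [a, b, c, d] ∧ g • e = e ∧ ∀ e', g • e' = e' → e' = c ∨ e' = d ∨ e' = e := by
  have hnd' := hnd
  simp only [List.nodup_cons, List.mem_cons, List.not_mem_nil, or_false, not_or,
    List.nodup_nil, and_true, not_false_eq_true] at hnd'
  obtain ⟨⟨nab, nac, nad⟩, ⟨nbc, nbd⟩, ncd⟩ := hnd'
  have hgg : g ^ 2 ^ 1 = 1 := by
    rw [pow_one, pow_two]
    apply h8_agree4 hs (g * g) 1 a b c d hnd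
    · rw [mul_smul, hab, hba, one_smul]
    · rw [mul_smul, hba, hab, one_smul]
    · rw [mul_smul, hc, hc, one_smul]
    · rw [mul_smul, hd, hd, one_smul]
  haveI : Fact (Nat.Prime 2) := ⟨Nat.prime_two⟩
  have hmod := h8_card_fix_modEq (Ω := Ω) g 2 1 hgg
  rw [hΩ] at hmod
  have hex : ∃ e : Ω, g • e = e ∧ e ≠ c ∧ e ≠ d := by
    by_contra hno
    push Not at hno
    have hfix : h8_fix g = ({c, d} : Finset Ω) := by
      ext ω
      rw [h8_mem_fix]
      simp only [Finset.mem_insert, Finset.mem_singleton]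
      constructor
      · intro hω
        by_cases hωc : ω = c
        · exact Or.inl hωc
        · exact Or.inr (hno ω hω hωc)
      · rintro (rfl | rfl)
        · exact hc
        · exact hd
    rw [hfix, Finset.card_pair ncd] at hmod
    exact absurd hmod (by decide)
  obtain ⟨e, he, hec, hed⟩ := hex
  have hea : e ≠ a := by
    rintro rfl
    exact nab (he.symm.trans hab)
  have heb : e ≠ b := by
    rintro rfl
    exact nab (hba.symm.trans he)
  refine ⟨e, ?_, he, ?_⟩
  · simp only [List.mem_cons, List.not_mem_nil, or_false, not_or]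
    exact ⟨hea, heb, hec, hed⟩
  · intro e' he'
    by_contra hcon
    push Not at hcon
    obtain ⟨h1, h2, h3⟩ := hcon
    have hone : g = 1 := hs g c d e e' (by
      simp only [List.nodup_cons, List.mem_cons, List.not_mem_nil, or_false, not_or,
        List.nodup_nil, and_true, not_false_eq_true]
      exact ⟨⟨ncd, Ne.symm hec, Ne.symm h1⟩, ⟨Ne.symm hed, Ne.symm h2⟩, Ne.symm h3⟩)
      hc hd he he'
    rw [hone, one_smul] at hab
    exact nab hab

/-- the element fixing `p` and rotating `q → r → s → q` has exactly one further fixed point -/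
theorem h8_rot_extra (hs : h8_Sharp4 G Ω) (hΩ : Fintype.card Ω = 11) (y : G) (p q r s : Ω)
    (hnd : [p, q, r, s].Nodup) (hp : y • p = p) (hq : y • q = r) (hr : y • r = s)
    (hs' : y • s = q) :
    ∃ f : Ω, f ∉ [p, q, r, s] ∧ y • f = f ∧ ∀ f', y • f' = f' → f' = p ∨ f' = f := by
  have hnd' := hnd
  simp only [List.nodup_cons, List.mem_cons, List.not_mem_nil, or_false, not_or,
    List.nodup_nil, and_true, not_false_eq_true] at hnd'
  obtain ⟨⟨npq, npr, nps⟩, ⟨nqr, nqs⟩, nrs⟩ := hnd'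
  have hyyy : y ^ 3 ^ 1 = 1 := by
    rw [pow_one, pow_succ, pow_two]
    apply h8_agree4 hs (y * y * y) 1 p q r s hnd
    · rw [mul_smul, mul_smul, hp, hp, hp, one_smul]
    · rw [mul_smul, mul_smul, hq, hr, hs', one_smul]
    · rw [mul_smul, mul_smul, hr, hs', hq, one_smul]
    · rw [mul_smul, mul_smul, hs', hq, hr, one_smul]
  haveI : Fact (Nat.Prime 3) := ⟨Nat.prime_three⟩
  have hmod := h8_card_fix_modEq (Ω := Ω) y 3 1 hyyy
  rw [hΩ] at hmod
  have hex : ∃ f : Ω, y • f = f ∧ f ≠ p := by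
    by_contra hno
    push Not at hno
    have hfix : h8_fix y = ({p} : Finset Ω) := by
      ext ω
      rw [h8_mem_fix]
      simp only [Finset.mem_singleton]
      constructor
      · intro hω
        exact hno ω hω
      · rintro rfl
        exact hp
    rw [hfix, Finset.card_singleton] at hmod
    exact absurd hmod (by decide)
  obtain ⟨f, hf, hfp⟩ := hex
  have hfq : f ≠ q := by
    rintro rfl
    exact nqr (hf.symm.trans hq)
  have hfr : f ≠ r := by
    rintro rfl
    exact nrs (hf.symm.trans hr)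
  have hfs : f ≠ s := by
    rintro rfl
    exact nqs (hs'.symm.trans hf)
  refine ⟨f, ?_, hf, ?_⟩
  · simp only [List.mem_cons, List.not_mem_nil, or_false, not_or]
    exact ⟨hfp, hfq, hfr, hfs⟩
  · intro f' hf'
    by_contra hcon
    push Not at hcon
    obtain ⟨h1, h2⟩ := hcon
    -- three fixed points, so at least five
    have hsub : ({p, f, f'} : Finset Ω) ⊆ h8_fix y := by
      intro ω hω
      simp only [Finset.mem_insert, Finset.mem_singleton] at hω
      rw [h8_mem_fix]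
      rcases hω with rfl | rfl | rfl
      · exact hp
      · exact hf
      · exact hf'
    have hc3 : ({p, f, f'} : Finset Ω).card = 3 := by
      rw [Finset.card_insert_of_notMem, Finset.card_pair (Ne.symm h2)]
      simp only [Finset.mem_insert, Finset.mem_singleton, not_or]
      exact ⟨Ne.symm hfp, Ne.symm h1⟩
    have hle := Finset.card_le_card hsub
    rw [hc3] at hle
    have hlt : ({p, f, f'} : Finset Ω).card < (h8_fix (Ω := Ω) y).card := by
      rw [hc3]
      have : (h8_fix (Ω := Ω) y).card % 3 = 11 % 3 := hmod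
      omega
    obtain ⟨f'', hf''1, hf''2⟩ := Finset.exists_mem_notMem_of_card_lt_card hlt
    rw [h8_mem_fix] at hf''1
    simp only [Finset.mem_insert, Finset.mem_singleton, not_or] at hf''2
    obtain ⟨k1, k2, k3⟩ := hf''2
    have hone : y = 1 := hs y p f f' f'' (by
      simp only [List.nodup_cons, List.mem_cons, List.not_mem_nil, or_false, not_or,
        List.nodup_nil, and_true, not_false_eq_true]
      exact ⟨⟨Ne.symm hfp, Ne.symm h1, Ne.symm k1⟩, ⟨Ne.symm h2, Ne.symm k2⟩, Ne.symm k3⟩)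
      hp hf hf' hf''1
    rw [hone, one_smul] at hq
    exact nqr hq

/-- a transposition of `{q, r, s}` fixing `p` inverts the rotation and hence fixes its extra
fixed point -/
theorem h8_rot_swap_one (hs : h8_Sharp4 G Ω) (ht : h8_Trans4 G Ω) (y : G) (p q r s f : Ω)
    (hnd : [p, q, r, s].Nodup) (hp : y • p = p) (hq : y • q = r) (hr : y • r = s)
    (hs' : y • s = q) (hfp : f ≠ p) (hf : y • f = f)
    (hfu : ∀ f', y • f' = f' → f' = p ∨ f' = f) :
    ∃ g : G, g • q = r ∧ g • r = q ∧ g • p = p ∧ g • s = s ∧ g • f = f := by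
  have hnd' := hnd
  simp only [List.nodup_cons, List.mem_cons, List.not_mem_nil, or_false, not_or,
    List.nodup_nil, and_true, not_false_eq_true] at hnd'
  obtain ⟨⟨npq, npr, nps⟩, ⟨nqr, nqs⟩, nrs⟩ := hnd'
  obtain ⟨g, g1, g2, g3, g4⟩ := ht q r p s r q p s (by
      simp only [List.nodup_cons, List.mem_cons, List.not_mem_nil, or_false, not_or,
        List.nodup_nil, and_true, not_false_eq_true]
      exact ⟨⟨nqr, Ne.symm npq, nqs⟩, ⟨Ne.symm npr, nrs⟩, nps⟩) (by
      simp only [List.nodup_cons, List.mem_cons, List.not_mem_nil, or_false, not_or,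
        List.nodup_nil, and_true, not_false_eq_true]
      exact ⟨⟨Ne.symm nqr, Ne.symm npr, nrs⟩, ⟨Ne.symm npq, nqs⟩, nps⟩)
  refine ⟨g, g1, g2, g3, g4, ?_⟩
  have yiq : y⁻¹ • q = s := by rw [inv_smul_eq_iff, hs']
  have yir : y⁻¹ • r = q := by rw [inv_smul_eq_iff, hq]
  have yis : y⁻¹ • s = r := by rw [inv_smul_eq_iff, hr]
  have yip : y⁻¹ • p = p := by rw [inv_smul_eq_iff, hp]
  have yif : y⁻¹ • f = f := by rw [inv_smul_eq_iff, hf]
  have hcomm : y * g = g * y⁻¹ := by
    apply h8_agree4 hs (y * g) (g * y⁻¹) p q r s hnd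
    · rw [mul_smul, mul_smul, g3, hp, yip, g3]
    · rw [mul_smul, mul_smul, g1, hr, yiq, g4]
    · rw [mul_smul, mul_smul, g2, hq, yir, g1]
    · rw [mul_smul, mul_smul, g4, hs', yis, g2]
  have hfix : y • (g • f) = g • f := by
    rw [← mul_smul, hcomm, mul_smul, yif]
  rcases hfu _ hfix with h | h
  · exfalso
    apply hfp
    have : g • f = g • p := by rw [h, g3]
    exact MulAction.injective g this
  · exact h

/-- the three transpositions fixing `p` share the extra fixed point of the rotation -/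
theorem h8_rot_swap (hs : h8_Sharp4 G Ω) (ht : h8_Trans4 G Ω) (hΩ : Fintype.card Ω = 11)
    (p q r s : Ω) (hnd : [p, q, r, s].Nodup) :
    ∃ f : Ω, f ∉ [p, q, r, s] ∧
      (∃ g : G, g • q = r ∧ g • r = q ∧ g • p = p ∧ g • s = s ∧ g • f = f) ∧
      (∃ g : G, g • r = s ∧ g • s = r ∧ g • p = p ∧ g • q = q ∧ g • f = f) := by
  have hnd' := hnd
  simp only [List.nodup_cons, List.mem_cons, List.not_mem_nil, or_false, not_or,
    List.nodup_nil, and_true, not_false_eq_true] at hnd'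
  obtain ⟨⟨npq, npr, nps⟩, ⟨nqr, nqs⟩, nrs⟩ := hnd'
  obtain ⟨y, y1, y2, y3, y4⟩ := ht p q r s p r s q hnd (by
      simp only [List.nodup_cons, List.mem_cons, List.not_mem_nil, or_false, not_or,
        List.nodup_nil, and_true, not_false_eq_true]
      exact ⟨⟨npr, nps, npq⟩, ⟨nrs, Ne.symm nqr⟩, Ne.symm nqs⟩)
  obtain ⟨f, hfn, hf, hfu⟩ := h8_rot_extra hs hΩ y p q r s hnd y1 y2 y3 y4
  have hfn' := hfn
  simp only [List.mem_cons, List.not_mem_nil, or_false, not_or] at hfn'
  refine ⟨f, hfn, ?_, ?_⟩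
  · exact h8_rot_swap_one hs ht y p q r s f hnd y1 y2 y3 y4 hfn'.1 hf hfu
  · exact h8_rot_swap_one hs ht y p r s q f (by
      simp only [List.nodup_cons, List.mem_cons, List.not_mem_nil, or_false, not_or,
        List.nodup_nil, and_true, not_false_eq_true]
      exact ⟨⟨npr, nps, npq⟩, ⟨nrs, Ne.symm nqr⟩, Ne.symm nqs⟩) y1 y3 y4 y2 hfn'.1 hf hfu

/-- `g` swaps `v i`, `v j` and fixes the other three points -/
def h8_Sw (G : Type u) [Group G] {Ω : Type v} [MulAction G Ω] (v : Fin 5 → Ω) (i j : Fin 5) :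
    Prop :=
  ∃ g : G, g • v i = v j ∧ g • v j = v i ∧ ∀ k, k ≠ i → k ≠ j → g • v k = v k

theorem h8_sw_symm (v : Fin 5 → Ω) (i j : Fin 5) (h : h8_Sw G v i j) : h8_Sw G v j i := by
  obtain ⟨g, g1, g2, g3⟩ := h
  exact ⟨g, g2, g1, fun k hk1 hk2 => g3 k hk2 hk1⟩

theorem h8_fin5_rest : ∀ i j k : Fin 5, i ≠ j → i ≠ k → j ≠ k →
    ∃ l m : Fin 5, l ≠ m ∧ l ≠ i ∧ l ≠ j ∧ l ≠ k ∧ m ≠ i ∧ m ≠ j ∧ m ≠ k ∧
      ∀ x : Fin 5, x = i ∨ x = j ∨ x = k ∨ x = l ∨ x = m := by
  decide

theorem h8_sw_step (hs : h8_Sharp4 G Ω) (ht : h8_Trans4 G Ω) (hΩ : Fintype.card Ω = 11)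
    (v : Fin 5 → Ω) (hv : Function.Injective v) (i j k : Fin 5) (hij : i ≠ j) (hik : i ≠ k)
    (hjk : j ≠ k) (h : h8_Sw G v i j) : h8_Sw G v j k := by
  obtain ⟨l, m, hlm, hli, hlj, hlk, hmi, hmj, hmk, hall⟩ := h8_fin5_rest i j k hij hik hjk
  obtain ⟨g, g1, g2, g3⟩ := h
  have hnd : [v l, v i, v j, v k].Nodup := by
    simp only [List.nodup_cons, List.mem_cons, List.not_mem_nil, or_false, not_or,
      List.nodup_nil, and_true, not_false_eq_true]
    exact ⟨⟨hv.ne hli, hv.ne hlj, hv.ne hlk⟩, ⟨hv.ne hij, hv.ne hik⟩, hv.ne hjk⟩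
  obtain ⟨f, hfn, ⟨g₁, a1, a2, a3, a4, a5⟩, ⟨g₂, b1, b2, b3, b4, b5⟩⟩ :=
    h8_rot_swap hs ht hΩ (v l) (v i) (v j) (v k) hnd
  simp only [List.mem_cons, List.not_mem_nil, or_false, not_or] at hfn
  obtain ⟨hfl, hfi, hfj, hfk⟩ := hfn
  have hg : g₁ = g := by
    apply h8_agree4 hs g₁ g (v l) (v i) (v j) (v k) hnd
    · rw [a3, g3 l hli hlj]
    · rw [a1, g1]
    · rw [a2, g2]
    · rw [a4, g3 k (Ne.symm hik) (Ne.symm hjk)]
  rw [hg] at a5
  have hfm : f = v m := by
    by_contra hne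
    have hone : g = 1 := hs g (v k) (v l) (v m) f (by
      simp only [List.nodup_cons, List.mem_cons, List.not_mem_nil, or_false, not_or,
        List.nodup_nil, and_true, not_false_eq_true]
      exact ⟨⟨hv.ne (Ne.symm hlk), hv.ne (Ne.symm hmk), Ne.symm hfk⟩,
        ⟨hv.ne hlm, Ne.symm hfl⟩, Ne.symm hne⟩)
      (g3 k (Ne.symm hik) (Ne.symm hjk)) (g3 l hli hlj) (g3 m hmi hmj) a5
    rw [hone, one_smul] at g1
    exact hv.ne hij g1
  refine ⟨g₂, b1, b2, ?_⟩
  intro x hxj hxk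
  rcases hall x with rfl | rfl | rfl | rfl | rfl
  · exact b4
  · exact absurd rfl hxj
  · exact absurd rfl hxk
  · exact b3
  · rw [← hfm]
    exact b5

theorem h8_sw_all (hs : h8_Sharp4 G Ω) (ht : h8_Trans4 G Ω) (hΩ : Fintype.card Ω = 11)
    (v : Fin 5 → Ω) (hv : Function.Injective v) (i₀ j₀ : Fin 5) (h0 : i₀ ≠ j₀)
    (h : h8_Sw G v i₀ j₀) : ∀ i j : Fin 5, i ≠ j → h8_Sw G v i j := by
  -- replace the second endpoint
  have hsnd : ∀ i j k : Fin 5, i ≠ j → i ≠ k → j ≠ k → h8_Sw G v i j → h8_Sw G v i k := by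
    intro i j k hij hik hjk hh
    exact h8_sw_step hs ht hΩ v hv j i k (Ne.symm hij) hjk hik (h8_sw_symm v i j hh)
  -- replace the first endpoint
  have hfst : ∀ i j k : Fin 5, i ≠ j → i ≠ k → j ≠ k → h8_Sw G v i j → h8_Sw G v k j := by
    intro i j k hij hik hjk hh
    exact h8_sw_symm v j k (h8_sw_step hs ht hΩ v hv i j k hij hik hjk hh)
  intro i j hij
  by_cases hi : i = i₀
  · subst hi
    by_cases hj : j = j₀
    · subst hj
      exact h
    · exact hsnd i j₀ j h0 hij (Ne.symm hj) h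
  · by_cases hi' : i = j₀
    · subst hi'
      by_cases hj : j = i₀
      · subst hj
        exact h8_sw_symm v j i h
      · exact hsnd i i₀ j (Ne.symm h0) hij (Ne.symm hj) (h8_sw_symm v i₀ i h)
    · have h1 : h8_Sw G v i j₀ := hfst i₀ j₀ i h0 (Ne.symm hi) (Ne.symm hi') h
      by_cases hj : j = j₀
      · subst hj
        exact h1
      · exact hsnd i j₀ j hi' hij (Ne.symm hj) h1

/-- the blocks: five points on which `G` induces all transpositions -/
def h8_Blk (G : Type u) [Group G] {Ω : Type v} [MulAction G Ω] (s : Finset Ω) : Prop :=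
  s.card = 5 ∧ ∀ p ∈ s, ∀ q ∈ s, p ≠ q →
    ∃ g : G, g • p = q ∧ g • q = p ∧ ∀ r ∈ s, r ≠ p → r ≠ q → g • r = r

theorem h8_blk_exists (hs : h8_Sharp4 G Ω) (ht : h8_Trans4 G Ω) (hΩ : Fintype.card Ω = 11)
    (a b c d : Ω) (hnd : [a, b, c, d].Nodup) :
    ∃ s : Finset Ω, h8_Blk G s ∧ a ∈ s ∧ b ∈ s ∧ c ∈ s ∧ d ∈ s := by
  have hnd' := hnd
  simp only [List.nodup_cons, List.mem_cons, List.not_mem_nil, or_false, not_or,
    List.nodup_nil, and_true, not_false_eq_true] at hnd'
  obtain ⟨⟨nab, nac, nad⟩, ⟨nbc, nbd⟩, ncd⟩ := hnd'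
  obtain ⟨g, g1, g2, g3, g4⟩ := ht a b c d b a c d hnd (by
      simp only [List.nodup_cons, List.mem_cons, List.not_mem_nil, or_false, not_or,
        List.nodup_nil, and_true, not_false_eq_true]
      exact ⟨⟨Ne.symm nab, nbc, nbd⟩, ⟨nac, nad⟩, ncd⟩)
  obtain ⟨e, hen, he, -⟩ := h8_swap_extra hs hΩ g a b c d hnd g1 g2 g3 g4
  simp only [List.mem_cons, List.not_mem_nil, or_false, not_or] at hen
  obtain ⟨hea, heb, hec, hed⟩ := hen
  set v : Fin 5 → Ω := ![a, b, c, d, e] with hvdef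
  have hv : Function.Injective v := by
    rw [← List.nodup_ofFn]
    simp only [hvdef, List.ofFn_succ, List.ofFn_zero, Matrix.cons_val_zero, Matrix.cons_val_succ,
      List.nodup_cons, List.mem_cons, List.not_mem_nil, or_false, not_or, List.nodup_nil,
      and_true, not_false_eq_true]
    exact ⟨⟨nab, nac, nad, Ne.symm hea⟩, ⟨nbc, nbd, Ne.symm heb⟩, ⟨ncd, Ne.symm hec⟩, Ne.symm hed⟩
  have h01 : h8_Sw G v 0 1 := by
    refine ⟨g, g1, g2, ?_⟩
    intro k hk0 hk1
    fin_cases k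
    · exact absurd rfl hk0
    · exact absurd rfl hk1
    · exact g3
    · exact g4
    · exact he
  have hall := h8_sw_all hs ht hΩ v hv 0 1 (by decide) h01
  refine ⟨Finset.univ.image v, ⟨?_, ?_⟩, ?_, ?_, ?_, ?_⟩
  · rw [Finset.card_image_of_injective _ hv]
    simp
  · intro p hp q hq hpq
    obtain ⟨i, -, rfl⟩ := Finset.mem_image.mp hp
    obtain ⟨j, -, rfl⟩ := Finset.mem_image.mp hq
    have hij : i ≠ j := fun h => hpq (by rw [h])
    obtain ⟨t, t1, t2, t3⟩ := hall i j hij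
    refine ⟨t, t1, t2, ?_⟩
    intro r hr hri hrj
    obtain ⟨k, -, rfl⟩ := Finset.mem_image.mp hr
    exact t3 k (fun h => hri (by rw [h])) (fun h => hrj (by rw [h]))
  · exact Finset.mem_image.mpr ⟨0, Finset.mem_univ _, rfl⟩
  · exact Finset.mem_image.mpr ⟨1, Finset.mem_univ _, rfl⟩
  · exact Finset.mem_image.mpr ⟨2, Finset.mem_univ _, rfl⟩
  · exact Finset.mem_image.mpr ⟨3, Finset.mem_univ _, rfl⟩

theorem h8_blk_unique (hs : h8_Sharp4 G Ω) (s s' : Finset Ω) (h : h8_Blk G s) (h' : h8_Blk G s')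
    (X : Finset Ω) (hX : X.card = 4) (hXs : X ⊆ s) (hXs' : X ⊆ s') : s = s' := by
  obtain ⟨p, Y, hpY, rfl, hY⟩ := Finset.card_eq_succ.mp hX
  obtain ⟨q, r, t, hqr, hqt, hrt, rfl⟩ := Finset.card_eq_three.mp hY
  simp only [Finset.mem_insert, Finset.mem_singleton, not_or] at hpY
  obtain ⟨hpq, hpr, hpt⟩ := hpY
  have hnd : [p, q, r, t].Nodup := by
    simp only [List.nodup_cons, List.mem_cons, List.not_mem_nil, or_false, not_or,
      List.nodup_nil, and_true, not_false_eq_true]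
    exact ⟨⟨hpq, hpr, hpt⟩, ⟨hqr, hqt⟩, hrt⟩
  have hmem : ∀ u : Finset Ω, insert p ({q, r, t} : Finset Ω) ⊆ u →
      p ∈ u ∧ q ∈ u ∧ r ∈ u ∧ t ∈ u := by
    intro u hu
    refine ⟨hu ?_, hu ?_, hu ?_, hu ?_⟩ <;> simp
  -- the fifth point of a block
  have hfifth : ∀ u : Finset Ω, u.card = 5 → insert p ({q, r, t} : Finset Ω) ⊆ u →
      ∃ z, z ∈ u ∧ z ∉ insert p ({q, r, t} : Finset Ω) ∧ u = insert z (insert p {q, r, t}) := by
    intro u hu5 hsub
    have hlt : (insert p ({q, r, t} : Finset Ω)).card < u.card := by rw [hX, hu5]; norm_num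
    obtain ⟨z, hzu, hzn⟩ := Finset.exists_mem_notMem_of_card_lt_card hlt
    refine ⟨z, hzu, hzn, ?_⟩
    symm
    apply Finset.eq_of_subset_of_card_le
    · intro w hw
      rcases Finset.mem_insert.mp hw with rfl | hw
      · exact hzu
      · exact hsub hw
    · rw [Finset.card_insert_of_notMem hzn, hX, hu5]
  obtain ⟨z, hzs, hzn, hsz⟩ := hfifth s h.1 hXs
  obtain ⟨z', hzs', hzn', hsz'⟩ := hfifth s' h'.1 hXs'
  obtain ⟨ps, qs, rs, ts⟩ := hmem s hXs
  obtain ⟨ps', qs', rs', ts'⟩ := hmem s' hXs'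
  simp only [Finset.mem_insert, Finset.mem_singleton, not_or] at hzn hzn'
  obtain ⟨g, g1, g2, g3⟩ := h.2 p ps q qs hpq
  obtain ⟨g', g1', g2', g3'⟩ := h'.2 p ps' q qs' hpq
  have hgg : g = g' := by
    apply h8_agree4 hs g g' p q r t hnd
    · rw [g1, g1']
    · rw [g2, g2']
    · rw [g3 r rs (Ne.symm hpr) (Ne.symm hqr), g3' r rs' (Ne.symm hpr) (Ne.symm hqr)]
    · rw [g3 t ts (Ne.symm hpt) (Ne.symm hqt), g3' t ts' (Ne.symm hpt) (Ne.symm hqt)]
  have hzz : z = z' := by
    by_contra hne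
    have hone : g = 1 := hs g r t z z' (by
      simp only [List.nodup_cons, List.mem_cons, List.not_mem_nil, or_false, not_or,
        List.nodup_nil, and_true, not_false_eq_true]
      exact ⟨⟨hrt, Ne.symm hzn.2.2.1, Ne.symm hzn'.2.2.1⟩,
        ⟨Ne.symm hzn.2.2.2, Ne.symm hzn'.2.2.2⟩, hne⟩)
      (g3 r rs (Ne.symm hpr) (Ne.symm hqr)) (g3 t ts (Ne.symm hpt) (Ne.symm hqt))
      (g3 z hzs hzn.1 hzn.2.1) (by rw [hgg]; exact g3' z' hzs' hzn'.1 hzn'.2.1)
    rw [hone, one_smul] at g1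
    exact hpq g1
  rw [hsz, hsz', hzz]

theorem h8_blk_smul (h : G) (s : Finset Ω) (hs : h8_Blk G s) :
    h8_Blk G (s.image (fun ω => h • ω)) := by
  refine ⟨?_, ?_⟩
  · rw [Finset.card_image_of_injective _ (MulAction.injective h)]
    exact hs.1
  · intro p' hp' q' hq' hpq'
    obtain ⟨p, hp, rfl⟩ := Finset.mem_image.mp hp'
    obtain ⟨q, hq, rfl⟩ := Finset.mem_image.mp hq'
    have hpq : p ≠ q := fun e => hpq' (by rw [e])
    obtain ⟨g, g1, g2, g3⟩ := hs.2 p hp q hq hpq
    refine ⟨h * g * h⁻¹, ?_, ?_, ?_⟩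
    · rw [mul_smul, mul_smul, inv_smul_smul, g1]
    · rw [mul_smul, mul_smul, inv_smul_smul, g2]
    · intro r' hr' hrp hrq
      obtain ⟨r, hr, rfl⟩ := Finset.mem_image.mp hr'
      rw [mul_smul, mul_smul, inv_smul_smul,
        g3 r hr (fun e => hrp (by rw [e])) (fun e => hrq (by rw [e]))]

/-- the Steiner system from sharpness and `4`-transitivity -/
theorem h8_steiner (hs : h8_Sharp4 G Ω) (ht : h8_Trans4 G Ω) (hΩ : Fintype.card Ω = 11) :
    Cfsg.IsSteinerSystem 4 5 {s : Finset Ω | h8_Blk G s} ∧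
      ∀ g : G, ∀ b ∈ {s : Finset Ω | h8_Blk G s}, b.image (fun ω => g • ω) ∈
        {s : Finset Ω | h8_Blk G s} := by
  refine ⟨⟨fun b hb => hb.1, ?_⟩, fun g b hb => h8_blk_smul g b hb⟩
  intro X hX
  obtain ⟨p, Y, hpY, hXe, hY⟩ := Finset.card_eq_succ.mp hX
  obtain ⟨q, r, t, hqr, hqt, hrt, rfl⟩ := Finset.card_eq_three.mp hY
  have hpY' := hpY
  simp only [Finset.mem_insert, Finset.mem_singleton, not_or] at hpY'
  obtain ⟨hpq, hpr, hpt⟩ := hpY'
  have hnd : [p, q, r, t].Nodup := by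
    simp only [List.nodup_cons, List.mem_cons, List.not_mem_nil, or_false, not_or,
      List.nodup_nil, and_true, not_false_eq_true]
    exact ⟨⟨hpq, hpr, hpt⟩, ⟨hqr, hqt⟩, hrt⟩
  obtain ⟨s, hsB, ps, qs, rs, ts⟩ := h8_blk_exists hs ht hΩ p q r t hnd
  have hXs : X ⊆ s := by
    rw [← hXe]
    intro w hw
    simp only [Finset.mem_insert, Finset.mem_singleton] at hw
    rcases hw with rfl | rfl | rfl | rfl
    · exact ps
    · exact qs
    · exact rs
    · exact ts
  refine ⟨s, ⟨hsB, hXs⟩, ?_⟩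
  rintro s' ⟨hs'B, hXs'⟩
  exact h8_blk_unique hs s' s hs'B hsB X hX hXs' hXs

end Core

/-! ### from the instance hypotheses to `h8_Sharp4`, `h8_Trans4` -/

section Inst

variable {G : Type u} [Group G] [Finite G] {Ω : Type v} [Fintype Ω] [DecidableEq Ω]
  [MulAction G Ω]

/-- the embedding `Fin 4 ↪ Ω` of four distinct points -/
def h8_emb4 (a b c d : Ω) (hnd : [a, b, c, d].Nodup) : Fin 4 ↪ Ω :=
  ⟨![a, b, c, d], by
    rw [← List.nodup_ofFn]
    simpa [List.ofFn_succ] using hnd⟩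

theorem h8_trans4_of_inst [MulAction.IsMultiplyPretransitive G Ω 4] : h8_Trans4 G Ω := by
  intro a b c d a' b' c' d' hnd hnd'
  obtain ⟨g, hg⟩ := MulAction.exists_smul_eq G (h8_emb4 a b c d hnd) (h8_emb4 a' b' c' d' hnd')
  refine ⟨g, ?_, ?_, ?_, ?_⟩
  · simpa [h8_emb4] using congrArg (fun e : Fin 4 ↪ Ω => e 0) hg
  · simpa [h8_emb4] using congrArg (fun e : Fin 4 ↪ Ω => e 1) hg
  · simpa [h8_emb4] using congrArg (fun e : Fin 4 ↪ Ω => e 2) hg
  · simpa [h8_emb4] using congrArg (fun e : Fin 4 ↪ Ω => e 3) hg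

theorem h8_sharp4_of_inst (hcard : Nat.card G = 7920) (hΩ : Fintype.card Ω = 11)
    [MulAction.IsMultiplyPretransitive G Ω 4] : h8_Sharp4 G Ω := by
  intro g a b c d hnd ha hb hc hd
  set x : Fin 4 ↪ Ω := h8_emb4 a b c d hnd with hx
  -- the stabilizer of `x` is trivial by counting
  have horb : MulAction.orbit G x = Set.univ := MulAction.orbit_eq_univ G x
  have hidx : (MulAction.stabilizer G x).index = 7920 := by
    rw [MulAction.index_stabilizer, horb, Set.ncard_univ, Nat.card_eq_fintype_card,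
      Fintype.card_embedding_eq, hΩ, Fintype.card_fin]
    rfl
  have hmul := Subgroup.index_mul_card (MulAction.stabilizer G x)
  rw [hidx, hcard] at hmul
  have hone : Nat.card (MulAction.stabilizer G x) = 1 := by omega
  have hbot : MulAction.stabilizer G x = ⊥ := Subgroup.card_eq_one.mp hone
  have hmem : g ∈ MulAction.stabilizer G x := by
    rw [MulAction.mem_stabilizer_iff]
    ext i
    fin_cases i
    · simpa [hx, h8_emb4] using ha
    · simpa [hx, h8_emb4] using hb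
    · simpa [hx, h8_emb4] using hc
    · simpa [hx, h8_emb4] using hd
  rw [hbot] at hmem
  exact Subgroup.mem_bot.mp hmem

/-- **PART C.** -/
theorem steiner_of_sharp4 {G : Type u} [Group G] [Finite G] (hcard : Nat.card G = 7920)
    {Ω : Type v} [Fintype Ω] [DecidableEq Ω] [MulAction G Ω] [FaithfulSMul G Ω]
    (hΩ : Fintype.card Ω = 11) [MulAction.IsMultiplyPretransitive G Ω 4] :
    ∃ B : Set (Finset Ω), Cfsg.IsSteinerSystem 4 5 B ∧
      ∀ g : G, ∀ b ∈ B, b.image (fun ω => g • ω) ∈ B :=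
  ⟨{s : Finset Ω | h8_Blk G s},
    h8_steiner (h8_sharp4_of_inst hcard hΩ) h8_trans4_of_inst hΩ⟩

end Inst

end Cfsg.Agent.M11U
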