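import Mathlib
import Cfsg.Prelude.Def_Sporadic_a
import Cfsg.Agent.M11U.H8_Steiner
import Cfsg.Agent.M11U.H3_PartD

/-!
# S0420, PART C + D: `iso_aut_of_sharp4`

A group of order `7920` acting faithfully and `4`-transitively on `11` points is the full
automorphism group of a Steiner system `S(4,5,11)` on these points.
-/

set_option autoImplicit false

namespace Cfsg.Agent.M11U

universe u v

theorem iso_aut_of_sharp4 {G : Type u} [Group G] [Finite G] (hcard : Nat.card G = 7920)
    {Ω : Type v} [Fintype Ω] [DecidableEq Ω] [MulAction G Ω] [FaithfulSMul G Ω]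
    (hΩ : Fintype.card Ω = 11) [MulAction.IsMultiplyPretransitive G Ω 4] :
    ∃ B : Set (Finset Ω), Cfsg.IsSteinerSystem 4 5 B ∧ Nonempty (G ≃* Cfsg.setSystemAut B) := by
  obtain ⟨B, hB, hinv⟩ := steiner_of_sharp4 hcard hΩ
  exact ⟨B, hB, iso_aut_of_invariant hcard hΩ B hB hinv⟩

end Cfsg.Agent.M11U
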