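import Mathlib
import Cfsg.Prelude.Def_Sporadic_a
import Cfsg.Prelude.Def_Sporadic
import Cfsg.Agent.S0384
import Cfsg.Agent.S0387

/-!
# S0420 / M11U, PART E (helper9): the concrete group `Stab(d) ⊓ Stab(p)` acts faithfully and
4-transitively on the eleven points of `d \ {p}`, and has order 7920.
-/

set_option autoImplicit false

namespace Cfsg.Agent.M11U

open Cfsg
open scoped Pointwise

/-- the eleven points of the dodecad `d` other than `p` -/
abbrev h9_Pts (d : Finset GolayPt) (p : GolayPt) : Type := {a : GolayPt // a ∈ d ∧ a ≠ p}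

/-- the concrete group -/
abbrev h9_Hc (d : Finset GolayPt) (p : GolayPt) : Subgroup M24 :=
  MulAction.stabilizer M24 d ⊓ MulAction.stabilizer M24 p

theorem h9_mem_d {d : Finset GolayPt} {p : GolayPt} (g : h9_Hc d p) {a : GolayPt} (ha : a ∈ d) :
    ((g : M24) : Equiv.Perm GolayPt) a ∈ d := by
  have h1 : (g : M24) • d = d := MulAction.mem_stabilizer_iff.mp (Subgroup.mem_inf.mp g.2).1
  have h2 : (g : M24) • a ∈ (g : M24) • d := Finset.smul_mem_smul_finset ha
  rw [h1] at h2
  exact h2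

theorem h9_fix_p {d : Finset GolayPt} {p : GolayPt} (g : h9_Hc d p) :
    ((g : M24) : Equiv.Perm GolayPt) p = p :=
  MulAction.mem_stabilizer_iff.mp (Subgroup.mem_inf.mp g.2).2

theorem h9_ne_p {d : Finset GolayPt} {p : GolayPt} (g : h9_Hc d p) {a : GolayPt} (ha : a ≠ p) :
    ((g : M24) : Equiv.Perm GolayPt) a ≠ p := by
  intro h
  apply ha
  apply ((g : M24) : Equiv.Perm GolayPt).injective
  rw [h, h9_fix_p]

/-- the action of the concrete group on the eleven points -/
def h9_act (d : Finset GolayPt) (p : GolayPt) : MulAction (h9_Hc d p) (h9_Pts d p) where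
  smul g a := ⟨((g : M24) : Equiv.Perm GolayPt) a.1, h9_mem_d g a.2.1, h9_ne_p g a.2.2⟩
  one_smul a := Subtype.ext (by
    show (((1 : h9_Hc d p) : M24) : Equiv.Perm GolayPt) a.1 = a.1
    simp)
  mul_smul g h a := Subtype.ext (by
    show (((g * h : h9_Hc d p) : M24) : Equiv.Perm GolayPt) a.1 =
      ((g : M24) : Equiv.Perm GolayPt) (((h : M24) : Equiv.Perm GolayPt) a.1)
    simp)

theorem h9_act_val (d : Finset GolayPt) (p : GolayPt) (g : h9_Hc d p) (a : h9_Pts d p) :
    (letI := h9_act d p; (g • a : h9_Pts d p)).1 = ((g : M24) : Equiv.Perm GolayPt) a.1 := rfl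

theorem h9_card_pts (d : Finset GolayPt) (hd : d ∈ dodecads) (p : GolayPt) (hp : p ∈ d) :
    Fintype.card (h9_Pts d p) = 11 := by
  have hc : d.card = 12 := hd.2
  rw [Fintype.card_subtype]
  have : (Finset.univ.filter fun a : GolayPt => a ∈ d ∧ a ≠ p) = d.erase p := by
    ext a
    simp [and_comm]
  rw [this, Finset.card_erase_of_mem hp, hc]

theorem h9_exists_emb (d : Finset GolayPt) (hd : d ∈ dodecads) :
    ∃ x : Fin 5 ↪ GolayPt, ∀ i, x i ∈ d := by
  have hc : d.card = 12 := hd.2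
  have : Fintype.card (Fin 5) ≤ Fintype.card d := by
    rw [Fintype.card_coe, hc]; simp
  obtain ⟨f⟩ := Function.Embedding.nonempty_of_card_le this
  exact ⟨f.trans (Function.Embedding.subtype _), fun i => (f i).2⟩

theorem h9_faithful (d : Finset GolayPt) (hd : d ∈ dodecads) (p : GolayPt) (_hp : p ∈ d) :
    @FaithfulSMul (h9_Hc d p) (h9_Pts d p) (h9_act d p).toSMul := by
  letI := h9_act d p
  refine ⟨?_⟩
  intro g h hgh
  -- g and h agree on all of d
  have hag : ∀ a ∈ d, ((g : M24) : Equiv.Perm GolayPt) a = ((h : M24) : Equiv.Perm GolayPt) a := by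
    intro a ha
    by_cases hap : a = p
    · rw [hap, h9_fix_p, h9_fix_p]
    · have := congrArg Subtype.val (hgh ⟨a, ha, hap⟩)
      exact this
  obtain ⟨x, hx⟩ := h9_exists_emb d hd
  let y : Fin 5 ↪ GolayPt := x.trans (((g : M24) : Equiv.Perm GolayPt).toEmbedding)
  have hy : ∀ i, y i ∈ d := fun i => h9_mem_d g (hx i)
  obtain ⟨g₀, -, huniq⟩ := Cfsg.Agent.S0384.result d hd x y hx hy
  have h1 := huniq ⟨(g : M24), (Subgroup.mem_inf.mp g.2).1⟩ (fun i => rfl)
  have h2 := huniq ⟨(h : M24), (Subgroup.mem_inf.mp h.2).1⟩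
    (fun i => (hag (x i) (hx i)).symm)
  have h3 : (g : M24) = (h : M24) := by
    have := h1.trans h2.symm
    exact congrArg (fun z : MulAction.stabilizer M24 d => (z : M24)) this
  exact Subtype.ext h3

theorem h9_pretrans (d : Finset GolayPt) (hd : d ∈ dodecads) (p : GolayPt) (hp : p ∈ d) :
    @MulAction.IsMultiplyPretransitive (h9_Hc d p) (h9_Pts d p) _ (h9_act d p) 4 := by
  letI := h9_act d p
  rw [MulAction.isMultiplyPretransitive_iff]
  intro x y
  have hinj : ∀ z : Fin 4 ↪ h9_Pts d p,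
      Function.Injective (Fin.cons p (fun i => (z i).1) : Fin 5 → GolayPt) := by
    intro z
    rw [Fin.cons_injective_iff]
    refine ⟨?_, ?_⟩
    · rintro ⟨i, hi⟩
      exact (z i).2.2 hi
    · intro i j hij
      exact z.injective (Subtype.ext hij)
  let x' : Fin 5 ↪ GolayPt := ⟨_, hinj x⟩
  let y' : Fin 5 ↪ GolayPt := ⟨_, hinj y⟩
  have hmem : ∀ z : Fin 4 ↪ h9_Pts d p, ∀ i : Fin 5,
      (Fin.cons p (fun i => (z i).1) : Fin 5 → GolayPt) i ∈ d := by
    intro z i
    refine Fin.cases ?_ (fun j => ?_) i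
    · simpa using hp
    · simpa using (z j).2.1
  obtain ⟨g₀, hg₀, -⟩ := Cfsg.Agent.S0384.result d hd x' y' (hmem x) (hmem y)
  have hp0 : ((g₀ : M24) : Equiv.Perm GolayPt) p = p := by
    have := hg₀ 0
    simpa [x', y'] using this
  have hmemHc : (g₀ : M24) ∈ h9_Hc d p :=
    Subgroup.mem_inf.mpr ⟨g₀.2, MulAction.mem_stabilizer_iff.mpr hp0⟩
  refine ⟨⟨(g₀ : M24), hmemHc⟩, ?_⟩
  apply Function.Embedding.ext
  intro i
  rw [Function.Embedding.smul_apply]
  apply Subtype.ext
  have := hg₀ i.succ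
  have h2 : ((g₀ : M24) : Equiv.Perm GolayPt) (x i).1 = (y i).1 := by simpa [x', y'] using this
  exact h2

end Cfsg.Agent.M11U
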