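import Mathlib
import Cfsg.Prelude.Def_Sporadic_a
import Cfsg.Prelude.Def_Sporadic
import Cfsg.Agent.S0387
import Cfsg.Agent.M11U.H9_Concrete
import Cfsg.Agent.M11U.H8_IsoAut

/-!
# S0420 / M11U, PART E (helper9): the concrete group `Stab(d) ⊓ Stab(p)` is the automorphism
group of a Steiner system `S(4,5,11)` on the eleven points of `d \ {p}`.
-/

set_option autoImplicit false

namespace Cfsg.Agent.M11U

open Cfsg
open scoped Pointwise

theorem concrete_iso_aut (d : Finset Cfsg.GolayPt) (hd : d ∈ Cfsg.dodecads) (p : Cfsg.GolayPt)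
    (hp : p ∈ d) :
    ∃ (Ω : Type) (_ : Fintype Ω) (_ : DecidableEq Ω) (B : Set (Finset Ω)), Fintype.card Ω = 11 ∧
      Cfsg.IsSteinerSystem 4 5 B ∧
      Nonempty (↥(MulAction.stabilizer Cfsg.M24 d ⊓ MulAction.stabilizer Cfsg.M24 p) ≃*
        Cfsg.setSystemAut B) := by
  letI := h9_act d p
  haveI := h9_faithful d hd p hp
  haveI := h9_pretrans d hd p hp
  have hcard : Nat.card (h9_Hc d p) = 7920 := Cfsg.Agent.S0387.result d hd p hp
  obtain ⟨B, hB, hiso⟩ := iso_aut_of_sharp4 (G := h9_Hc d p) hcard (Ω := h9_Pts d p)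
    (h9_card_pts d hd p hp)
  exact ⟨h9_Pts d p, inferInstance, inferInstance, B, h9_card_pts d hd p hp, hB, hiso⟩

end Cfsg.Agent.M11U
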