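import Mathlib
import Cfsg.Prelude.Def_Characters

/-!
# S0420: interface structures (see `notes/S0420_blueprint.md`)

`GFacts`, `CFacts`: what the M11 cluster exports about a simple group of order `7920`.
`LocalCfg`: the local configuration `P, R, S, S', t` used to build a subgroup of index `11`.
-/

set_option autoImplicit false

namespace Cfsg.Agent.M11U

universe u

/-- the group-theoretic facts about a simple group of order `7920` -/
structure GFacts (G : Type u) [Group G] : Prop where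
  simple : IsSimpleGroup G
  card : Nat.card G = 7920
  conj2 : ∀ a b : G, orderOf a = 2 → orderOf b = 2 → IsConj a b
  cent2 : ∀ a : G, orderOf a = 2 → Nat.card (Subgroup.centralizer ({a} : Set G)) = 48
  cent3 : ∀ x : G, orderOf x = 3 → Nat.card (Subgroup.centralizer ({x} : Set G)) = 18
  no9 : ∀ x : G, orderOf x ≠ 9
  norm3 : ∀ P : Sylow 3 G, Nat.card (Subgroup.normalizer ((P : Subgroup G) : Set G)) = 144

/-- the character-theoretic facts: the rational irreducible character of degree `10` -/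
structure CFacts (G : Type u) [Group G] (χ : Cfsg.IrrCharacter G) : Prop where
  deg : (χ : G → ℂ) 1 = 10
  val2 : ∀ a : G, orderOf a = 2 → (χ : G → ℂ) a = 2
  val3 : ∀ x : G, orderOf x = 3 → (χ : G → ℂ) x = 1

/-- the local configuration: `P` a Sylow `3`-subgroup, `t` the involution inverting it,
`S` a Sylow `2`-subgroup of `N(P)` (inside `C(t)`), `R = O₂(C(t))`, `S'` a second Sylow
`2`-subgroup of `C(t)`. -/
structure LocalCfg (G : Type u) [Group G] where
  P : Subgroup G
  R : Subgroup G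
  S : Subgroup G
  S' : Subgroup G
  t : G
  cardP : Nat.card P = 9
  cardR : Nat.card R = 8
  cardS : Nat.card S = 16
  ht : orderOf t = 2
  tR : t ∈ R
  RS : R ≤ S
  RS' : R ≤ S'
  RN : R ≤ Subgroup.normalizer (P : Set G)
  S'N : ¬ S' ≤ Subgroup.normalizer (P : Set G)
  conjS : ∃ g : G, S' = S.map (MulAut.conj g).toMonoidHom
  inv : ∀ y ∈ P, t * y * t⁻¹ = y⁻¹
  reg : ∀ r ∈ R, r ≠ 1 → ∀ y ∈ P, y ≠ 1 → r * y * r⁻¹ ≠ y
  ord4 : ∀ r ∈ R, r ≠ 1 → r ≠ t → orderOf r = 4
  conj4 : ∀ r ∈ R, ∀ r' ∈ R, orderOf r = 4 → orderOf r' = 4 → IsConj r r'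
  refl4 : ∃ F : Finset G, F.card = 4 ∧ ∀ s ∈ F, s ∈ S ∧ s ∉ R ∧ orderOf s = 2
  twoS : ∀ s ∈ S, ∃ k : ℕ, orderOf s = 2 ^ k

end Cfsg.Agent.M11U
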