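import Mathlib
import Cfsg.Prelude.Def_Characters
import Cfsg.Agent.M11U.Base

/-!
# S0420 / M11U, A-REP (helper3; architect lead)

Generic fixed-vector lemmas: for an irreducible character `χ` and a subgroup `X`, the sum of `χ`
over `X` is `|X|` times the dimension of the space of `X`-fixed vectors; and if `R ≤ K, S` with
`d_R < d_K + d_S` then `K ⊔ S` fixes a nonzero vector, so `K ⊔ S ≠ ⊤` unless `χ 1 = 1`.
-/

set_option autoImplicit false
set_option linter.style.haveILetI false

namespace Cfsg.Agent.M11U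

open scoped ComplexConjugate Pointwise
open Classical
open Module

universe u

variable {G : Type u} [Group G]

/-- the space of vectors fixed by a subgroup -/
def h3_fixedSpace {n : ℕ} (ρ : Representation ℂ G (Fin n → ℂ)) (X : Subgroup G) :
    Submodule ℂ (Fin n → ℂ) where
  carrier := {v | ∀ x ∈ X, ρ x v = v}
  add_mem' := by
    intro a b ha hb x hx
    rw [map_add, ha x hx, hb x hx]
  zero_mem' := by
    intro x _
    rw [map_zero]
  smul_mem' := by
    intro c a ha x hx
    rw [map_smul, ha x hx]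

theorem h3_mem_fixedSpace {n : ℕ} (ρ : Representation ℂ G (Fin n → ℂ)) (X : Subgroup G)
    (v : Fin n → ℂ) : v ∈ h3_fixedSpace ρ X ↔ ∀ x ∈ X, ρ x v = v := Iff.rfl

theorem h3_fixedSpace_anti {n : ℕ} (ρ : Representation ℂ G (Fin n → ℂ)) {X Y : Subgroup G}
    (h : X ≤ Y) : h3_fixedSpace ρ Y ≤ h3_fixedSpace ρ X := by
  intro v hv x hx
  exact hv x (h hx)

/-- the sum of the character over a subgroup is `|X|` times the dimension of the fixed space -/
theorem h3_sum_eq_finrank [Fintype G] {n : ℕ} (ρ : Representation ℂ G (Fin n → ℂ))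
    (X : Subgroup G) :
    ∑ g : G, (if g ∈ X then ρ.character g else 0) =
      (finrank ℂ (h3_fixedSpace ρ X) : ℂ) * (Nat.card X : ℂ) := by
  haveI : Fintype X := Fintype.ofFinite X
  have hcardX : Nat.card X = Fintype.card X := Nat.card_eq_fintype_card
  have hcardne : (Fintype.card X : ℂ) ≠ 0 := by
    have : 0 < Fintype.card X := Fintype.card_pos
    exact_mod_cast this.ne'
  -- rewrite the sum as a sum over the subtype
  have hsumX : ∑ g : G, (if g ∈ X then ρ.character g else 0) = ∑ x : X, ρ.character (x : G) := by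
    rw [← Finset.sum_filter]
    exact Finset.sum_subtype (Finset.univ.filter (fun g => g ∈ X)) (by simp) _
  rw [hsumX]
  set E : (Fin n → ℂ) →ₗ[ℂ] (Fin n → ℂ) := ∑ x : X, ρ (x : G) with hE
  have hrow : ∀ k : X, ρ (k : G) * E = E := by
    intro k
    rw [hE, Finset.mul_sum]
    have : ∀ l : X, ρ (k : G) * ρ (l : G) = ρ (((k * l : X) : X) : G) := by
      intro l
      rw [Subgroup.coe_mul, map_mul]
    simp_rw [this]
    exact Fintype.sum_equiv (Equiv.mulLeft k) _ _ (fun _ => rfl)
  have hEE : E * E = (Fintype.card X : ℂ) • E := by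
    have h1 : E * E = ∑ k : X, ρ (k : G) * E := by
      conv_lhs => rw [hE]
      rw [Finset.sum_mul]
    rw [h1, Finset.sum_congr rfl (fun k _ => hrow k), Finset.sum_const, Finset.card_univ,
      ← Nat.cast_smul_eq_nsmul ℂ]
  set e : (Fin n → ℂ) →ₗ[ℂ] (Fin n → ℂ) := (Fintype.card X : ℂ)⁻¹ • E with he
  have hidem : IsIdempotentElem e := by
    show e * e = e
    rw [he, smul_mul_smul_comm, hEE, smul_smul]
    congr 1
    field_simp
  have htrE : LinearMap.trace ℂ (Fin n → ℂ) E = ∑ x : X, ρ.character (x : G) := by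
    rw [hE, map_sum]
    rfl
  have htre : LinearMap.trace ℂ (Fin n → ℂ) e =
      (finrank ℂ (LinearMap.range e) : ℂ) := (LinearMap.IsIdempotentElem.isProj_range e hidem).trace
  -- the range of `e` is the fixed space
  have hrange : LinearMap.range e = h3_fixedSpace ρ X := by
    apply le_antisymm
    · rintro _ ⟨w, rfl⟩ x hx
      have h1 : ρ x (e w) = (ρ x * e) w := rfl
      rw [h1, he, mul_smul_comm]
      have := hrow ⟨x, hx⟩
      simp only at this
      rw [this]
    · intro v hv
      refine ⟨v, ?_⟩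
      rw [he, LinearMap.smul_apply, hE, LinearMap.sum_apply]
      have : ∀ x : X, ρ (x : G) v = v := fun x => hv x x.2
      simp_rw [this]
      rw [Finset.sum_const, Finset.card_univ, ← Nat.cast_smul_eq_nsmul ℂ, smul_smul,
        inv_mul_cancel₀ hcardne, one_smul]
  rw [← htrE, ← hrange, ← htre, he, map_smul, smul_eq_mul, hcardX]
  field_simp

/-- an irreducible representation with a nonzero vector fixed by the whole group has degree 1 -/
theorem h3_finrank_eq_one_of_fixed {n : ℕ} (ρ : Representation ℂ G (Fin n → ℂ))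
    (hirr : ρ.IsIrreducible) (v : Fin n → ℂ) (hv : v ≠ 0) (hfix : ∀ g : G, ρ g v = v) :
    finrank ℂ (Fin n → ℂ) = 1 := by
  let W : Subrepresentation ρ :=
    ⟨Submodule.span ℂ {v}, by
      intro g w hw
      obtain ⟨c, rfl⟩ := Submodule.mem_span_singleton.1 hw
      rw [map_smul, hfix g]
      exact Submodule.smul_mem _ _ (Submodule.mem_span_singleton_self v)⟩
  rcases hirr.eq_bot_or_eq_top W with h | h
  · exfalso
    have h1 : W.toSubmodule = (⊥ : Subrepresentation ρ).toSubmodule := congrArg _ h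
    have h2 : v ∈ W.toSubmodule := Submodule.mem_span_singleton_self v
    rw [h1] at h2
    exact hv ((Submodule.mem_bot ℂ).1 h2)
  · have h1 : W.toSubmodule = (⊤ : Subrepresentation ρ).toSubmodule := congrArg _ h
    have h2 : Submodule.span ℂ {v} = (⊤ : Submodule ℂ (Fin n → ℂ)) := h1
    rw [← finrank_top ℂ (Fin n → ℂ), ← h2]
    exact finrank_span_singleton hv

/-- A-REP: generic fixed-vector lemma.  `dX * |X| = ∑_{x ∈ X} χ x`. -/
theorem sup_ne_top_of_char_sums {G : Type u} [Group G] [Fintype G] (χ : Cfsg.IrrCharacter G)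
    (hχ : (χ : G → ℂ) 1 ≠ 1)
    (K R S : Subgroup G) (hRK : R ≤ K) (hRS : R ≤ S) (dK dR dS : ℕ)
    (hK : ∑ g : G, (if g ∈ K then (χ : G → ℂ) g else 0) = (dK : ℂ) * (Nat.card K : ℂ))
    (hR : ∑ g : G, (if g ∈ R then (χ : G → ℂ) g else 0) = (dR : ℂ) * (Nat.card R : ℂ))
    (hS : ∑ g : G, (if g ∈ S then (χ : G → ℂ) g else 0) = (dS : ℂ) * (Nat.card S : ℂ))
    (hlt : dR < dK + dS) : K ⊔ S ≠ ⊤ := by
  obtain ⟨n, ρ, hirr, hρ⟩ := χ.2
  have hfin : ∀ (X : Subgroup G) (d : ℕ),
      ∑ g : G, (if g ∈ X then (χ : G → ℂ) g else 0) = (d : ℂ) * (Nat.card X : ℂ) →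
      finrank ℂ (h3_fixedSpace ρ X) = d := by
    intro X d hd
    have h1 := h3_sum_eq_finrank ρ X
    rw [hρ, hd] at h1
    have hne : (Nat.card X : ℂ) ≠ 0 := by
      have : 0 < Nat.card X := Nat.card_pos
      exact_mod_cast this.ne'
    have h2 := mul_right_cancel₀ hne h1
    exact_mod_cast h2.symm
  have fK := hfin K dK hK
  have fR := hfin R dR hR
  have fS := hfin S dS hS
  have hsup : finrank ℂ ↥(h3_fixedSpace ρ K ⊔ h3_fixedSpace ρ S) ≤ dR := by
    rw [← fR]
    exact Submodule.finrank_mono (sup_le (h3_fixedSpace_anti ρ hRK) (h3_fixedSpace_anti ρ hRS))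
  have hadd := Submodule.finrank_sup_add_finrank_inf_eq (h3_fixedSpace ρ K) (h3_fixedSpace ρ S)
  rw [fK, fS] at hadd
  have hpos : 0 < finrank ℂ ↥(h3_fixedSpace ρ K ⊓ h3_fixedSpace ρ S) := by omega
  have hne : h3_fixedSpace ρ K ⊓ h3_fixedSpace ρ S ≠ ⊥ := by
    intro h
    rw [h, finrank_bot] at hpos
    exact lt_irrefl _ hpos
  obtain ⟨v, hvmem, hv0⟩ := Submodule.exists_mem_ne_zero_of_ne_bot hne
  intro htop
  -- the subgroup fixing `v`
  let F : Subgroup G :=
    { carrier := {g | ρ g v = v}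
      one_mem' := by show ρ 1 v = v; rw [map_one]; rfl
      mul_mem' := by
        intro a b ha hb
        show ρ (a * b) v = v
        rw [map_mul, Module.End.mul_apply, hb, ha]
      inv_mem' := by
        intro a ha
        show ρ a⁻¹ v = v
        have h1 : ρ a⁻¹ (ρ a v) = v := by
          rw [← Module.End.mul_apply, ← map_mul, inv_mul_cancel, map_one]; rfl
        rw [ha] at h1
        exact h1 }
  have hKF : K ≤ F := fun x hx => (Submodule.mem_inf.1 hvmem).1 x hx
  have hSF : S ≤ F := fun x hx => (Submodule.mem_inf.1 hvmem).2 x hx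
  have hF : F = ⊤ := by
    apply top_le_iff.1
    rw [← htop]
    exact sup_le hKF hSF
  have hall : ∀ g : G, ρ g v = v := by
    intro g
    have : g ∈ F := by rw [hF]; exact Subgroup.mem_top g
    exact this
  have h1 := h3_finrank_eq_one_of_fixed ρ hirr v hv0 hall
  apply hχ
  rw [← hρ, Representation.char_one, h1]
  norm_num

/-- A-REP2: the sum of an irreducible (indeed any) character over a subgroup is a natural multiple
of the order of the subgroup. -/
theorem exists_char_sum {G : Type u} [Group G] [Fintype G] (χ : Cfsg.IrrCharacter G)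
    (X : Subgroup G) :
    ∃ d : ℕ, ∑ g : G, (if g ∈ X then (χ : G → ℂ) g else 0) = (d : ℂ) * (Nat.card X : ℂ) := by
  obtain ⟨n, ρ, _, hρ⟩ := χ.2
  refine ⟨finrank ℂ (h3_fixedSpace ρ X), ?_⟩
  rw [← hρ]
  exact h3_sum_eq_finrank ρ X

end Cfsg.Agent.M11U
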