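import Mathlib
import Cfsg.Agent.M11U.Base

/-!
# S0420, part A-LOC: the local configuration `P, R, S, S', t` in a simple group of order `7920`
(pure group theory from `GFacts`; see `notes/S0420_blueprint.md`)
-/

set_option autoImplicit false
set_option linter.unusedSectionVars false
set_option linter.style.haveILetI false

namespace Cfsg.Agent.M11U

universe u

/-- fixed points of a map of prime order on a finite set -/
theorem h1_card_modEq_fixed {α : Type*} [DecidableEq α] (p : ℕ) [Fact p.Prime] (A : Finset α)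
    (f : α → α) (hA : ∀ a ∈ A, f a ∈ A) (hf : ∀ a ∈ A, f^[p] a = a) :
    A.card ≡ (A.filter (fun a => f a = a)).card [MOD p] := by
  classical
  let g : Function.End A := fun a => ⟨f a.1, hA a.1 a.2⟩
  have hiter : ∀ n : ℕ, ∀ a : A, ((g ^ n) a).1 = f^[n] a.1 := by
    intro n
    induction n with
    | zero => intro a; rfl
    | succ n ih =>
      intro a
      rw [pow_succ, Function.iterate_succ_apply]
      exact ih (g a)
  have hg : g ^ p ^ 1 = 1 := by
    rw [pow_one]
    funext a
    apply Subtype.ext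
    rw [hiter p a]
    exact hf a.1 a.2
  have h1 := Equiv.Perm.card_fixedPoints_modEq (f := g) (p := p) (n := 1) hg
  rw [Fintype.card_coe] at h1
  have h2 : Fintype.card (Function.fixedPoints g) = (A.filter (fun a => f a = a)).card := by
    rw [← Fintype.card_coe (A.filter (fun a => f a = a))]
    refine Fintype.card_congr ⟨fun x => ⟨x.1.1, ?_⟩, fun x => ⟨⟨x.1, ?_⟩, ?_⟩, ?_, ?_⟩
    · rw [Finset.mem_filter]
      exact ⟨x.1.2, congrArg Subtype.val x.2⟩
    · exact (Finset.mem_filter.mp x.2).1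
    · apply Subtype.ext
      exact (Finset.mem_filter.mp x.2).2
    · intro x; rfl
    · intro x; rfl
  rw [h2] at h1
  exact h1


variable {G : Type u} [Group G]

theorem h1_card_filter [Fintype G] [DecidableEq G] (H : Subgroup G) [DecidablePred (· ∈ H)] :
    (Finset.univ.filter (fun g => g ∈ H)).card = Nat.card H := by
  rw [Nat.card_eq_fintype_card, Fintype.card_subtype]

theorem h1_mem_centralizer_singleton {y g : G} :
    g ∈ Subgroup.centralizer ({y} : Set G) ↔ g * y = y * g := by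
  rw [Subgroup.mem_centralizer_iff]
  constructor
  · intro h; exact (h y rfl).symm
  · intro h z hz
    rw [Set.mem_singleton_iff] at hz
    rw [hz]; exact h.symm

/-- the order of an element commuting with an element of order `3` divides `18` -/
theorem h1_orderOf_dvd_18 [Finite G] (F : GFacts G) {y g : G} (hy : orderOf y = 3)
    (hg : g * y = y * g) : orderOf g ∣ 18 := by
  rw [← F.cent3 y hy]
  exact Subgroup.orderOf_dvd_natCard _ (h1_mem_centralizer_singleton.mpr hg)

/-- a `2`-element commuting with an element of order `3` has square `1` -/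
theorem h1_sq_eq_one_of_comm [Finite G] (F : GFacts G) {y g : G} (hy : orderOf y = 3)
    (hg : g * y = y * g) {k : ℕ} (hk : orderOf g ∣ 2 ^ k) : g ^ 2 = 1 := by
  have h18 := h1_orderOf_dvd_18 F hy hg
  have hcop : Nat.Coprime (orderOf g) 9 :=
    Nat.Coprime.coprime_dvd_left hk (by
      apply Nat.Coprime.pow_left; norm_num)
  have h2 : orderOf g ∣ 2 := by
    have : orderOf g ∣ 2 * 9 := by simpa using h18
    exact hcop.dvd_of_dvd_mul_right this
  exact orderOf_dvd_iff_pow_eq_one.mp h2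

/-- a `2`-subgroup meets the centralizer of an element of order `3` in at most `2` elements -/
theorem h1_card_inf_centralizer_le [Finite G] (F : GFacts G) {y : G} (hy : orderOf y = 3)
    (T : Subgroup G) {k : ℕ} (hT : Nat.card T = 2 ^ k) :
    Nat.card (T ⊓ Subgroup.centralizer ({y} : Set G) : Subgroup G) ≤ 2 := by
  have h1 : Nat.card (T ⊓ Subgroup.centralizer ({y} : Set G) : Subgroup G) ∣ 2 ^ k := by
    rw [← hT]; exact Subgroup.card_dvd_of_le inf_le_left
  have h2 : Nat.card (T ⊓ Subgroup.centralizer ({y} : Set G) : Subgroup G) ∣ 18 := by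
    rw [← F.cent3 y hy]; exact Subgroup.card_dvd_of_le inf_le_right
  have hcop : Nat.Coprime (Nat.card (T ⊓ Subgroup.centralizer ({y} : Set G) : Subgroup G)) 9 :=
    Nat.Coprime.coprime_dvd_left h1 (by apply Nat.Coprime.pow_left; norm_num)
  have h3 : Nat.card (T ⊓ Subgroup.centralizer ({y} : Set G) : Subgroup G) ∣ 2 := by
    have : Nat.card (T ⊓ Subgroup.centralizer ({y} : Set G) : Subgroup G) ∣ 2 * 9 := by
      simpa using h2
    exact hcop.dvd_of_dvd_mul_right this
  exact Nat.le_of_dvd (by norm_num) h3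

section sylow3

variable [Finite G] (F : GFacts G) (P : Subgroup G) (hP : Nat.card P = 9)
include F hP

theorem h1_P_comm : ∀ a ∈ P, ∀ b ∈ P, a * b = b * a := by
  intro a ha b hb
  haveI : Fact (Nat.Prime 3) := ⟨by norm_num⟩
  have h := (IsPGroup.isMulCommutative_of_card_eq_prime_sq (p := 3) (G := P)
    (by rw [hP]; norm_num)).is_comm.comm ⟨a, ha⟩ ⟨b, hb⟩
  exact congrArg Subtype.val h

theorem h1_P_order {y : G} (hy : y ∈ P) (hy1 : y ≠ 1) : orderOf y = 3 := by
  have h1 : orderOf y ∣ 9 := by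
    rw [← hP]; exact Subgroup.orderOf_dvd_natCard _ hy
  have h2 : orderOf y ∣ 3 ^ 2 := by simpa using h1
  obtain ⟨k, hk, hk2⟩ := (Nat.dvd_prime_pow (by norm_num : Nat.Prime 3)).mp h2
  interval_cases k
  · rw [pow_zero, orderOf_eq_one_iff] at hk2; exact absurd hk2 hy1
  · simpa using hk2
  · exact absurd (by simpa using hk2) (F.no9 y)

/-- no involution centralizes `P` -/
theorem h1_no_inv_cent {w : G} (hw : orderOf w = 2) : ¬ ∀ y ∈ P, w * y = y * w := by
  intro h
  have hle : P ≤ Subgroup.centralizer ({w} : Set G) := by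
    intro y hy
    rw [h1_mem_centralizer_singleton]
    exact (h y hy).symm
  have := Subgroup.card_dvd_of_le hle
  rw [hP, F.cent2 w hw] at this
  norm_num at this


/-- the centralizer in `P` of an involution fixing `y ≠ 1` is `{1, y, y⁻¹}` -/
theorem h1_cent_inv {w : G} (hw : orderOf w = 2) {y : G} (hy : y ∈ P) (hy1 : y ≠ 1)
    (hwy : w * y = y * w) {z : G} (hz : z ∈ P) (hwz : w * z = z * w) :
    z = 1 ∨ z = y ∨ z = y⁻¹ := by
  classical
  haveI : Fintype G := Fintype.ofFinite G
  set Q : Subgroup G := P ⊓ Subgroup.centralizer ({w} : Set G) with hQ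
  have hyQ : y ∈ Q := ⟨hy, h1_mem_centralizer_singleton.mpr hwy.symm⟩
  have hzQ : z ∈ Q := ⟨hz, h1_mem_centralizer_singleton.mpr hwz.symm⟩
  have hdvd : Nat.card Q ∣ 3 ^ 2 := by
    have := Subgroup.card_dvd_of_le (inf_le_left : Q ≤ P)
    have h9 : (9 : ℕ) = 3 ^ 2 := by norm_num
    rw [hP, h9] at this; exact this
  obtain ⟨k, hk, hk2⟩ := (Nat.dvd_prime_pow (by norm_num : Nat.Prime 3)).mp hdvd
  have hy3 := h1_P_order F P hP hy hy1
  have hcard : Nat.card Q = 3 := by
    interval_cases k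
    · exfalso
      rw [pow_zero] at hk2
      have := (Subgroup.card_eq_one.mp hk2)
      rw [this, Subgroup.mem_bot] at hyQ
      exact hy1 hyQ
    · simpa using hk2
    · exfalso
      have hQP : Q = P := by
        apply Subgroup.eq_of_le_of_card_ge inf_le_left
        rw [hP, hk2]; norm_num
      apply h1_no_inv_cent F P hP hw
      intro x hx
      rw [← hQP] at hx
      exact (h1_mem_centralizer_singleton.mp hx.2).symm
  have hyy : y ≠ y⁻¹ := by
    intro h
    have h2 : y ^ 2 = 1 := by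
      rw [pow_two]; nth_rewrite 2 [h]; exact mul_inv_cancel y
    have := orderOf_dvd_of_pow_eq_one h2
    rw [hy3] at this; norm_num at this
  have hB : ({1, y, y⁻¹} : Finset G).card = 3 := by
    rw [Finset.card_insert_of_notMem, Finset.card_insert_of_notMem, Finset.card_singleton]
    · simpa using hyy
    · simp only [Finset.mem_insert, Finset.mem_singleton, not_or]
      exact ⟨fun h => hy1 h.symm, fun h => hy1 (by simpa using h.symm)⟩
  have hsub : ({1, y, y⁻¹} : Finset G) ⊆ Finset.univ.filter (fun g => g ∈ Q) := by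
    intro x hx
    simp only [Finset.mem_insert, Finset.mem_singleton] at hx
    rw [Finset.mem_filter]
    refine ⟨Finset.mem_univ _, ?_⟩
    rcases hx with rfl | rfl | rfl
    · exact Q.one_mem
    · exact hyQ
    · exact Q.inv_mem hyQ
  have heq := Finset.eq_of_subset_of_card_le hsub (by rw [h1_card_filter, hcard, hB])
  have : z ∈ ({1, y, y⁻¹} : Finset G) := by
    rw [heq, Finset.mem_filter]; exact ⟨Finset.mem_univ _, hzQ⟩
  simpa using this

/-- LEMMA X: a `2`-subgroup of `N(P)` centralizing an involution which fixes a point of `P#`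
has order at most `4` -/
theorem h1_lemmaX (T : Subgroup G) {k : ℕ} (hT : Nat.card T = 2 ^ k)
    (hTN : T ≤ Subgroup.normalizer (P : Set G)) {w : G} (hw : orderOf w = 2)
    (hwT : ∀ s ∈ T, w * s = s * w) {y : G} (hy : y ∈ P) (hy1 : y ≠ 1) (hwy : w * y = y * w) :
    Nat.card T ≤ 4 := by
  classical
  haveI : Fintype G := Fintype.ofFinite G
  by_contra hlt
  push Not at hlt
  have hy3 := h1_P_order F P hP hy hy1
  have hmaps : ∀ s ∈ Finset.univ.filter (fun g => g ∈ T), s * y * s⁻¹ ∈ ({y, y⁻¹} : Finset G) := by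
    intro s hs
    have hsT : s ∈ T := (Finset.mem_filter.mp hs).2
    have hsP : s * y * s⁻¹ ∈ P := by
      have := (Subgroup.mem_normalizer_iff.mp (hTN hsT)) y
      exact this.mp hy
    have hws := hwT s hsT
    have hcomm : w * (s * y * s⁻¹) = (s * y * s⁻¹) * w := by
      have hws' : w * s⁻¹ = s⁻¹ * w := by
        have : s⁻¹ * (w * s) * s⁻¹ = s⁻¹ * (s * w) * s⁻¹ := by rw [hws]
        simpa [mul_assoc] using this.symm
      calc w * (s * y * s⁻¹) = (w * s) * y * s⁻¹ := by simp only [mul_assoc]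
        _ = s * (w * y) * s⁻¹ := by rw [hws]; simp only [mul_assoc]
        _ = s * y * (w * s⁻¹) := by rw [hwy]; simp only [mul_assoc]
        _ = (s * y * s⁻¹) * w := by rw [hws']; simp only [mul_assoc]
    rcases h1_cent_inv F P hP hw hy hy1 hwy hsP hcomm with h | h | h
    · exfalso
      apply hy1
      have : s⁻¹ * (s * y * s⁻¹) * s = s⁻¹ * 1 * s := by rw [h]
      simpa [mul_assoc] using this
    · rw [h]; simp
    · rw [h]; simp
  have hcardT : (Finset.univ.filter (fun g => g ∈ T)).card = Nat.card T := h1_card_filter T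
  obtain ⟨v, -, hv⟩ := Finset.exists_lt_card_fiber_of_mul_lt_card_of_maps_to (n := 2) hmaps (by
    rw [hcardT]
    calc ({y, y⁻¹} : Finset G).card * 2 ≤ 2 * 2 := by
          apply Nat.mul_le_mul_right; exact Finset.card_le_two
      _ < Nat.card T := by omega)
  set Fb := (Finset.univ.filter (fun g => g ∈ T)).filter (fun s => s * y * s⁻¹ = v) with hFb
  obtain ⟨s1, hs1⟩ : Fb.Nonempty := by
    rw [← Finset.card_pos]; omega
  have hs1T : s1 ∈ T := (Finset.mem_filter.mp (Finset.mem_filter.mp hs1).1).2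
  have hs1v : s1 * y * s1⁻¹ = v := (Finset.mem_filter.mp hs1).2
  have hle := h1_card_inf_centralizer_le F hy3 T hT
  rw [← h1_card_filter] at hle
  have hinj : Fb.card ≤ (Finset.univ.filter
      (fun g => g ∈ (T ⊓ Subgroup.centralizer ({y} : Set G) : Subgroup G))).card := by
    apply Finset.card_le_card_of_injOn (fun s => s1⁻¹ * s)
    · intro s hs
      have hsT : s ∈ T := (Finset.mem_filter.mp (Finset.mem_filter.mp hs).1).2
      have hsv : s * y * s⁻¹ = v := (Finset.mem_filter.mp hs).2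
      rw [Finset.mem_coe, Finset.mem_filter]
      refine ⟨Finset.mem_univ _, Subgroup.mem_inf.mpr ⟨T.mul_mem (T.inv_mem hs1T) hsT, ?_⟩⟩
      rw [h1_mem_centralizer_singleton]
      have h1 : s * y = v * s := by rw [← hsv]; simp [mul_assoc]
      have h2 : s1 * y = v * s1 := by rw [← hs1v]; simp [mul_assoc]
      have h3 : s1⁻¹ * v = y * s1⁻¹ := by
        have : s1⁻¹ * (s1 * y) * s1⁻¹ = s1⁻¹ * (v * s1) * s1⁻¹ := by rw [h2]
        simpa [mul_assoc] using this.symm
      calc s1⁻¹ * s * y = s1⁻¹ * (s * y) := by simp only [mul_assoc]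
        _ = (s1⁻¹ * v) * s := by rw [h1]; simp only [mul_assoc]
        _ = y * (s1⁻¹ * s) := by rw [h3]; simp only [mul_assoc]
    · intro a _ b _ hab
      exact mul_left_cancel hab
  omega


/-- an involution of `N(P)` without fixed points on `P#` inverts `P` -/
theorem h1_inverts {w : G} (hw : orderOf w = 2) (hwN : w ∈ Subgroup.normalizer (P : Set G))
    (hfix : ∀ y ∈ P, w * y = y * w → y = 1) : ∀ y ∈ P, w * y * w⁻¹ = y⁻¹ := by
  intro y hy
  have hw2 : w * w = 1 := by
    have := pow_orderOf_eq_one w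
    rw [hw, pow_two] at this; exact this
  have hwinv : w⁻¹ = w := inv_eq_of_mul_eq_one_left hw2
  have hyP : w * y * w⁻¹ ∈ P := (Subgroup.mem_normalizer_iff.mp hwN y).mp hy
  have hu : y * (w * y * w⁻¹) ∈ P := P.mul_mem hy hyP
  have hcomm : w * (y * (w * y * w⁻¹)) = (y * (w * y * w⁻¹)) * w := by
    have h1 := h1_P_comm F P hP y hy _ hyP
    rw [hwinv] at h1 ⊢
    have hwa : w * (w * y * w) = y * w := by
      rw [← mul_assoc, ← mul_assoc, hw2, one_mul]
    have haw : (w * y * w) * w = w * y := by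
      rw [mul_assoc, hw2, mul_one]
    calc w * (y * (w * y * w)) = w * ((w * y * w) * y) := by rw [h1]
      _ = (w * (w * y * w)) * y := by simp only [mul_assoc]
      _ = (y * w) * y := by rw [hwa]
      _ = y * ((w * y * w) * w) := by rw [haw]; simp only [mul_assoc]
      _ = (y * (w * y * w)) * w := by simp only [mul_assoc]
  have := hfix _ hu hcomm
  exact (eq_inv_of_mul_eq_one_right this)

end sylow3

theorem h1_card_sylow3 [Finite G] (hc : Nat.card G = 7920) (P : Sylow 3 G) :
    Nat.card ↥(P : Subgroup G) = 9 := by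
  haveI : Fact (Nat.Prime 3) := ⟨by norm_num⟩
  rw [P.card_eq_multiplicity, hc]
  have : (7920 : ℕ).factorization 3 = 2 := by
    have h1 : (7920 : ℕ) = 3 ^ 2 * 880 := by norm_num
    rw [h1, Nat.factorization_mul (by norm_num) (by norm_num), Nat.factorization_pow]
    simp only [Finsupp.coe_add, Finsupp.coe_smul, Pi.add_apply, Pi.smul_apply, smul_eq_mul]
    rw [Nat.Prime.factorization_self (by norm_num),
      Nat.factorization_eq_zero_of_not_dvd (by norm_num)]
  rw [this]; norm_num

/-- the context of the construction -/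
structure h1_Ctx (P S : Subgroup G) (t x0 : G) : Prop where
  hP : Nat.card P = 9
  hS : Nat.card S = 16
  hSN : S ≤ Subgroup.normalizer (P : Set G)
  ht : orderOf t = 2
  htS : t ∈ S
  htc : ∀ s ∈ S, t * s = s * t
  hinv : ∀ y ∈ P, t * y * t⁻¹ = y⁻¹
  hx0 : orderOf x0 = 3
  hx0t : x0 * t = t * x0

theorem h1_exists_ctx [Finite G] (F : GFacts G) :
    ∃ (P S : Subgroup G) (t x0 : G), h1_Ctx P S t x0 := by
  classical
  haveI : Fact (Nat.Prime 3) := ⟨by norm_num⟩
  haveI : Fact (Nat.Prime 2) := ⟨by norm_num⟩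
  obtain ⟨P0⟩ : Nonempty (Sylow 3 G) := inferInstance
  set P : Subgroup G := (P0 : Subgroup G) with hPdef
  have hP : Nat.card P = 9 := h1_card_sylow3 F.card P0
  have hN : Nat.card (Subgroup.normalizer (P : Set G)) = 144 := F.norm3 P0
  -- a subgroup of order 16 of the normalizer
  obtain ⟨K, hK⟩ := Sylow.exists_subgroup_card_pow_prime (G := Subgroup.normalizer (P : Set G)) 2
    (n := 4) (by rw [hN]; norm_num)
  set S : Subgroup G := K.map (Subgroup.normalizer (P : Set G)).subtype with hSdef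
  have hS : Nat.card S = 16 := by
    rw [hSdef, Subgroup.card_map_of_injective (Subgroup.subtype_injective _), hK]; norm_num
  have hSN : S ≤ Subgroup.normalizer (P : Set G) := Subgroup.map_subtype_le K
  -- a central involution of S
  have hpS : IsPGroup 2 S := IsPGroup.of_card (n := 4) (by rw [hS]; norm_num)
  haveI : Nontrivial S := by
    rw [← Finite.one_lt_card_iff_nontrivial, hS]; norm_num
  haveI : Nontrivial (Subgroup.center S) := hpS.center_nontrivial
  have hpZ : IsPGroup 2 (Subgroup.center S) := hpS.to_subgroup _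
  obtain ⟨j, hj⟩ := hpZ.exists_card_eq
  have hj0 : j ≠ 0 := by
    intro h
    rw [h, pow_zero] at hj
    have := Finite.one_lt_card_iff_nontrivial.mpr (inferInstance : Nontrivial (Subgroup.center S))
    omega
  obtain ⟨z, hz⟩ := exists_prime_orderOf_dvd_card' (G := Subgroup.center S) 2 (by
    rw [hj]; exact dvd_pow_self 2 hj0)
  set t : G := ((z : S) : G) with htdef
  have ht : orderOf t = 2 := by
    rw [htdef, Subgroup.orderOf_coe, Subgroup.orderOf_coe, hz]
  have htS : t ∈ S := (z : S).2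
  have htc : ∀ s ∈ S, t * s = s * t := by
    intro s hs
    have h1 := Subgroup.mem_center_iff.mp z.2 ⟨s, hs⟩
    have h2 := congrArg Subtype.val h1
    simpa using h2.symm
  have hfix : ∀ y ∈ P, t * y = y * t → y = 1 := by
    intro y hy hty
    by_contra hy1
    have := h1_lemmaX F P hP S (k := 4) (by rw [hS]; norm_num) hSN ht htc hy hy1 hty
    rw [hS] at this; omega
  have hinv := h1_inverts F P hP ht (hSN htS) hfix
  -- an element of order 3 of the centralizer of t
  obtain ⟨x, hx⟩ := exists_prime_orderOf_dvd_card' (G := Subgroup.centralizer ({t} : Set G)) 3 (by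
    rw [F.cent2 t ht]; norm_num)
  refine ⟨P, S, t, (x : G), hP, hS, hSN, ht, htS, htc, hinv, ?_, ?_⟩
  · rw [Subgroup.orderOf_coe, hx]
  · exact h1_mem_centralizer_singleton.mp x.2



section ctx

variable [Finite G] (F : GFacts G) {P S : Subgroup G} {t x0 : G} (X : h1_Ctx P S t x0)
include F X

theorem h1_t_ne_one : t ≠ 1 := by
  intro h
  have := X.ht
  rw [h, orderOf_one] at this
  norm_num at this

theorem h1_x0_cube : x0 * x0 * x0 = 1 := by
  have := pow_orderOf_eq_one x0
  rw [X.hx0, pow_succ, pow_two] at this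
  exact this

/-- the conjugate of `S` by `x0` -/
theorem h1_mem_S' {g : G} : g ∈ S.map (MulAut.conj x0).toMonoidHom ↔ ∃ s ∈ S, x0 * s * x0⁻¹ = g := by
  rw [Subgroup.mem_map]
  simp only [MulEquiv.coe_toMonoidHom, MulAut.conj_apply]

/-- the fixed points of `x0` on a `2`-group containing `t` are `1` and `t` -/
theorem h1_fix_x0 (T : Subgroup G) {k : ℕ} (hT : Nat.card T = 2 ^ k) (htT : t ∈ T) {g : G}
    (hg : g ∈ T) (hgx : x0 * g = g * x0) : g = 1 ∨ g = t := by
  classical
  haveI : Fintype G := Fintype.ofFinite G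
  by_contra hne
  push Not at hne
  have hle := h1_card_inf_centralizer_le F X.hx0 T hT
  rw [← h1_card_filter] at hle
  have hsub : ({1, t, g} : Finset G) ⊆ Finset.univ.filter
      (fun a => a ∈ (T ⊓ Subgroup.centralizer ({x0} : Set G) : Subgroup G)) := by
    intro a ha
    simp only [Finset.mem_insert, Finset.mem_singleton] at ha
    rw [Finset.mem_filter]
    refine ⟨Finset.mem_univ _, ?_⟩
    rcases ha with rfl | rfl | rfl
    · exact Subgroup.one_mem _
    · exact Subgroup.mem_inf.mpr ⟨htT, h1_mem_centralizer_singleton.mpr X.hx0t.symm⟩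
    · exact Subgroup.mem_inf.mpr ⟨hg, h1_mem_centralizer_singleton.mpr hgx.symm⟩
  have hcard : ({1, t, g} : Finset G).card = 3 := by
    rw [Finset.card_insert_of_notMem, Finset.card_insert_of_notMem, Finset.card_singleton]
    · simpa using hne.2.symm
    · simp only [Finset.mem_insert, Finset.mem_singleton, not_or]
      exact ⟨(h1_t_ne_one F X).symm, hne.1.symm⟩
  have := Finset.card_le_card hsub
  omega

theorem h1_S_le_cent : S ≤ Subgroup.centralizer ({t} : Set G) := by
  intro s hs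
  rw [h1_mem_centralizer_singleton]
  exact (X.htc s hs).symm

theorem h1_S'_le_cent : S.map (MulAut.conj x0).toMonoidHom ≤ Subgroup.centralizer ({t} : Set G) := by
  intro g hg
  obtain ⟨s, hs, rfl⟩ := (h1_mem_S' F X).mp hg
  rw [h1_mem_centralizer_singleton]
  have h1 := X.htc s hs
  have h2 := X.hx0t
  have h3 : x0⁻¹ * t = t * x0⁻¹ := by
    have : x0⁻¹ * (x0 * t) * x0⁻¹ = x0⁻¹ * (t * x0) * x0⁻¹ := by rw [h2]
    simpa [mul_assoc] using this.symm
  calc x0 * s * x0⁻¹ * t = x0 * s * (x0⁻¹ * t) := by simp only [mul_assoc]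
    _ = x0 * (s * t) * x0⁻¹ := by rw [h3]; simp only [mul_assoc]
    _ = (x0 * t) * s * x0⁻¹ := by rw [← h1]; simp only [mul_assoc]
    _ = t * (x0 * s * x0⁻¹) := by rw [h2]; simp only [mul_assoc]

theorem h1_card_S' : Nat.card (S.map (MulAut.conj x0).toMonoidHom) = 16 := by
  rw [Subgroup.card_map_of_injective (MulAut.conj x0).injective, X.hS]

theorem h1_t_mem_S' : t ∈ S.map (MulAut.conj x0).toMonoidHom := by
  rw [h1_mem_S' F X]
  refine ⟨t, X.htS, ?_⟩
  rw [X.hx0t, mul_assoc, mul_inv_cancel, mul_one]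

/-- `x0` does not normalize `S` -/
theorem h1_S'_ne : S.map (MulAut.conj x0).toMonoidHom ≠ S := by
  classical
  haveI : Fintype G := Fintype.ofFinite G
  haveI : Fact (Nat.Prime 3) := ⟨by norm_num⟩
  intro heq
  have hmem : ∀ a ∈ Finset.univ.filter (fun g => g ∈ S),
      x0 * a * x0⁻¹ ∈ Finset.univ.filter (fun g => g ∈ S) := by
    intro a ha
    rw [Finset.mem_filter] at ha ⊢
    refine ⟨Finset.mem_univ _, ?_⟩
    rw [← heq, h1_mem_S' F X]
    exact ⟨a, ha.2, rfl⟩
  have hcube := h1_x0_cube F X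
  have hiter : ∀ a ∈ Finset.univ.filter (fun g => g ∈ S), (fun g => x0 * g * x0⁻¹)^[3] a = a := by
    intro a _
    simp only [Function.iterate_succ, Function.iterate_zero, Function.comp_apply, id_eq]
    have : x0 * (x0 * (x0 * a * x0⁻¹) * x0⁻¹) * x0⁻¹ = (x0 * x0 * x0) * a * (x0 * x0 * x0)⁻¹ := by
      simp only [mul_assoc, mul_inv_rev]
    rw [this, hcube]; simp
  have h := h1_card_modEq_fixed 3 (Finset.univ.filter (fun g => g ∈ S)) (fun g => x0 * g * x0⁻¹)
    hmem hiter
  have hfix : (Finset.univ.filter (fun g => g ∈ S)).filter (fun a => x0 * a * x0⁻¹ = a)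
      = {1, t} := by
    ext a
    simp only [Finset.mem_filter, Finset.mem_univ, true_and, Finset.mem_insert,
      Finset.mem_singleton]
    constructor
    · rintro ⟨haS, hax⟩
      apply h1_fix_x0 F X S (k := 4) (by rw [X.hS]; norm_num) X.htS haS
      have : x0 * a * x0⁻¹ * x0 = a * x0 := by rw [hax]
      simpa [mul_assoc] using this
    · rintro (rfl | rfl)
      · exact ⟨S.one_mem, by simp⟩
      · refine ⟨X.htS, ?_⟩
        rw [X.hx0t, mul_assoc, mul_inv_cancel, mul_one]
  rw [hfix, h1_card_filter, X.hS, Finset.card_pair (h1_t_ne_one F X).symm] at h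
  exact absurd h (by decide)


omit F X in
theorem h1_card_mul_relIndex {H K : Subgroup G} (h : H ≤ K) :
    Nat.card H * H.relIndex K = Nat.card K := by
  have h1 := Subgroup.card_mul_index (H.subgroupOf K)
  rw [Nat.card_congr (Subgroup.subgroupOfEquivOfLe h).toEquiv] at h1
  exact h1

/-- `R = S ∩ S'` has order `8` -/
theorem h1_card_R : Nat.card (S ⊓ S.map (MulAut.conj x0).toMonoidHom : Subgroup G) = 8 := by
  set S' : Subgroup G := S.map (MulAut.conj x0).toMonoidHom with hS'
  set C : Subgroup G := Subgroup.centralizer ({t} : Set G) with hC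
  have hCc : Nat.card C = 48 := F.cent2 t X.ht
  have hSC : S ≤ C := h1_S_le_cent F X
  have hS'C : S' ≤ C := h1_S'_le_cent F X
  have hS'c : Nat.card S' = 16 := h1_card_S' F X
  have h3 : S'.relIndex C = 3 := by
    have := h1_card_mul_relIndex hS'C
    rw [hS'c, hCc] at this
    omega
  have h4 : (S ⊓ S').relIndex S ≤ 3 := by
    rw [Subgroup.inf_relIndex_left, ← h3]
    exact Subgroup.relIndex_le_of_le_right hSC (by rw [h3]; norm_num)
  have h5 := h1_card_mul_relIndex (inf_le_left : S ⊓ S' ≤ S)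
  rw [X.hS] at h5
  have hne : Nat.card (S ⊓ S' : Subgroup G) ≠ 16 := by
    intro h16
    have hRS : S ⊓ S' = S := Subgroup.eq_of_le_of_card_ge inf_le_left (by rw [X.hS, h16])
    have hSS' : S ≤ S' := by rw [← hRS]; exact inf_le_right
    have : S = S' := Subgroup.eq_of_le_of_card_ge hSS' (by rw [X.hS, hS'c])
    exact h1_S'_ne F X this.symm
  have hi : (S ⊓ S').relIndex S = 1 ∨ (S ⊓ S').relIndex S = 2 ∨ (S ⊓ S').relIndex S = 3 := by
    have h0 : (S ⊓ S').relIndex S ≠ 0 := by
      intro h0; rw [h0] at h5; omega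
    omega
  rcases hi with hi | hi | hi
  · rw [hi] at h5; omega
  · rw [hi] at h5; omega
  · rw [hi] at h5; omega

/-- `x0` normalizes `R` -/
theorem h1_x0_mem_normalizer :
    x0 ∈ Subgroup.normalizer ((S ⊓ S.map (MulAut.conj x0).toMonoidHom : Subgroup G) : Set G) := by
  set S' : Subgroup G := S.map (MulAut.conj x0).toMonoidHom with hS'
  set C : Subgroup G := Subgroup.centralizer ({t} : Set G) with hC
  set R : Subgroup G := S ⊓ S' with hR
  have hCc : Nat.card C = 48 := F.cent2 t X.ht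
  have hSC : S ≤ C := h1_S_le_cent F X
  have hS'C : S' ≤ C := h1_S'_le_cent F X
  have hS'c : Nat.card S' = 16 := h1_card_S' F X
  have hRc : Nat.card R = 8 := h1_card_R F X
  have hSN : S ≤ Subgroup.normalizer (R : Set G) := by
    rw [← Subgroup.normal_subgroupOf_iff_le_normalizer (inf_le_left : R ≤ S)]
    apply Subgroup.normal_of_index_eq_two
    have := h1_card_mul_relIndex (inf_le_left : R ≤ S)
    rw [hRc, X.hS] at this
    show (S ⊓ S').relIndex S = 2
    omega
  have hS'N : S' ≤ Subgroup.normalizer (R : Set G) := by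
    rw [← Subgroup.normal_subgroupOf_iff_le_normalizer (inf_le_right : R ≤ S')]
    apply Subgroup.normal_of_index_eq_two
    have := h1_card_mul_relIndex (inf_le_right : R ≤ S')
    rw [hRc, hS'c] at this
    show (S ⊓ S').relIndex S' = 2
    omega
  set T : Subgroup G := Subgroup.normalizer (R : Set G) ⊓ C with hT
  have hST : S ≤ T := le_inf hSN hSC
  have hS'T : S' ≤ T := le_inf hS'N hS'C
  have hTC : T ≤ C := inf_le_right
  have hd1 : Nat.card T ∣ 48 := by rw [← hCc]; exact Subgroup.card_dvd_of_le hTC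
  have hd2 : 16 ∣ Nat.card T := by rw [← X.hS]; exact Subgroup.card_dvd_of_le hST
  have hT48 : Nat.card T = 48 := by
    obtain ⟨m, hm⟩ := hd2
    have hm3 : m ∣ 3 := by
      rw [hm] at hd1
      exact Nat.dvd_of_mul_dvd_mul_left (by norm_num : 0 < 16) (by simpa using hd1)
    have hm' : m = 1 ∨ m = 3 := (Nat.dvd_prime (by norm_num : Nat.Prime 3)).mp hm3
    rcases hm' with rfl | rfl
    · exfalso
      have h1 : S = T := Subgroup.eq_of_le_of_card_ge hST (by rw [X.hS, hm])
      have h2 : S' = T := Subgroup.eq_of_le_of_card_ge hS'T (by rw [hS'c, hm])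
      exact h1_S'_ne F X (h2.trans h1.symm)
    · rw [hm]
  have hTeq : T = C := Subgroup.eq_of_le_of_card_ge hTC (by rw [hT48, hCc])
  have hx0C : x0 ∈ C := h1_mem_centralizer_singleton.mpr X.hx0t
  rw [← hTeq] at hx0C
  exact hx0C.1

end ctx


/-- the context together with the subgroup `R` -/
structure h1_CtxR (P S : Subgroup G) (t x0 : G) (R : Subgroup G) : Prop
    extends h1_Ctx P S t x0 where
  hR : Nat.card R = 8
  hRS : R ≤ S
  htR : t ∈ R
  hRx : ∀ g, g ∈ R ↔ x0 * g * x0⁻¹ ∈ R

theorem h1_ne_inv_of_order3 {y : G} (hy : orderOf y = 3) : y ≠ y⁻¹ := by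
  intro h
  have h2 : y ^ 2 = 1 := by
    rw [pow_two]; nth_rewrite 2 [h]; exact mul_inv_cancel y
  have := orderOf_dvd_of_pow_eq_one h2
  rw [hy] at this; norm_num at this

section ctxR

variable [Finite G] (F : GFacts G) {P S R : Subgroup G} {t x0 : G} (Y : h1_CtxR P S t x0 R)
include F Y

theorem h1_R_fix {g : G} (hg : g ∈ R) (hgx : x0 * g = g * x0) : g = 1 ∨ g = t :=
  h1_fix_x0 F Y.toh1_Ctx R (k := 3) (by rw [Y.hR]; norm_num) Y.htR hg hgx

theorem h1_conj_iter3 (a : G) : (fun g => x0 * g * x0⁻¹)^[3] a = a := by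
  have hcube := h1_x0_cube F Y.toh1_Ctx
  simp only [Function.iterate_succ, Function.iterate_zero, Function.comp_apply, id_eq]
  have : x0 * (x0 * (x0 * a * x0⁻¹) * x0⁻¹) * x0⁻¹ = (x0 * x0 * x0) * a * (x0 * x0 * x0)⁻¹ := by
    simp only [mul_assoc, mul_inv_rev]
  rw [this, hcube]; simp

/-- `x0` moves every element of `R` outside `{1, t}`, and not to its inverse -/
theorem h1_x0_move {g : G} (hg : g ∈ R) (hg1 : g ≠ 1) (hgt : g ≠ t) :
    x0 * g * x0⁻¹ ≠ g ∧ x0 * g * x0⁻¹ ≠ g⁻¹ := by
  have hcube := h1_x0_cube F Y.toh1_Ctx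
  constructor
  · intro h
    have : x0 * g = g * x0 := by
      have : x0 * g * x0⁻¹ * x0 = g * x0 := by rw [h]
      simpa [mul_assoc] using this
    rcases h1_R_fix F Y hg this with h | h
    · exact hg1 h
    · exact hgt h
  · intro h
    -- then x0^2 centralizes g, hence so does x0 = (x0^2)^2
    have h2 : x0 * x0 * g = g * (x0 * x0) := by
      have h' : x0 * g = g⁻¹ * x0 := by
        have : x0 * g * x0⁻¹ * x0 = g⁻¹ * x0 := by rw [h]
        simpa [mul_assoc] using this
      have h'' : x0 * g⁻¹ = g * x0 := by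
        have : (x0 * g * x0⁻¹)⁻¹ = (g⁻¹)⁻¹ := by rw [h]
        rw [inv_inv] at this
        have h3 : x0 * g⁻¹ * x0⁻¹ = g := by
          calc x0 * g⁻¹ * x0⁻¹ = (x0 * g * x0⁻¹)⁻¹ := by
                simp only [mul_inv_rev, inv_inv, mul_assoc]
            _ = g := this
        have : x0 * g⁻¹ * x0⁻¹ * x0 = g * x0 := by rw [h3]
        simpa [mul_assoc] using this
      calc x0 * x0 * g = x0 * (x0 * g) := by simp only [mul_assoc]
        _ = (x0 * g⁻¹) * x0 := by rw [h']; simp only [mul_assoc]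
        _ = g * (x0 * x0) := by rw [h'']; simp only [mul_assoc]
    have h4 : x0 = (x0 * x0) * (x0 * x0) := by
      have : (x0 * x0) * (x0 * x0) = (x0 * x0 * x0) * x0 := by simp only [mul_assoc]
      rw [this, hcube, one_mul]
    have h5 : x0 * g = g * x0 := by
      have : (x0 * x0) * (x0 * x0) * g = g * ((x0 * x0) * (x0 * x0)) := by
        generalize x0 * x0 = u at h2 ⊢
        calc u * u * g = u * (u * g) := by simp only [mul_assoc]
          _ = u * (g * u) := by rw [h2]
          _ = (u * g) * u := by simp only [mul_assoc]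
          _ = (g * u) * u := by rw [h2]
          _ = g * (u * u) := by simp only [mul_assoc]
      rw [← h4] at this
      exact this
    rcases h1_R_fix F Y hg h5 with h | h
    · exact hg1 h
    · exact hgt h

theorem h1_R_le_normalizer : R ≤ Subgroup.normalizer (P : Set G) := Y.hRS.trans Y.hSN

/-- `t` is the only involution of `R` -/
theorem h1_unique_inv {r : G} (hr : r ∈ R) (hr2 : orderOf r = 2) : r = t := by
  classical
  haveI : Fintype G := Fintype.ofFinite G
  haveI : Fact (Nat.Prime 3) := ⟨by norm_num⟩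
  haveI : Fact (Nat.Prime 2) := ⟨by norm_num⟩
  set Rf : Finset G := Finset.univ.filter (fun g => g ∈ R) with hRf
  have hRfc : Rf.card = 8 := by rw [hRf, h1_card_filter, Y.hR]
  set I : Finset G := Rf.filter (fun g => orderOf g = 2) with hI
  have ht1 := h1_t_ne_one F Y.toh1_Ctx
  have htI : t ∈ I := by
    rw [hI, Finset.mem_filter, hRf, Finset.mem_filter]
    exact ⟨⟨Finset.mem_univ _, Y.htR⟩, Y.ht⟩
  have hmemI : ∀ g, g ∈ I ↔ g ∈ R ∧ orderOf g = 2 := by
    intro g
    rw [hI, Finset.mem_filter, hRf, Finset.mem_filter]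
    simp
  -- mod 3
  have hmod3 : I.card ≡ 1 [MOD 3] := by
    have h := h1_card_modEq_fixed 3 I (fun g => x0 * g * x0⁻¹) (by
      intro a ha
      rw [hmemI] at ha ⊢
      refine ⟨(Y.hRx a).mp ha.1, ?_⟩
      have := orderOf_injective (MulAut.conj x0).toMonoidHom (MulAut.conj x0).injective a
      simp only [MulEquiv.coe_toMonoidHom, MulAut.conj_apply] at this
      rw [this, ha.2]) (fun a _ => h1_conj_iter3 F Y a)
    have hfix : I.filter (fun a => x0 * a * x0⁻¹ = a) = {t} := by
      ext a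
      rw [Finset.mem_filter, Finset.mem_singleton]
      constructor
      · rintro ⟨haI, hax⟩
        rw [hmemI] at haI
        have : x0 * a = a * x0 := by
          have : x0 * a * x0⁻¹ * x0 = a * x0 := by rw [hax]
          simpa [mul_assoc] using this
        rcases h1_R_fix F Y haI.1 this with h | h
        · exfalso
          rw [h, orderOf_one] at haI
          exact absurd haI.2 (by norm_num)
        · exact h
      · rintro rfl
        refine ⟨htI, ?_⟩
        rw [Y.hx0t, mul_assoc, mul_inv_cancel, mul_one]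
    rw [hfix, Finset.card_singleton] at h
    exact h
  -- mod 2
  have hmod2 : 8 ≡ 1 + I.card [MOD 2] := by
    have h := h1_card_modEq_fixed 2 Rf (fun g => g⁻¹) (by
      intro a ha
      rw [hRf, Finset.mem_filter] at ha ⊢
      exact ⟨Finset.mem_univ _, R.inv_mem ha.2⟩) (by
      intro a _
      simp only [Function.iterate_succ, Function.iterate_zero, Function.comp_apply, id_eq, inv_inv])
    have hfix : Rf.filter (fun a => a⁻¹ = a) = insert 1 I := by
      ext a
      rw [Finset.mem_filter, Finset.mem_insert, hmemI, hRf, Finset.mem_filter]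
      constructor
      · rintro ⟨⟨-, haR⟩, hinv⟩
        by_cases ha1 : a = 1
        · left; exact ha1
        · right
          refine ⟨haR, orderOf_eq_prime ?_ ha1⟩
          rw [pow_two]
          nth_rewrite 1 [← hinv]
          exact inv_mul_cancel a
      · rintro (rfl | ⟨haR, ha2⟩)
        · exact ⟨⟨Finset.mem_univ _, R.one_mem⟩, inv_one⟩
        · refine ⟨⟨Finset.mem_univ _, haR⟩, ?_⟩
          have := pow_orderOf_eq_one a
          rw [ha2, pow_two] at this
          exact inv_eq_of_mul_eq_one_left this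
    rw [hfix, Finset.card_insert_of_notMem, hRfc, add_comm] at h
    · exact h
    · rw [hmemI]
      rintro ⟨-, h⟩
      rw [orderOf_one] at h
      norm_num at h
  have hle : I.card ≤ 7 := by
    have hsub : I ⊆ Rf.erase 1 := by
      intro a ha
      rw [Finset.mem_erase]
      refine ⟨?_, (Finset.mem_filter.mp ha).1⟩
      rintro rfl
      rw [hmemI, orderOf_one] at ha
      exact absurd ha.2 (by norm_num)
    have := Finset.card_le_card hsub
    rw [Finset.card_erase_of_mem (by
      rw [hRf, Finset.mem_filter]; exact ⟨Finset.mem_univ _, R.one_mem⟩), hRfc] at this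
    exact this
  have hcases : I.card = 1 ∨ I.card = 7 := by
    unfold Nat.ModEq at hmod3 hmod2
    omega
  rcases hcases with h1 | h7
  · obtain ⟨a, ha⟩ := Finset.card_eq_one.mp h1
    have hta : t = a := by rw [ha] at htI; exact Finset.mem_singleton.mp htI
    have hrI : r ∈ I := (hmemI r).mpr ⟨hr, hr2⟩
    rw [ha, Finset.mem_singleton] at hrI
    rw [hrI, hta]
  · exfalso
    -- every nonidentity element of R is an involution
    have hIeq : I = Rf.erase 1 := by
      apply Finset.eq_of_subset_of_card_le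
      · intro a ha
        rw [Finset.mem_erase]
        refine ⟨?_, (Finset.mem_filter.mp ha).1⟩
        rintro rfl
        rw [hmemI, orderOf_one] at ha
        exact absurd ha.2 (by norm_num)
      · rw [Finset.card_erase_of_mem (by
          rw [hRf, Finset.mem_filter]; exact ⟨Finset.mem_univ _, R.one_mem⟩), hRfc, h7]
    have hexp : ∀ a ∈ R, a * a = 1 := by
      intro a ha
      by_cases ha1 : a = 1
      · rw [ha1, one_mul]
      · have : a ∈ I := by
          rw [hIeq, Finset.mem_erase, hRf, Finset.mem_filter]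
          exact ⟨ha1, Finset.mem_univ _, ha⟩
        have h2 := ((hmemI a).mp this).2
        have := pow_orderOf_eq_one a
        rw [h2, pow_two] at this
        exact this
    have hinvR : ∀ a ∈ R, a⁻¹ = a := fun a ha => inv_eq_of_mul_eq_one_left (hexp a ha)
    have hcomm : ∀ a ∈ R, ∀ b ∈ R, a * b = b * a := by
      intro a ha b hb
      have h1 := hinvR (a * b) (R.mul_mem ha hb)
      rw [mul_inv_rev, hinvR a ha, hinvR b hb] at h1
      exact h1.symm
    obtain ⟨r', hr'I, hr't⟩ := Finset.exists_mem_ne (by rw [h7]; norm_num : 1 < I.card) t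
    have hr'R : r' ∈ R := ((hmemI r').mp hr'I).1
    have hr'2 : orderOf r' = 2 := ((hmemI r').mp hr'I).2
    by_cases hex : ∃ y ∈ P, y ≠ 1 ∧ r' * y = y * r'
    · obtain ⟨y, hy, hy1, hry⟩ := hex
      have := h1_lemmaX F P Y.hP R (k := 3) (by rw [Y.hR]; norm_num) (h1_R_le_normalizer F Y) hr'2
        (fun s hs => hcomm r' hr'R s hs) hy hy1 hry
      rw [Y.hR] at this
      omega
    · push Not at hex
      have hfix : ∀ y ∈ P, r' * y = y * r' → y = 1 := by
        intro y hy h
        by_contra hy1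
        exact hex y hy hy1 h
      have hinvP := h1_inverts F P Y.hP hr'2 (h1_R_le_normalizer F Y hr'R) hfix
      have hw2 : orderOf (r' * t) = 2 := by
        apply orderOf_eq_prime
        · rw [pow_two]; exact hexp _ (R.mul_mem hr'R Y.htR)
        · intro h
          have : r' = t⁻¹ := eq_inv_of_mul_eq_one_left h
          rw [hinvR t Y.htR] at this
          exact hr't this
      apply h1_no_inv_cent F P Y.hP hw2
      intro y hy
      have h1 := Y.hinv y hy
      have h2 := hinvP y⁻¹ (P.inv_mem hy)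
      rw [inv_inv] at h2
      have h3 : (r' * t) * y * (r' * t)⁻¹ = y := by
        calc (r' * t) * y * (r' * t)⁻¹ = r' * (t * y * t⁻¹) * r'⁻¹ := by
              simp only [mul_assoc, mul_inv_rev]
          _ = y := by rw [h1, h2]
      have : (r' * t) * y * (r' * t)⁻¹ * (r' * t) = y * (r' * t) := by rw [h3]
      simpa [mul_assoc] using this


/-- `R` acts semiregularly on `P#` -/
theorem h1_reg {r : G} (hr : r ∈ R) (hr1 : r ≠ 1) {y : G} (hy : y ∈ P) (hy1 : y ≠ 1) :
    r * y * r⁻¹ ≠ y := by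
  intro h
  have hy3 := h1_P_order F P Y.hP hy hy1
  have hcomm : r * y = y * r := by
    have : r * y * r⁻¹ * r = y * r := by rw [h]
    simpa [mul_assoc] using this
  have hdvd : orderOf r ∣ 2 ^ 3 := by
    have := Subgroup.orderOf_dvd_natCard R hr
    rw [Y.hR] at this; simpa using this
  have hsq := h1_sq_eq_one_of_comm F hy3 hcomm hdvd
  haveI : Fact (Nat.Prime 2) := ⟨by norm_num⟩
  have hr2 : orderOf r = 2 := orderOf_eq_prime hsq hr1
  have hrt := h1_unique_inv F Y hr hr2
  rw [hrt] at h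
  rw [Y.hinv y hy] at h
  exact h1_ne_inv_of_order3 hy3 h.symm

/-- the elements of `R` other than `1`, `t` have order `4` -/
theorem h1_ord4 {r : G} (hr : r ∈ R) (hr1 : r ≠ 1) (hrt : r ≠ t) : orderOf r = 4 := by
  classical
  have hdvd : orderOf r ∣ 2 ^ 3 := by
    have := Subgroup.orderOf_dvd_natCard R hr
    rw [Y.hR] at this; simpa using this
  obtain ⟨j, hj, hj2⟩ := (Nat.dvd_prime_pow (by norm_num : Nat.Prime 2)).mp hdvd
  interval_cases j
  · exfalso
    rw [pow_zero, orderOf_eq_one_iff] at hj2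
    exact hr1 hj2
  · exfalso
    exact hrt (h1_unique_inv F Y hr (by simpa using hj2))
  · simpa using hj2
  · exfalso
    have h8 : orderOf r = 8 := by simpa using hj2
    -- R is generated by r
    have hzp : Subgroup.zpowers r = R := by
      apply Subgroup.eq_of_le_of_card_ge
      · rw [Subgroup.zpowers_le]; exact hr
      · rw [Nat.card_zpowers, h8, Y.hR]
    set q : G := r ^ 2 with hq
    have hq4 : orderOf q = 4 := by
      rw [hq, orderOf_pow' r (by norm_num : (2 : ℕ) ≠ 0), h8]
      decide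
    have hqR : q ∈ R := R.pow_mem hr 2
    have hq1 : q ≠ 1 := by
      intro h; rw [h, orderOf_one] at hq4; norm_num at hq4
    have hqt : q ≠ t := by
      intro h; rw [h, Y.ht] at hq4; norm_num at hq4
    have hmove := h1_x0_move F Y hqR hq1 hqt
    have hq'R : x0 * q * x0⁻¹ ∈ R := (Y.hRx q).mp hqR
    have hq'4 : orderOf (x0 * q * x0⁻¹) = 4 := by
      have := orderOf_injective (MulAut.conj x0).toMonoidHom (MulAut.conj x0).injective q
      simp only [MulEquiv.coe_toMonoidHom, MulAut.conj_apply] at this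
      rw [this, hq4]
    rw [← hzp] at hq'R
    have hfin : IsOfFinOrder r := by
      rw [← orderOf_pos_iff, h8]; norm_num
    rw [← mem_powers_iff_mem_zpowers, mem_powers_iff_mem_range_orderOf, h8] at hq'R
    obtain ⟨i, hi, hi2⟩ := Finset.mem_image.mp hq'R
    rw [Finset.mem_range] at hi
    have hi2' : r ^ i = x0 * q * x0⁻¹ := hi2
    have hord : orderOf (r ^ i) = 4 := by rw [hi2', hq'4]
    have hi26 : i = 2 ∨ i = 6 := by
      interval_cases i
      · rw [pow_zero, orderOf_one] at hord; norm_num at hord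
      · rw [pow_one, h8] at hord; norm_num at hord
      · left; rfl
      · rw [orderOf_pow' r (by norm_num : (3 : ℕ) ≠ 0), h8] at hord; revert hord; decide
      · rw [orderOf_pow' r (by norm_num : (4 : ℕ) ≠ 0), h8] at hord; revert hord; decide
      · rw [orderOf_pow' r (by norm_num : (5 : ℕ) ≠ 0), h8] at hord; revert hord; decide
      · right; rfl
      · rw [orderOf_pow' r (by norm_num : (7 : ℕ) ≠ 0), h8] at hord; revert hord; decide
    rcases hi26 with rfl | rfl
    · exact hmove.1 hi2'.symm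
    · apply hmove.2
      rw [← hi2', hq]
      have h8' : r ^ 8 = 1 := by rw [← h8]; exact pow_orderOf_eq_one r
      have : r ^ 6 * r ^ 2 = 1 := by rw [← pow_add]; exact h8'
      exact eq_inv_of_mul_eq_one_left this

theorem h1_sq {r : G} (hr : r ∈ R) (hr1 : r ≠ 1) (hrt : r ≠ t) : r * r = t := by
  have h4 := h1_ord4 F Y hr hr1 hrt
  have h2 : orderOf (r * r) = 2 := by
    rw [← pow_two, orderOf_pow' r (by norm_num : (2 : ℕ) ≠ 0), h4]
    decide
  exact h1_unique_inv F Y (R.mul_mem hr hr) h2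

/-- (F1): two elements of order `4` of `R` which are neither equal nor inverse invert each other -/
theorem h1_F1 {a b : G} (ha : a ∈ R) (ha1 : a ≠ 1) (hat : a ≠ t) (hb : b ∈ R) (hb1 : b ≠ 1)
    (hbt : b ≠ t) (hba : b ≠ a) (hbai : b ≠ a⁻¹) : b * a * b⁻¹ = a⁻¹ := by
  have hsa := h1_sq F Y ha ha1 hat
  have hsb := h1_sq F Y hb hb1 hbt
  have hba1 : b * a ≠ 1 := fun h => hbai (eq_inv_of_mul_eq_one_left h)
  have hbat : b * a ≠ t := by
    intro h
    rw [← hsa] at h
    exact hba (mul_right_cancel h)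
  have hsba := h1_sq F Y (R.mul_mem hb ha) hba1 hbat
  -- b a b a = b b  ⇒  a b a = b
  have h1 : a * b * a = b := by
    have : b * (a * b * a) = b * b := by
      rw [hsb, ← hsba]; simp only [mul_assoc]
    exact mul_left_cancel this
  have h2 : b * a = a⁻¹ * b := by
    have : a⁻¹ * (a * b * a) = a⁻¹ * b := by rw [h1]
    simpa [mul_assoc] using this
  rw [h2]; simp [mul_assoc]


theorem h1_ne_of_ord4 {g : G} (h4 : orderOf g = 4) : g ≠ 1 ∧ g ≠ t := by
  constructor
  · intro h; rw [h, orderOf_one] at h4; norm_num at h4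
  · intro h; rw [h, Y.ht] at h4; norm_num at h4

theorem h1_conj_ne {g : G} (hg : g ∈ R) (hg1 : g ≠ 1) (hgt : g ≠ t) :
    x0 * g * x0⁻¹ ∈ R ∧ x0 * g * x0⁻¹ ≠ 1 ∧ x0 * g * x0⁻¹ ≠ t := by
  refine ⟨(Y.hRx g).mp hg, ?_, ?_⟩
  · intro h
    apply hg1
    have : x0⁻¹ * (x0 * g * x0⁻¹) * x0 = x0⁻¹ * 1 * x0 := by rw [h]
    simpa [mul_assoc] using this
  · intro h
    apply hgt
    have h2 : x0⁻¹ * t * x0 = t := by
      have := Y.hx0t
      have : x0⁻¹ * (x0 * t) = x0⁻¹ * (t * x0) := by rw [this]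
      simpa [mul_assoc] using this.symm
    have : x0⁻¹ * (x0 * g * x0⁻¹) * x0 = x0⁻¹ * t * x0 := by rw [h]
    rw [h2] at this
    simpa [mul_assoc] using this

theorem h1_inv_conj {a : G} (ha : a ∈ R) (ha1 : a ≠ 1) (hat : a ≠ t) : IsConj a a⁻¹ := by
  obtain ⟨hkR, hk1, hkt⟩ := h1_conj_ne F Y ha ha1 hat
  obtain ⟨hm1, hm2⟩ := h1_x0_move F Y ha ha1 hat
  rw [isConj_iff]
  exact ⟨_, h1_F1 F Y ha ha1 hat hkR hk1 hkt hm1 hm2⟩

/-- an element of order `4` outside `{h, h⁻¹, k, k⁻¹}` is `h k` or its inverse -/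
theorem h1_third {h k c : G} (hh : h ∈ R) (hh1 : h ≠ 1) (hht : h ≠ t) (hk : k ∈ R) (hk1 : k ≠ 1)
    (hkt : k ≠ t) (hkh : k ≠ h) (hkhi : k ≠ h⁻¹) (hc : c ∈ R) (hc1 : c ≠ 1) (hct : c ≠ t)
    (hch : c ≠ h) (hchi : c ≠ h⁻¹) (hck : c ≠ k) (hcki : c ≠ k⁻¹) :
    c = h * k ∨ c = (h * k)⁻¹ := by
  have hc_h := h1_F1 F Y hh hh1 hht hc hc1 hct hch hchi
  have hc_k := h1_F1 F Y hk hk1 hkt hc hc1 hct hck hcki
  have hk_h := h1_F1 F Y hh hh1 hht hk hk1 hkt hkh hkhi
  have hhk : h ≠ k := fun e => hkh e.symm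
  have hhki : h ≠ k⁻¹ := by
    intro e; apply hkhi; rw [e, inv_inv]
  have hh_k := h1_F1 F Y hk hk1 hkt hh hh1 hht hhk hhki
  have hprod : c * (h * k) * c⁻¹ = h⁻¹ * k⁻¹ := by
    calc c * (h * k) * c⁻¹ = (c * h * c⁻¹) * (c * k * c⁻¹) := by simp [mul_assoc]
      _ = h⁻¹ * k⁻¹ := by rw [hc_h, hc_k]
  have h1 : h * k = k⁻¹ * h := by
    have : h * k * h⁻¹ * h = k⁻¹ * h := by rw [hh_k]
    simpa [mul_assoc] using this
  have h2 : h⁻¹ * k⁻¹ = k⁻¹ * h := by
    -- from k h k⁻¹ = h⁻¹
    have : k⁻¹ * (k * h * k⁻¹) = k⁻¹ * h⁻¹ := by rw [hk_h]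
    have h3 : h * k⁻¹ = k⁻¹ * h⁻¹ := by simpa [mul_assoc] using this
    -- h⁻¹ k⁻¹ = k⁻¹ h  ⇔  k⁻¹ = h k⁻¹ h
    have : h * (h⁻¹ * k⁻¹) = h * (k⁻¹ * h) := by
      rw [← mul_assoc h k⁻¹ h, h3]; simp [mul_assoc]
    exact mul_left_cancel this
  have hcomm : c * (h * k) * c⁻¹ = h * k := by rw [hprod, h2, ← h1]
  have hhkR : h * k ∈ R := R.mul_mem hh hk
  have hhk1 : h * k ≠ 1 := by
    intro e; apply hkhi; exact eq_inv_of_mul_eq_one_right e
  have hhkt : h * k ≠ t := by
    intro e
    rw [← h1_sq F Y hh hh1 hht] at e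
    exact hkh (mul_left_cancel e)
  by_contra hne
  push Not at hne
  have := h1_F1 F Y hhkR hhk1 hhkt hc hc1 hct hne.1 hne.2
  rw [hcomm] at this
  have hsq := h1_sq F Y hhkR hhk1 hhkt
  have h5 : (h * k) * (h * k) = 1 := by
    nth_rewrite 1 [this]; exact inv_mul_cancel _
  rw [hsq] at h5
  exact h1_t_ne_one F Y.toh1_Ctx h5

/-- all elements of order `4` of `R` are conjugate -/
theorem h1_conj4 {r r' : G} (hr : r ∈ R) (hr' : r' ∈ R) (h4 : orderOf r = 4)
    (h4' : orderOf r' = 4) : IsConj r r' := by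
  obtain ⟨hr1, hrt⟩ := h1_ne_of_ord4 F Y h4
  obtain ⟨hr'1, hr't⟩ := h1_ne_of_ord4 F Y h4'
  obtain ⟨k, hk⟩ : ∃ k, k = x0 * r * x0⁻¹ := ⟨_, rfl⟩
  have hK := h1_conj_ne F Y hr hr1 hrt
  rw [← hk] at hK
  obtain ⟨hkR, hk1, hkt⟩ := hK
  have hM := h1_x0_move F Y hr hr1 hrt
  rw [← hk] at hM
  obtain ⟨hkr, hkri⟩ := hM
  obtain ⟨m, hm⟩ : ∃ m, m = x0 * k * x0⁻¹ := ⟨_, rfl⟩
  have hK2 := h1_conj_ne F Y hkR hk1 hkt
  rw [← hm] at hK2
  obtain ⟨hmR, hm1, hmt⟩ := hK2
  have hM2 := h1_x0_move F Y hkR hk1 hkt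
  rw [← hm] at hM2
  obtain ⟨hmk, hmki⟩ := hM2
  have hrk : IsConj r k := isConj_iff.mpr ⟨x0, hk.symm⟩
  have hkm : IsConj k m := isConj_iff.mpr ⟨x0, hm.symm⟩
  have hxm : x0 * m * x0⁻¹ = r := by
    have := h1_conj_iter3 F Y r
    simp only [Function.iterate_succ, Function.iterate_zero, Function.comp_apply, id_eq] at this
    rw [← hk, ← hm] at this
    exact this
  have hmr : m ≠ r := by
    intro e
    rw [e] at hxm
    exact hkr (hk.trans hxm)
  have hmri : m ≠ r⁻¹ := by
    intro e
    rw [e] at hxm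
    apply hkri
    have h1 : (x0 * r⁻¹ * x0⁻¹)⁻¹ = x0 * r * x0⁻¹ := by simp [mul_assoc]
    rw [hk, ← h1, hxm]
  by_cases e1 : r' = r
  · rw [e1]
  by_cases e2 : r' = r⁻¹
  · rw [e2]; exact h1_inv_conj F Y hr hr1 hrt
  by_cases e3 : r' = k
  · rw [e3]; exact hrk
  by_cases e4 : r' = k⁻¹
  · rw [e4]; exact hrk.trans (h1_inv_conj F Y hkR hk1 hkt)
  have hA := h1_third F Y hr hr1 hrt hkR hk1 hkt hkr hkri hr' hr'1 hr't e1 e2 e3 e4
  have hB := h1_third F Y hr hr1 hrt hkR hk1 hkt hkr hkri hmR hm1 hmt hmr hmri hmk hmki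
  have hrm : IsConj r m := hrk.trans hkm
  have hmm : IsConj m m⁻¹ := h1_inv_conj F Y hmR hm1 hmt
  rcases hA with hA | hA <;> rcases hB with hB | hB
  · rw [hA, ← hB]; exact hrm
  · have : r' = m⁻¹ := by rw [hA, hB, inv_inv]
    rw [this]; exact hrm.trans hmm
  · have : r' = m⁻¹ := by rw [hA, hB]
    rw [this]; exact hrm.trans hmm
  · rw [hA, ← hB]; exact hrm

end ctxR


section ctx2

variable [Finite G] (F : GFacts G) {P S : Subgroup G} {t x0 : G} (X : h1_Ctx P S t x0)
include F X

/-- `S'` is not contained in `N(P)` -/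
theorem h1_S'_not_le : ¬ S.map (MulAut.conj x0).toMonoidHom ≤ Subgroup.normalizer (P : Set G) := by
  classical
  haveI : Fintype G := Fintype.ofFinite G
  intro hle
  set S' : Subgroup G := S.map (MulAut.conj x0).toMonoidHom with hS'
  set N : Subgroup G := Subgroup.normalizer (P : Set G) with hN
  set C : Subgroup G := Subgroup.centralizer ({t} : Set G) with hC
  set M : Subgroup G := N ⊓ C with hM
  have hPN : P ≤ N := Subgroup.le_normalizer
  have hNc : Nat.card N = 144 := by
    -- `P` is a Sylow subgroup: recover it from its order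
    haveI : Fact (Nat.Prime 3) := ⟨by norm_num⟩
    have hsyl : ∃ P0 : Sylow 3 G, (P0 : Subgroup G) = P := by
      have hpg : IsPGroup 3 P := IsPGroup.of_card (n := 2) (by rw [X.hP]; norm_num)
      obtain ⟨Q, hQ⟩ := hpg.exists_le_sylow
      refine ⟨Q, ?_⟩
      symm
      apply Subgroup.eq_of_le_of_card_ge hQ
      rw [h1_card_sylow3 F.card Q, X.hP]
    obtain ⟨P0, hP0⟩ := hsyl
    rw [hN, ← hP0]
    exact F.norm3 P0
  have hPM : ∀ a ∈ P, a ∈ M → a = 1 := by
    intro a haP haM
    have h1 := X.hinv a haP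
    have h2 : t * a = a * t := (h1_mem_centralizer_singleton.mp haM.2).symm
    have h3 : t * a * t⁻¹ = a := by rw [h2]; simp [mul_assoc]
    rw [h3] at h1
    by_contra ha1
    exact h1_ne_inv_of_order3 (h1_P_order F P X.hP haP ha1) h1
  have hMle : Nat.card M ≤ 16 := by
    have hinj : ((Finset.univ.filter (fun g => g ∈ P)) ×ˢ (Finset.univ.filter (fun g => g ∈ M))).card
        ≤ (Finset.univ.filter (fun g => g ∈ N)).card := by
      apply Finset.card_le_card_of_injOn (fun x => x.1 * x.2)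
      · intro x hx
        rw [Finset.mem_coe, Finset.mem_product, Finset.mem_filter, Finset.mem_filter] at hx
        rw [Finset.mem_coe, Finset.mem_filter]
        exact ⟨Finset.mem_univ _, N.mul_mem (hPN hx.1.2) hx.2.2.1⟩
      · intro x hx x' hx' hxx
        rw [Finset.mem_coe, Finset.mem_product, Finset.mem_filter, Finset.mem_filter] at hx hx'
        have hxx' : x.1 * x.2 = x'.1 * x'.2 := hxx
        have hkey : x'.1⁻¹ * x.1 = x'.2 * x.2⁻¹ := by
          have : x'.1⁻¹ * (x.1 * x.2) * x.2⁻¹ = x'.1⁻¹ * (x'.1 * x'.2) * x.2⁻¹ := by rw [hxx']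
          simpa [mul_assoc] using this
        have h1 : x'.1⁻¹ * x.1 = 1 := by
          apply hPM _ (P.mul_mem (P.inv_mem hx'.1.2) hx.1.2)
          rw [hkey]
          exact M.mul_mem hx'.2.2 (M.inv_mem hx.2.2)
        have h2 : x.1 = x'.1 := by
          have := eq_inv_of_mul_eq_one_right h1
          rw [inv_inv] at this; exact this
        have h3 : x.2 = x'.2 := by
          rw [h2] at hxx'
          exact mul_left_cancel hxx'
        exact Prod.ext h2 h3
    rw [Finset.card_product, h1_card_filter, h1_card_filter, h1_card_filter, X.hP, hNc] at hinj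
    omega
  have hSM : S ≤ M := le_inf X.hSN (h1_S_le_cent F X)
  have hS'M : S' ≤ M := le_inf hle (h1_S'_le_cent F X)
  have h1 : S = M := Subgroup.eq_of_le_of_card_ge hSM (by rw [X.hS]; exact hMle)
  have h2 : S' = M := Subgroup.eq_of_le_of_card_ge hS'M (by rw [h1_card_S' F X]; exact hMle)
  exact h1_S'_ne F X (h2.trans h1.symm)

/-- every `y ∈ P#` is centralized by an involution of `S` -/
theorem h1_exists_v {y : G} (hy : y ∈ P) (hy1 : y ≠ 1) :
    ∃ v ∈ S, orderOf v = 2 ∧ v * y = y * v := by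
  classical
  haveI : Fintype G := Fintype.ofFinite G
  have hy3 := h1_P_order F P X.hP hy hy1
  have hmaps : Set.MapsTo (fun s => s * y * s⁻¹)
      ↑(Finset.univ.filter (fun g => g ∈ S)) ↑((Finset.univ.filter (fun g => g ∈ P)).erase 1) := by
    intro s hs
    rw [Finset.mem_coe, Finset.mem_filter] at hs
    rw [Finset.mem_coe, Finset.mem_erase, Finset.mem_filter]
    refine ⟨?_, Finset.mem_univ _, (Subgroup.mem_normalizer_iff.mp (X.hSN hs.2) y).mp hy⟩
    intro h
    apply hy1
    have h' : s * y * s⁻¹ = 1 := h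
    have : s⁻¹ * (s * y * s⁻¹) * s = s⁻¹ * 1 * s := by rw [h']
    simpa [mul_assoc] using this
  obtain ⟨s1, hs1, s2, hs2, hne, heq⟩ := Finset.exists_ne_map_eq_of_card_lt_of_maps_to (by
    rw [Finset.card_erase_of_mem (by
      rw [Finset.mem_filter]; exact ⟨Finset.mem_univ _, P.one_mem⟩), h1_card_filter,
      h1_card_filter, X.hP, X.hS]; norm_num) hmaps
  rw [Finset.mem_filter] at hs1 hs2
  have heq' : s1 * y * s1⁻¹ = s2 * y * s2⁻¹ := heq
  have hvS : s2⁻¹ * s1 ∈ S := S.mul_mem (S.inv_mem hs2.2) hs1.2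
  have hv1 : s2⁻¹ * s1 ≠ 1 := by
    intro h
    apply hne
    have := eq_inv_of_mul_eq_one_right h
    rw [inv_inv] at this; exact this
  have hcomm : (s2⁻¹ * s1) * y = y * (s2⁻¹ * s1) := by
    have : s2⁻¹ * (s1 * y * s1⁻¹) * s1 = s2⁻¹ * (s2 * y * s2⁻¹) * s1 := by rw [heq']
    simpa [mul_assoc] using this
  have hdvd : orderOf (s2⁻¹ * s1) ∣ 2 ^ 4 := by
    have := Subgroup.orderOf_dvd_natCard S hvS
    rw [X.hS] at this; simpa using this
  have hsq := h1_sq_eq_one_of_comm F hy3 hcomm hdvd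
  haveI : Fact (Nat.Prime 2) := ⟨by norm_num⟩
  exact ⟨_, hvS, orderOf_eq_prime hsq hv1, hcomm⟩

end ctx2


section ctxR2

variable [Finite G] (F : GFacts G) {P S R : Subgroup G} {t x0 : G} (Y : h1_CtxR P S t x0 R)
include F Y

/-- at least four involutions of `S` outside `R` -/
theorem h1_refl4 : ∃ Fs : Finset G, Fs.card = 4 ∧ ∀ s ∈ Fs, s ∈ S ∧ s ∉ R ∧ orderOf s = 2 := by
  classical
  haveI : Fintype G := Fintype.ofFinite G
  have hex : ∀ y : G, ∃ v : G, (y ∈ P ∧ y ≠ 1) → (v ∈ S ∧ orderOf v = 2 ∧ v * y = y * v) := by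
    intro y
    by_cases h : y ∈ P ∧ y ≠ 1
    · obtain ⟨v, hv1, hv2, hv3⟩ := h1_exists_v F Y.toh1_Ctx h.1 h.2
      exact ⟨v, fun _ => ⟨hv1, hv2, hv3⟩⟩
    · exact ⟨1, fun h' => absurd h' h⟩
  choose vf hvf using hex
  set Pn : Finset G := (Finset.univ.filter (fun g => g ∈ P)).erase 1 with hPn
  have hPnc : Pn.card = 8 := by
    rw [hPn, Finset.card_erase_of_mem (by
      rw [Finset.mem_filter]; exact ⟨Finset.mem_univ _, P.one_mem⟩), h1_card_filter, Y.hP]
  have hmemPn : ∀ y, y ∈ Pn ↔ y ∈ P ∧ y ≠ 1 := by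
    intro y
    rw [hPn, Finset.mem_erase, Finset.mem_filter]
    constructor
    · rintro ⟨h1, -, h2⟩; exact ⟨h2, h1⟩
    · rintro ⟨h1, h2⟩; exact ⟨h2, Finset.mem_univ _, h1⟩
  have hfib : ∀ b ∈ Pn.image vf, (Pn.filter (fun y => vf y = b)).card ≤ 2 := by
    intro b hb
    obtain ⟨y0, hy0, rfl⟩ := Finset.mem_image.mp hb
    have hy0' := (hmemPn y0).mp hy0
    obtain ⟨hv1, hv2, hv3⟩ := hvf y0 hy0'
    have hsub : Pn.filter (fun y => vf y = vf y0) ⊆ {y0, y0⁻¹} := by
      intro y hy
      rw [Finset.mem_filter] at hy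
      have hy' := (hmemPn y).mp hy.1
      obtain ⟨-, -, hw3⟩ := hvf y hy'
      rw [hy.2] at hw3
      rcases h1_cent_inv F P Y.hP hv2 hy0'.1 hy0'.2 hv3 hy'.1 hw3 with h | h | h
      · exact absurd h hy'.2
      · rw [h]; simp
      · rw [h]; simp
    exact (Finset.card_le_card hsub).trans Finset.card_le_two
  have hcard := Finset.card_le_mul_card_image Pn 2 hfib
  rw [hPnc] at hcard
  obtain ⟨Fs, hFs, hFs4⟩ := Finset.exists_subset_card_eq (by omega : 4 ≤ (Pn.image vf).card)
  refine ⟨Fs, hFs4, ?_⟩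
  intro s hs
  obtain ⟨y, hy, rfl⟩ := Finset.mem_image.mp (hFs hs)
  have hy' := (hmemPn y).mp hy
  obtain ⟨hv1, hv2, hv3⟩ := hvf y hy'
  refine ⟨hv1, ?_, hv2⟩
  intro hR
  have hne1 : vf y ≠ 1 := by
    intro h; rw [h, orderOf_one] at hv2; norm_num at hv2
  apply h1_reg F Y hR hne1 hy'.1 hy'.2
  rw [hv3]; simp [mul_assoc]

end ctxR2

/-- **A-LOC**: the local configuration exists. -/
theorem exists_localCfg {G : Type u} [Group G] [Finite G] (F : GFacts G) :
    Nonempty (LocalCfg G) := by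
  obtain ⟨P, S, t, x0, X⟩ := h1_exists_ctx F
  set S' : Subgroup G := S.map (MulAut.conj x0).toMonoidHom with hS'
  have hnorm := h1_x0_mem_normalizer F X
  have Y : h1_CtxR P S t x0 (S ⊓ S') :=
    { X with
      hR := h1_card_R F X
      hRS := inf_le_left
      htR := ⟨X.htS, h1_t_mem_S' F X⟩
      hRx := fun g => Subgroup.mem_normalizer_iff.mp hnorm g }
  refine ⟨{
    P := P
    R := S ⊓ S'
    S := S
    S' := S'
    t := t
    cardP := X.hP
    cardR := Y.hR
    cardS := X.hS
    ht := X.ht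
    tR := Y.htR
    RS := inf_le_left
    RS' := inf_le_right
    RN := h1_R_le_normalizer F Y
    S'N := h1_S'_not_le F X
    conjS := ⟨x0, rfl⟩
    inv := X.hinv
    reg := fun r hr hr1 y hy hy1 => h1_reg F Y hr hr1 hy hy1
    ord4 := fun r hr hr1 hrt => h1_ord4 F Y hr hr1 hrt
    conj4 := fun r hr r' hr' h4 h4' => h1_conj4 F Y hr hr' h4 h4'
    refl4 := h1_refl4 F Y
    twoS := ?_ }⟩
  intro s hs
  have := Subgroup.orderOf_dvd_natCard S hs
  rw [X.hS] at this
  have h16 : (16 : ℕ) = 2 ^ 4 := by norm_num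
  rw [h16] at this
  obtain ⟨k, -, hk⟩ := (Nat.dvd_prime_pow (by norm_num : Nat.Prime 2)).mp this
  exact ⟨k, hk⟩

end Cfsg.Agent.M11U
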