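import Mathlib
import Cfsg.Prelude.Def_Characters
import Cfsg.Agent.M11U.Base
import Cfsg.Agent.Helper6.CharBasic
import Cfsg.Agent.Helper6.ColumnOrth
import Cfsg.Agent.Helper6.OddReal

/-!
# S0420, A-CHAR (helper2), part 1: sums of a class function over subgroups, and the bound
`|χ s|² ≤ 15` for elements `s` whose order is divisible by `4`.
-/

set_option autoImplicit false
set_option linter.style.haveILetI false

namespace Cfsg.Agent.M11U

open scoped ComplexConjugate Pointwise
open Classical
open Cfsg.Agent.Helper6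

universe u

variable {G : Type u} [Group G]

/-- the sum of a function over a subgroup, in the shape used by the A-REP interface -/
noncomputable def h2_csum [Fintype G] (θ : G → ℂ) (X : Subgroup G) : ℂ :=
  ∑ g : G, (if g ∈ X then θ g else 0)

theorem h2_csum_eq_sum_filter [Fintype G] (θ : G → ℂ) (X : Subgroup G) :
    h2_csum θ X = ∑ g ∈ Finset.univ.filter (fun g => g ∈ X), θ g := by
  unfold h2_csum
  rw [Finset.sum_filter]

theorem h2_card_eq_card_filter [Fintype G] (X : Subgroup G) :
    Nat.card X = (Finset.univ.filter (fun g : G => g ∈ X)).card := by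
  rw [Nat.card_eq_fintype_card, Fintype.card_subtype]

/-- conjugation invariance -/
theorem h2_csum_map_conj [Fintype G] (θ : G → ℂ) (hθ : Cfsg.IsClassFunction G θ)
    (X : Subgroup G) (g : G) :
    h2_csum θ (X.map (MulAut.conj g).toMonoidHom) = h2_csum θ X := by
  unfold h2_csum
  refine (Fintype.sum_equiv (MulAut.conj g).toEquiv _ _ ?_).symm
  intro x
  have hmem : (MulAut.conj g).toEquiv x ∈ X.map (MulAut.conj g).toMonoidHom ↔ x ∈ X := by
    constructor
    · rintro ⟨y, hy, hyx⟩
      have : y = x := (MulAut.conj g).injective hyx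
      rwa [← this]
    · intro hx
      exact ⟨x, hx, rfl⟩
  have hval : θ ((MulAut.conj g).toEquiv x) = θ x := by
    change θ (MulAut.conj g x) = θ x
    rw [MulAut.conj_apply]
    exact hθ x g
  by_cases hx : x ∈ X
  · rw [if_pos hx, if_pos (hmem.mpr hx), hval]
  · rw [if_neg hx, if_neg (fun h => hx (hmem.mp h))]

theorem h2_card_map_conj [Finite G] (X : Subgroup G) (g : G) :
    Nat.card (X.map (MulAut.conj g).toMonoidHom) = Nat.card X :=
  Subgroup.card_map_of_injective (MulAut.conj g).injective

/-- the sum over a product `P R`, `R ≤ N(P)`, `P ∩ R = 1` -/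
theorem h2_csum_sup [Fintype G] (θ : G → ℂ) (P R : Subgroup G)
    (hRN : R ≤ Subgroup.normalizer (P : Set G)) (hPR : ∀ y ∈ P, y ∈ R → y = 1) :
    h2_csum θ (P ⊔ R) = ∑ r ∈ Finset.univ.filter (fun g => g ∈ R),
      ∑ y ∈ Finset.univ.filter (fun g => g ∈ P), θ (y * r) ∧
    Nat.card ↥(P ⊔ R) = Nat.card P * Nat.card R := by
  have hset : ((P ⊔ R : Subgroup G) : Set G) = (P : Set G) * (R : Set G) :=
    Subgroup.coe_mul_of_right_le_normalizer_left P R hRN
  have hinj : Set.InjOn (fun p : G × G => p.1 * p.2)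
      ((Finset.univ.filter (fun g => g ∈ P) ×ˢ Finset.univ.filter (fun g => g ∈ R) :
        Finset (G × G)) : Set (G × G)) := by
    rintro ⟨y, r⟩ h1 ⟨y', r'⟩ h2 h
    simp only [Finset.coe_product, Finset.coe_filter, Finset.mem_univ, true_and, Set.mem_prod,
      Set.mem_ofPred_eq] at h1 h2
    simp only at h
    have h3 : y'⁻¹ * y = r' * r⁻¹ := by
      have : y'⁻¹ * (y * r) * r⁻¹ = y'⁻¹ * (y' * r') * r⁻¹ := by rw [h]
      simpa [mul_assoc] using this
    have h4 : y'⁻¹ * y = 1 :=
      hPR _ (P.mul_mem (P.inv_mem h2.1) h1.1) (h3 ▸ R.mul_mem h2.2 (R.inv_mem h1.2))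
    have h5 : y = y' := by
      have := inv_mul_eq_one.mp h4
      exact this.symm
    have h6 : r = r' := by
      rw [h4] at h3
      have := mul_inv_eq_one.mp h3.symm
      exact this.symm
    rw [h5, h6]
  have himg : Finset.univ.filter (fun g => g ∈ (P ⊔ R : Subgroup G)) =
      (Finset.univ.filter (fun g => g ∈ P) ×ˢ Finset.univ.filter (fun g => g ∈ R)).image
        (fun p : G × G => p.1 * p.2) := by
    ext x
    simp only [Finset.mem_filter, Finset.mem_univ, true_and, Finset.mem_image, Finset.mem_product,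
      Prod.exists]
    rw [← SetLike.mem_coe, hset, Set.mem_mul]
    constructor
    · rintro ⟨y, hy, r, hr, rfl⟩
      exact ⟨y, r, ⟨hy, hr⟩, rfl⟩
    · rintro ⟨y, r, ⟨hy, hr⟩, rfl⟩
      exact ⟨y, hy, r, hr, rfl⟩
  constructor
  · rw [h2_csum_eq_sum_filter, himg, Finset.sum_image hinj, Finset.sum_product_right]
  · rw [h2_card_eq_card_filter, himg, Finset.card_image_of_injOn hinj, Finset.card_product,
      ← h2_card_eq_card_filter, ← h2_card_eq_card_filter]

/-- the sum over a cyclic group of order four -/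
theorem h2_csum_zpowers_four [Fintype G] (θ : G → ℂ) (r : G) (hr : orderOf r = 4) :
    h2_csum θ (Subgroup.zpowers r) = θ 1 + θ r + θ (r ^ 2) + θ (r ^ 3) := by
  rw [h2_csum_eq_sum_filter]
  have himg : Finset.univ.filter (fun g => g ∈ Subgroup.zpowers r) =
      (Finset.range 4).image (fun i : ℕ => r ^ i) := by
    ext x
    simp only [Finset.mem_filter, Finset.mem_univ, true_and]
    rw [mem_zpowers_iff_mem_range_orderOf, hr]
  have hinj : Set.InjOn (fun i : ℕ => r ^ i) ((Finset.range 4 : Finset ℕ) : Set ℕ) := by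
    intro i hi j hj hij
    simp only [Finset.coe_range, Set.mem_Iio] at hi hj
    exact pow_injOn_Iio_orderOf (by rw [hr]; exact hi) (by rw [hr]; exact hj) hij
  rw [himg, Finset.sum_image hinj]
  simp [Finset.sum_range_succ]

/-- splitting the sum over `S` along a subgroup `R ≤ S` -/
theorem h2_csum_split [Fintype G] (θ : G → ℂ) (R S : Subgroup G) (hRS : R ≤ S) :
    h2_csum θ S = h2_csum θ R + ∑ s ∈ Finset.univ.filter (fun g => g ∈ S ∧ g ∉ R), θ s := by
  rw [h2_csum_eq_sum_filter, h2_csum_eq_sum_filter]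
  have hunion : Finset.univ.filter (fun g => g ∈ S) =
      Finset.univ.filter (fun g => g ∈ R) ∪ Finset.univ.filter (fun g => g ∈ S ∧ g ∉ R) := by
    ext x
    simp only [Finset.mem_filter, Finset.mem_univ, true_and, Finset.mem_union]
    constructor
    · intro hx
      by_cases hxR : x ∈ R
      · exact Or.inl hxR
      · exact Or.inr ⟨hx, hxR⟩
    · rintro (hx | hx)
      · exact hRS hx
      · exact hx.1
  have hdisj : Disjoint (Finset.univ.filter (fun g => g ∈ R))
      (Finset.univ.filter (fun g => g ∈ S ∧ g ∉ R)) := by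
    rw [Finset.disjoint_left]
    intro x hx hx'
    simp only [Finset.mem_filter, Finset.mem_univ, true_and] at hx hx'
    exact hx'.2 hx
  rw [hunion, Finset.sum_union hdisj]

theorem h2_card_diff [Fintype G] (R S : Subgroup G) (hRS : R ≤ S) :
    (Finset.univ.filter (fun g : G => g ∈ S ∧ g ∉ R)).card + Nat.card R = Nat.card S := by
  rw [h2_card_eq_card_filter, h2_card_eq_card_filter]
  have hunion : Finset.univ.filter (fun g => g ∈ S) =
      Finset.univ.filter (fun g => g ∈ R) ∪ Finset.univ.filter (fun g => g ∈ S ∧ g ∉ R) := by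
    ext x
    simp only [Finset.mem_filter, Finset.mem_univ, true_and, Finset.mem_union]
    constructor
    · intro hx
      by_cases hxR : x ∈ R
      · exact Or.inl hxR
      · exact Or.inr ⟨hx, hxR⟩
    · rintro (hx | hx)
      · exact hRS hx
      · exact hx.1
  have hdisj : Disjoint (Finset.univ.filter (fun g => g ∈ R))
      (Finset.univ.filter (fun g => g ∈ S ∧ g ∉ R)) := by
    rw [Finset.disjoint_left]
    intro x hx hx'
    simp only [Finset.mem_filter, Finset.mem_univ, true_and] at hx hx'
    exact hx'.2 hx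
  rw [hunion, Finset.card_union_of_disjoint hdisj, add_comm]



/-- an element whose order is a multiple of `4` has a centralizer of order dividing `16` -/
theorem h2_card_centralizer_dvd [Finite G] (F : GFacts G) (s : G) (h4 : 4 ∣ orderOf s) :
    Nat.card (Subgroup.centralizer ({s} : Set G)) ∣ 16 := by
  have hs0 : orderOf s ≠ 0 := (orderOf_pos s).ne'
  have h2 : 2 ∣ orderOf s := dvd_trans (by norm_num) h4
  have hu : orderOf (s ^ (orderOf s / 2)) = 2 := orderOf_pow_orderOf_div hs0 h2
  have hle : Subgroup.centralizer ({s} : Set G) ≤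
      Subgroup.centralizer ({s ^ (orderOf s / 2)} : Set G) := by
    intro g hg
    rw [Subgroup.mem_centralizer_singleton_iff] at hg ⊢
    exact ((Commute.pow_right (show Commute g s from hg) _).eq)
  have h48 : Nat.card (Subgroup.centralizer ({s} : Set G)) ∣ 48 := by
    rw [← F.cent2 _ hu]
    exact Subgroup.card_dvd_of_le hle
  have h3 : ¬ 3 ∣ Nat.card (Subgroup.centralizer ({s} : Set G)) := by
    intro h3
    haveI : Fact (Nat.Prime 3) := ⟨Nat.prime_three⟩
    obtain ⟨x, hx⟩ := exists_prime_orderOf_dvd_card' (G := Subgroup.centralizer ({s} : Set G)) 3 h3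
    have hx3 : orderOf (x : G) = 3 := by rw [Subgroup.orderOf_coe]; exact hx
    have hsx : s ∈ Subgroup.centralizer ({(x : G)} : Set G) := by
      rw [Subgroup.mem_centralizer_singleton_iff]
      have := x.2
      rw [Subgroup.mem_centralizer_singleton_iff] at this
      exact this.symm
    have hd : orderOf s ∣ 18 := by
      rw [← F.cent3 _ hx3]
      exact Subgroup.orderOf_dvd_natCard _ hsx
    have : 4 ∣ 18 := dvd_trans h4 hd
    norm_num at this
  have hcop : Nat.Coprime (Nat.card (Subgroup.centralizer ({s} : Set G))) 3 :=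
    (Nat.Prime.coprime_iff_not_dvd Nat.prime_three).mpr h3 |>.symm
  exact hcop.dvd_of_dvd_mul_left (by simpa using h48)

/-- the bound `|χ s|² ≤ 15` for nontrivial `χ` and `s` of order divisible by `4` -/
theorem h2_normSq_le [Fintype G] (F : GFacts G) (χ : Cfsg.IrrCharacter G)
    (hχ : (χ : G → ℂ) 1 ≠ 1) (s : G) (h4 : 4 ∣ orderOf s) :
    Complex.normSq ((χ : G → ℂ) s) ≤ 15 := by
  haveI : Finite (Cfsg.IrrCharacter G) := irr_finite
  haveI : Fintype (Cfsg.IrrCharacter G) := Fintype.ofFinite _
  have hcol := column_orthogonality_aux s s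
  rw [if_pos (IsConj.refl s)] at hcol
  have hcard : Nat.card (Subgroup.centralizer ({s} : Set G)) ≤ 16 :=
    Nat.le_of_dvd (by norm_num) (h2_card_centralizer_dvd F s h4)
  have hreal : ∑ ψ : Cfsg.IrrCharacter G, Complex.normSq ((ψ : G → ℂ) s) =
      (Nat.card (Subgroup.centralizer ({s} : Set G)) : ℝ) := by
    apply Complex.ofReal_injective
    rw [Complex.ofReal_sum, Complex.ofReal_natCast, ← hcol]
    exact Finset.sum_congr rfl (fun ψ _ => (Complex.mul_conj _).symm)
  set τ : Cfsg.IrrCharacter G := ⟨fun _ => 1, isIrrCharacter_one⟩ with hτ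
  have hne : χ ≠ τ := by
    intro h
    apply hχ
    rw [h]
  have hsub : ∑ ψ ∈ ({χ, τ} : Finset (Cfsg.IrrCharacter G)), Complex.normSq ((ψ : G → ℂ) s) ≤
      ∑ ψ : Cfsg.IrrCharacter G, Complex.normSq ((ψ : G → ℂ) s) :=
    Finset.sum_le_sum_of_subset_of_nonneg (Finset.subset_univ _)
      (fun ψ _ _ => Complex.normSq_nonneg _)
  rw [Finset.sum_pair hne, hreal] at hsub
  have h1 : Complex.normSq ((τ : G → ℂ) s) = 1 := by
    rw [hτ]
    simp
  have hcard' : (Nat.card (Subgroup.centralizer ({s} : Set G)) : ℝ) ≤ 16 := by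
    exact_mod_cast hcard
  linarith

end Cfsg.Agent.M11U
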