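import Mathlib
import Cfsg.Prelude.Def_Characters
import Cfsg.Agent.M11U.Base
import Cfsg.Agent.M11U.H2_CharA

/-!
# S0420, A-CHAR (helper2), part 2: the character sums over `K = P R`, `R`, `S`, `S'`
and the conclusion `K ⊔ S' ≠ ⊤`, with the two A-REP facts as hypotheses.
-/

set_option autoImplicit false
set_option linter.style.haveILetI false

namespace Cfsg.Agent.M11U

open scoped ComplexConjugate Pointwise
open Classical
open Cfsg.Agent.Helper6

universe u

variable {G : Type u} [Group G]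

/-- the nonidentity elements of `P` have order `3` -/
theorem h2_order_three [Finite G] (F : GFacts G) (L : LocalCfg G) (y : G) (hy : y ∈ L.P)
    (hy1 : y ≠ 1) : orderOf y = 3 := by
  have hd : orderOf y ∣ 3 ^ 2 := by
    have := Subgroup.orderOf_dvd_natCard L.P hy
    rw [L.cardP] at this
    exact this
  obtain ⟨k, hk, hk'⟩ := (Nat.dvd_prime_pow Nat.prime_three).mp hd
  interval_cases k
  · exact absurd (orderOf_eq_one_iff.mp (by simpa using hk')) hy1
  · simpa using hk'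
  · exact absurd (by simpa using hk') (F.no9 y)

/-- `P ∩ R = 1` -/
theorem h2_inter_trivial [Finite G] (L : LocalCfg G) (y : G) (hy : y ∈ L.P) (hyR : y ∈ L.R) :
    y = 1 := by
  have h9 : orderOf y ∣ 9 := by
    have := Subgroup.orderOf_dvd_natCard L.P hy
    rwa [L.cardP] at this
  have h8 : orderOf y ∣ 8 := by
    have := Subgroup.orderOf_dvd_natCard L.R hyR
    rwa [L.cardR] at this
  have h1 : orderOf y ∣ Nat.gcd 9 8 := Nat.dvd_gcd h9 h8
  have h1' : orderOf y = 1 := by simpa using h1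
  exact orderOf_eq_one_iff.mp h1'

/-- `y t` is an involution for `y ∈ P` -/
theorem h2_order_mul_t [Finite G] (L : LocalCfg G) (y : G) (hy : y ∈ L.P) :
    orderOf (y * L.t) = 2 := by
  have ht2 : L.t * L.t = 1 := by
    have := pow_orderOf_eq_one L.t
    rwa [L.ht, pow_two] at this
  have hinv : L.t * y = y⁻¹ * L.t := by
    have := L.inv y hy
    rw [mul_inv_eq_iff_eq_mul] at this
    exact this
  have hsq : (y * L.t) ^ 2 = 1 := by
    rw [pow_two]
    calc y * L.t * (y * L.t) = y * (L.t * y) * L.t := by group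
      _ = y * (y⁻¹ * L.t) * L.t := by rw [hinv]
      _ = L.t * L.t := by group
      _ = 1 := ht2
  have hne : y * L.t ≠ 1 := by
    intro h
    have htP : L.t ∈ L.P := by
      have : L.t = y⁻¹ := eq_inv_of_mul_eq_one_right h
      rw [this]
      exact L.P.inv_mem hy
    have := h2_inter_trivial L L.t htP L.tR
    have h2 := L.ht
    rw [this, orderOf_one] at h2
    norm_num at h2
  haveI : Fact (Nat.Prime 2) := ⟨Nat.prime_two⟩
  exact orderOf_eq_prime hsq hne

/-- for `r ∈ R`, `r ≠ 1`, every `y r` (`y ∈ P`) is conjugate to `r` -/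
theorem h2_conj_of_reg [Finite G] (L : LocalCfg G) (r : G) (hr : r ∈ L.R) (hr1 : r ≠ 1)
    (y : G) (hy : y ∈ L.P) : ∃ b : G, y * r = b * r * b⁻¹ := by
  have hmem : ∀ b : G, b ∈ L.P → b * r * b⁻¹ * r⁻¹ ∈ L.P := by
    intro b hb
    have h1 : r * b⁻¹ * r⁻¹ ∈ L.P :=
      (Subgroup.mem_normalizer_iff.mp (L.RN hr) b⁻¹).mp (L.P.inv_mem hb)
    have h2 : b * r * b⁻¹ * r⁻¹ = b * (r * b⁻¹ * r⁻¹) := by group
    rw [h2]
    exact L.P.mul_mem hb h1
  let f : L.P → L.P := fun b => ⟨(b : G) * r * (b : G)⁻¹ * r⁻¹, hmem b b.2⟩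
  have hinj : Function.Injective f := by
    intro b b' h
    have h1 : (b : G) * r * (b : G)⁻¹ * r⁻¹ = (b' : G) * r * (b' : G)⁻¹ * r⁻¹ :=
      congrArg Subtype.val h
    have h2 : (b : G) * r * (b : G)⁻¹ = (b' : G) * r * (b' : G)⁻¹ := mul_right_cancel h1
    have hzP : (b' : G)⁻¹ * (b : G) ∈ L.P := L.P.mul_mem (L.P.inv_mem b'.2) b.2
    have hz : (b' : G)⁻¹ * (b : G) * r * ((b' : G)⁻¹ * (b : G))⁻¹ = r := by
      calc (b' : G)⁻¹ * (b : G) * r * ((b' : G)⁻¹ * (b : G))⁻¹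
          = (b' : G)⁻¹ * ((b : G) * r * (b : G)⁻¹) * (b' : G) := by group
        _ = (b' : G)⁻¹ * ((b' : G) * r * (b' : G)⁻¹) * (b' : G) := by rw [h2]
        _ = r := by group
    have hcomm : (b' : G)⁻¹ * (b : G) * r = r * ((b' : G)⁻¹ * (b : G)) := by
      rw [mul_inv_eq_iff_eq_mul] at hz
      exact hz
    have hfix : r * ((b' : G)⁻¹ * (b : G)) * r⁻¹ = (b' : G)⁻¹ * (b : G) := by
      rw [← hcomm]; group
    have hz1 : (b' : G)⁻¹ * (b : G) = 1 := by
      by_contra hne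
      exact L.reg r hr hr1 _ hzP hne hfix
    exact Subtype.ext (inv_mul_eq_one.mp hz1).symm
  have hsurj : Function.Surjective f := Finite.injective_iff_surjective.mp hinj
  obtain ⟨b, hb⟩ := hsurj ⟨y, hy⟩
  refine ⟨(b : G), ?_⟩
  have h1 : (b : G) * r * (b : G)⁻¹ * r⁻¹ = y := congrArg Subtype.val hb
  rw [← h1]
  group

/-- the shifted sums over `P`: `∑_{y ∈ P} θ (y r)` for `r ∈ R` -/
theorem h2_shift_sums [Fintype G] (F : GFacts G) (χ : Cfsg.IrrCharacter G) (C : CFacts G χ)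
    (L : LocalCfg G) (c : ℂ) (hc : ∀ r ∈ L.R, orderOf r = 4 → (χ : G → ℂ) r = c) :
    (∑ y ∈ Finset.univ.filter (fun g => g ∈ L.P), (χ : G → ℂ) (y * 1) = 18) ∧
    (∑ y ∈ Finset.univ.filter (fun g => g ∈ L.P), (χ : G → ℂ) (y * L.t) = 18) ∧
    (∀ r ∈ L.R, r ≠ 1 → r ≠ L.t →
      ∑ y ∈ Finset.univ.filter (fun g => g ∈ L.P), (χ : G → ℂ) (y * r) = 9 * c) := by
  have hcf : Cfsg.IsClassFunction G (χ : G → ℂ) :=
    IsCharacter.isClassFunction (IsIrrCharacter.isCharacter χ.2)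
  have hcardP : (Finset.univ.filter (fun g : G => g ∈ L.P)).card = 9 := by
    rw [← h2_card_eq_card_filter, L.cardP]
  refine ⟨?_, ?_, ?_⟩
  · have h1mem : (1 : G) ∈ Finset.univ.filter (fun g : G => g ∈ L.P) := by
      simp only [Finset.mem_filter, Finset.mem_univ, true_and]
      exact L.P.one_mem
    rw [← Finset.add_sum_erase _ _ h1mem, mul_one, C.deg]
    have hrest : ∑ y ∈ (Finset.univ.filter (fun g : G => g ∈ L.P)).erase 1,
        (χ : G → ℂ) (y * 1) = ∑ _y ∈ (Finset.univ.filter (fun g : G => g ∈ L.P)).erase 1,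
          (1 : ℂ) := by
      apply Finset.sum_congr rfl
      intro y hy
      simp only [Finset.mem_erase, Finset.mem_filter, Finset.mem_univ, true_and] at hy
      rw [mul_one]
      exact C.val3 y (h2_order_three F L y hy.2 hy.1)
    rw [hrest, Finset.sum_const, Finset.card_erase_of_mem h1mem, hcardP]
    norm_num
  · have hall : ∑ y ∈ Finset.univ.filter (fun g => g ∈ L.P), (χ : G → ℂ) (y * L.t) =
        ∑ _y ∈ Finset.univ.filter (fun g : G => g ∈ L.P), (2 : ℂ) := by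
      apply Finset.sum_congr rfl
      intro y hy
      simp only [Finset.mem_filter, Finset.mem_univ, true_and] at hy
      exact C.val2 _ (h2_order_mul_t L y hy)
    rw [hall, Finset.sum_const, hcardP]
    norm_num
  · intro r hr hr1 hrt
    have hall : ∑ y ∈ Finset.univ.filter (fun g => g ∈ L.P), (χ : G → ℂ) (y * r) =
        ∑ _y ∈ Finset.univ.filter (fun g : G => g ∈ L.P), c := by
      apply Finset.sum_congr rfl
      intro y hy
      simp only [Finset.mem_filter, Finset.mem_univ, true_and] at hy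
      obtain ⟨b, hb⟩ := h2_conj_of_reg L r hr hr1 y hy
      rw [hb, hcf r b]
      exact hc r hr (L.ord4 r hr hr1 hrt)
    rw [hall, Finset.sum_const, hcardP]
    norm_num

/-- sums over `R`: splitting off `1` and `t` -/
theorem h2_sum_R [Fintype G] (L : LocalCfg G) (f : G → ℂ) (a : ℂ)
    (hf : ∀ r ∈ L.R, r ≠ 1 → r ≠ L.t → f r = a) :
    ∑ r ∈ Finset.univ.filter (fun g => g ∈ L.R), f r = f 1 + f L.t + 6 * a := by
  have hcardR : (Finset.univ.filter (fun g : G => g ∈ L.R)).card = 8 := by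
    rw [← h2_card_eq_card_filter, L.cardR]
  have ht1 : L.t ≠ 1 := by
    intro h
    have h2 := L.ht
    rw [h, orderOf_one] at h2
    norm_num at h2
  have h1mem : (1 : G) ∈ Finset.univ.filter (fun g : G => g ∈ L.R) := by
    simp only [Finset.mem_filter, Finset.mem_univ, true_and]
    exact L.R.one_mem
  have htmem : L.t ∈ (Finset.univ.filter (fun g : G => g ∈ L.R)).erase 1 := by
    simp only [Finset.mem_erase, Finset.mem_filter, Finset.mem_univ, true_and]
    exact ⟨ht1, L.tR⟩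
  rw [← Finset.add_sum_erase _ _ h1mem, ← Finset.add_sum_erase _ _ htmem]
  have hrest : ∑ r ∈ ((Finset.univ.filter (fun g : G => g ∈ L.R)).erase 1).erase L.t, f r =
      ∑ _r ∈ ((Finset.univ.filter (fun g : G => g ∈ L.R)).erase 1).erase L.t, a := by
    apply Finset.sum_congr rfl
    intro r hr
    simp only [Finset.mem_erase, Finset.mem_filter, Finset.mem_univ, true_and] at hr
    exact hf r hr.2.2 hr.2.1 hr.1
  rw [hrest, Finset.sum_const, Finset.card_erase_of_mem htmem, Finset.card_erase_of_mem h1mem,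
    hcardR]
  norm_num
  ring

/-- there is an element of order `4` in `R` -/
theorem h2_exists_order_four [Fintype G] (L : LocalCfg G) : ∃ r ∈ L.R, orderOf r = 4 := by
  have hcardR : (Finset.univ.filter (fun g : G => g ∈ L.R)).card = 8 := by
    rw [← h2_card_eq_card_filter, L.cardR]
  have hlt : ({1, L.t} : Finset G).card < (Finset.univ.filter (fun g : G => g ∈ L.R)).card := by
    rw [hcardR]
    exact lt_of_le_of_lt (Finset.card_insert_le _ _) (by simp)
  obtain ⟨r, hr, hr'⟩ := Finset.exists_mem_notMem_of_card_lt_card hlt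
  simp only [Finset.mem_filter, Finset.mem_univ, true_and] at hr
  simp only [Finset.mem_insert, Finset.mem_singleton, not_or] at hr'
  exact ⟨r, hr, L.ord4 r hr hr'.1 hr'.2⟩

/-- the sum over `K = P R` in terms of the common value `c` on the elements of order `4` -/
theorem h2_sum_K [Fintype G] (F : GFacts G) (χ : Cfsg.IrrCharacter G) (C : CFacts G χ)
    (L : LocalCfg G) (c : ℂ) (hc : ∀ r ∈ L.R, orderOf r = 4 → (χ : G → ℂ) r = c) :
    h2_csum (χ : G → ℂ) (L.P ⊔ L.R) = 36 + 54 * c ∧ Nat.card ↥(L.P ⊔ L.R) = 72 ∧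
    h2_csum (χ : G → ℂ) L.R = 12 + 6 * c := by
  obtain ⟨h1, ht, hr⟩ := h2_shift_sums F χ C L c hc
  obtain ⟨hK, hcard⟩ := h2_csum_sup (χ : G → ℂ) L.P L.R L.RN (h2_inter_trivial L)
  refine ⟨?_, ?_, ?_⟩
  · rw [hK, h2_sum_R L (fun r => ∑ y ∈ Finset.univ.filter (fun g => g ∈ L.P),
      (χ : G → ℂ) (y * r)) (9 * c) hr, h1, ht]
    ring
  · rw [hcard, L.cardP, L.cardR]
  · rw [h2_csum_eq_sum_filter, h2_sum_R L (χ : G → ℂ) c
      (fun r hr hr1 hrt => hc r hr (L.ord4 r hr hr1 hrt)), C.deg, C.val2 _ L.ht]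
    ring

/-- the common value on the elements of order `4` of `R` is `2` -/
theorem h2_value_four [Fintype G] (F : GFacts G) (χ : Cfsg.IrrCharacter G) (C : CFacts G χ)
    (L : LocalCfg G)
    (hsum : ∀ X : Subgroup G, ∃ d : ℕ, h2_csum (χ : G → ℂ) X = (d : ℂ) * (Nat.card X : ℂ)) :
    ∀ r ∈ L.R, orderOf r = 4 → (χ : G → ℂ) r = 2 := by
  have hcf : Cfsg.IsClassFunction G (χ : G → ℂ) :=
    IsCharacter.isClassFunction (IsIrrCharacter.isCharacter χ.2)
  obtain ⟨r₀, hr₀R, hr₀⟩ := h2_exists_order_four L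
  have hc : ∀ r ∈ L.R, orderOf r = 4 → (χ : G → ℂ) r = (χ : G → ℂ) r₀ := by
    intro r hr h4
    obtain ⟨g, hg⟩ := isConj_iff.mp (L.conj4 r₀ hr₀R r hr hr₀ h4)
    rw [← hg]
    exact hcf r₀ g
  -- the cyclic group generated by `r₀`
  obtain ⟨d4, hd4⟩ := hsum (Subgroup.zpowers r₀)
  rw [h2_csum_zpowers_four _ r₀ hr₀, Nat.card_zpowers, hr₀] at hd4
  have h2 : orderOf (r₀ ^ 2) = 2 := by
    rw [orderOf_pow_of_dvd (by norm_num) (by rw [hr₀]; norm_num), hr₀]
  have h3 : r₀ ^ 3 = r₀⁻¹ := by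
    apply eq_inv_of_mul_eq_one_left
    rw [← pow_succ]
    have := pow_orderOf_eq_one r₀
    rwa [hr₀] at this
  have h3' : (χ : G → ℂ) (r₀ ^ 3) = (χ : G → ℂ) r₀ := by
    rw [h3]
    exact hc _ (L.R.inv_mem hr₀R) (by rw [orderOf_inv]; exact hr₀)
  rw [C.deg, C.val2 _ h2, h3'] at hd4
  -- the sum over `K`
  obtain ⟨hK, hcardK, -⟩ := h2_sum_K F χ C L _ hc
  obtain ⟨dK, hdK⟩ := hsum (L.P ⊔ L.R)
  rw [hK, hcardK] at hdK
  -- `c` is an integer
  have hcint : (χ : G → ℂ) r₀ = ((2 * (d4 : ℤ) - 6 : ℤ) : ℂ) := by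
    push_cast
    linear_combination (1 / 2 : ℂ) * hd4
  -- the bound
  have hχ1 : (χ : G → ℂ) 1 ≠ 1 := by rw [C.deg]; norm_num
  have hb := h2_normSq_le F χ hχ1 r₀ (by rw [hr₀])
  rw [hcint] at hb hdK
  have hb' : (2 * (d4 : ℤ) - 6) * (2 * (d4 : ℤ) - 6) ≤ 15 := by
    have h := hb
    rw [show (((2 * (d4 : ℤ) - 6 : ℤ) : ℂ)) = (((2 * (d4 : ℤ) - 6 : ℤ) : ℝ) : ℂ) by push_cast; rfl,
      Complex.normSq_ofReal] at h
    exact_mod_cast h
  have hK' : 36 + 54 * (2 * (d4 : ℤ) - 6) = (dK : ℤ) * 72 := by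
    have h := hdK
    exact_mod_cast h
  have hval : 2 * (d4 : ℤ) - 6 = 2 := by
    have hl : -3 ≤ 2 * (d4 : ℤ) - 6 := by nlinarith
    have hu : 2 * (d4 : ℤ) - 6 ≤ 3 := by nlinarith
    omega
  intro r hr h4
  rw [hc r hr h4, hcint, hval]
  norm_num

/-- the real part of `χ s` for `s ∈ S \ R` is at least `-3.9` -/
theorem h2_re_ge [Fintype G] (F : GFacts G) (χ : Cfsg.IrrCharacter G) (C : CFacts G χ)
    (L : LocalCfg G) (s : G) (hs : s ∈ L.S) (hsR : s ∉ L.R) :
    (-39 / 10 : ℝ) ≤ ((χ : G → ℂ) s).re := by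
  obtain ⟨k, hk⟩ := L.twoS s hs
  have hs1 : s ≠ 1 := fun h => hsR (h ▸ L.R.one_mem)
  rcases Nat.lt_or_ge k 2 with hk2 | hk2
  · interval_cases k
    · exact absurd (orderOf_eq_one_iff.mp (by simpa using hk)) hs1
    · rw [C.val2 s (by simpa using hk)]
      norm_num
  · have h4 : 4 ∣ orderOf s := by
      rw [hk]
      exact pow_dvd_pow 2 hk2
    have hχ1 : (χ : G → ℂ) 1 ≠ 1 := by rw [C.deg]; norm_num
    have hb := h2_normSq_le F χ hχ1 s h4
    rw [Complex.normSq_apply] at hb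
    nlinarith [mul_self_nonneg ((χ : G → ℂ) s).im]

/-- the sum over `S` is at least `2 |S|` -/
theorem h2_sum_S [Fintype G] (F : GFacts G) (χ : Cfsg.IrrCharacter G) (C : CFacts G χ)
    (L : LocalCfg G) (hR : h2_csum (χ : G → ℂ) L.R = 24) (dS : ℕ)
    (hS : h2_csum (χ : G → ℂ) L.S = (dS : ℂ) * (Nat.card L.S : ℂ)) : 2 ≤ dS := by
  rw [h2_csum_split _ L.R L.S L.RS, hR, L.cardS] at hS
  obtain ⟨E, hE4, hE⟩ := L.refl4
  have hsub : E ⊆ Finset.univ.filter (fun g => g ∈ L.S ∧ g ∉ L.R) := by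
    intro s hs
    simp only [Finset.mem_filter, Finset.mem_univ, true_and]
    exact ⟨(hE s hs).1, (hE s hs).2.1⟩
  have hcardD : (Finset.univ.filter (fun g : G => g ∈ L.S ∧ g ∉ L.R)).card = 8 := by
    have := h2_card_diff L.R L.S L.RS
    rw [L.cardR, L.cardS] at this
    omega
  have hcardDE : ((Finset.univ.filter (fun g : G => g ∈ L.S ∧ g ∉ L.R)) \ E).card = 4 := by
    rw [Finset.card_sdiff_of_subset hsub, hcardD, hE4]
  rw [← Finset.sum_sdiff hsub] at hS
  have hEsum : ∑ s ∈ E, (χ : G → ℂ) s = 8 := by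
    have : ∑ s ∈ E, (χ : G → ℂ) s = ∑ _s ∈ E, (2 : ℂ) :=
      Finset.sum_congr rfl (fun s hs => C.val2 s (hE s hs).2.2)
    rw [this, Finset.sum_const, hE4]
    norm_num
  rw [hEsum] at hS
  have hre := congrArg Complex.re hS
  have hrest : (4 : ℕ) • (-39 / 10 : ℝ) ≤
      ∑ s ∈ (Finset.univ.filter (fun g : G => g ∈ L.S ∧ g ∉ L.R)) \ E,
        ((χ : G → ℂ) s).re := by
    rw [← hcardDE]
    apply Finset.card_nsmul_le_sum
    intro s hs
    simp only [Finset.mem_sdiff, Finset.mem_filter, Finset.mem_univ, true_and] at hs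
    exact h2_re_ge F χ C L s hs.1.1 hs.1.2
  simp only [Complex.add_re, Complex.re_sum, Complex.mul_re, Complex.natCast_re,
    Complex.natCast_im, mul_zero, sub_zero] at hre
  have h24 : (24 : ℂ).re = 24 := by norm_num
  have h8 : (8 : ℂ).re = 8 := by norm_num
  rw [h24, h8] at hre
  have hlt : (16 : ℝ) < (dS : ℝ) * ((16 : ℕ) : ℝ) := by
    rw [← hre]
    simp only [nsmul_eq_mul] at hrest
    push_cast at hrest
    linarith
  have hlt' : 16 < dS * 16 := by exact_mod_cast hlt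
  omega

/-- **A-CHAR**, with the two A-REP facts as hypotheses. -/
theorem h2_sup_ne_top_aux [Fintype G] (F : GFacts G) (χ : Cfsg.IrrCharacter G) (C : CFacts G χ)
    (L : LocalCfg G)
    (hsum : ∀ X : Subgroup G, ∃ d : ℕ, h2_csum (χ : G → ℂ) X = (d : ℂ) * (Nat.card X : ℂ))
    (hsup : ∀ K R S : Subgroup G, R ≤ K → R ≤ S → ∀ dK dR dS : ℕ,
      h2_csum (χ : G → ℂ) K = (dK : ℂ) * (Nat.card K : ℂ) →
      h2_csum (χ : G → ℂ) R = (dR : ℂ) * (Nat.card R : ℂ) →
      h2_csum (χ : G → ℂ) S = (dS : ℂ) * (Nat.card S : ℂ) →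
      dR < dK + dS → K ⊔ S ≠ ⊤) :
    (L.P ⊔ L.R) ⊔ L.S' ≠ ⊤ := by
  have hcf : Cfsg.IsClassFunction G (χ : G → ℂ) :=
    IsCharacter.isClassFunction (IsIrrCharacter.isCharacter χ.2)
  have hc := h2_value_four F χ C L hsum
  obtain ⟨hK, hcardK, hR⟩ := h2_sum_K F χ C L 2 hc
  have hR24 : h2_csum (χ : G → ℂ) L.R = 24 := by rw [hR]; norm_num
  obtain ⟨dS, hdS⟩ := hsum L.S
  have hdS2 := h2_sum_S F χ C L hR24 dS hdS
  obtain ⟨g, hg⟩ := L.conjS
  have hS' : h2_csum (χ : G → ℂ) L.S' = (dS : ℂ) * (Nat.card L.S' : ℂ) := by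
    rw [hg, h2_csum_map_conj _ hcf, h2_card_map_conj, hdS]
  refine hsup (L.P ⊔ L.R) L.R L.S' le_sup_right L.RS' 2 3 dS ?_ ?_ hS' (by omega)
  · rw [hK, hcardK]; norm_num
  · rw [hR24, L.cardR]; norm_num

end Cfsg.Agent.M11U
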