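import Mathlib
import Cfsg.Prelude.Def_Characters
import Cfsg.Agent.M11U.Base
import Cfsg.Agent.M11U.H3_Rep
import Cfsg.Agent.M11U.H2_Char

/-!
# S0420, A-CHAR (helper2): `sup_ne_top_of_cfg`, the interface statement.
-/

set_option autoImplicit false
set_option linter.style.haveILetI false

namespace Cfsg.Agent.M11U

open scoped ComplexConjugate Pointwise
open Classical

universe u

/-- A-CHAR -/
theorem sup_ne_top_of_cfg {G : Type u} [Group G] [Finite G] (F : GFacts G)
    (χ : Cfsg.IrrCharacter G) (C : CFacts G χ) (L : LocalCfg G) : (L.P ⊔ L.R) ⊔ L.S' ≠ ⊤ := by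
  haveI : Fintype G := Fintype.ofFinite G
  have hχ1 : (χ : G → ℂ) 1 ≠ 1 := by rw [C.deg]; norm_num
  exact h2_sup_ne_top_aux F χ C L (fun X => exists_char_sum χ X)
    (fun K R S hRK hRS dK dR dS hK hR hS hlt =>
      sup_ne_top_of_char_sums χ hχ1 K R S hRK hRS dK dR dS hK hR hS hlt)

end Cfsg.Agent.M11U
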