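import Mathlib
import Cfsg.Agent.M11U.Base

/-!
# S0420, PART B: a simple group of order `7920` with the `GFacts` acts faithfully and sharply
`4`-transitively on the `11` cosets of any subgroup of index `11`.
-/

set_option autoImplicit false

namespace Cfsg.Agent.M11U

open scoped Pointwise
open Classical

universe u v

section PartB

variable {G : Type u} [Group G]

/-- orbit-stabilizer for a subgroup `L` of `G` acting on `Ω`, everything inside `G` -/
theorem h4_os {Ω : Type v} [MulAction G Ω] [Finite G] (L : Subgroup G) (ω : Ω) :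
    Nat.card L = {ω' : Ω | ∃ l ∈ L, l • ω = ω'}.ncard *
      Nat.card ↥(L ⊓ MulAction.stabilizer G ω) := by
  have h1 := Subgroup.card_mul_index (MulAction.stabilizer L ω)
  rw [MulAction.index_stabilizer] at h1
  have h2 : MulAction.orbit L ω = {ω' : Ω | ∃ l ∈ L, l • ω = ω'} := by
    ext ω'
    simp only [MulAction.mem_orbit_iff, Set.mem_setOf_eq]
    constructor
    · rintro ⟨⟨l, hl⟩, h⟩; exact ⟨l, hl, h⟩
    · rintro ⟨l, hl, h⟩; exact ⟨⟨l, hl⟩, h⟩
  have h3 : (MulAction.stabilizer L ω).map L.subtype = L ⊓ MulAction.stabilizer G ω := by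
    ext g
    simp only [Subgroup.mem_map, Subgroup.mem_inf, MulAction.mem_stabilizer_iff]
    constructor
    · rintro ⟨⟨l, hl⟩, h, rfl⟩; exact ⟨hl, h⟩
    · rintro ⟨hl, h⟩; exact ⟨⟨g, hl⟩, h, rfl⟩
  rw [← h3, Subgroup.card_map_of_injective L.subtype_injective, ← h2, mul_comm]
  exact h1.symm

/-- nonidentity elements of a subgroup of order `9` have order `3` -/
theorem h4_order_three (F : GFacts G) (P : Subgroup G) (hP : Nat.card P = 9) (y : G)
    (hy : y ∈ P) (hy1 : y ≠ 1) : orderOf y = 3 := by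
  have h1 : orderOf y ∣ 9 := by
    have := Subgroup.orderOf_dvd_natCard P hy
    rwa [hP] at this
  have h2 : orderOf y ≠ 1 := by rwa [Ne, orderOf_eq_one_iff]
  have h3 := F.no9 y
  have h4 : orderOf y ∈ Nat.divisors 9 := by simp [h1]
  have hd : Nat.divisors 9 = {1, 3, 9} := by decide
  rw [hd] at h4
  simp only [Finset.mem_insert, Finset.mem_singleton] at h4
  omega

/-- a nonidentity `3`-element lies in a unique subgroup of order `9` -/
theorem h4_sylow_unique [Finite G] (F : GFacts G) (P Q : Subgroup G) (hP : Nat.card P = 9)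
    (hQ : Nat.card Q = 9) (y : G) (hyP : y ∈ P) (hyQ : y ∈ Q) (hy1 : y ≠ 1) : P = Q := by
  have hy3 := h4_order_three F P hP y hyP hy1
  have hC := F.cent3 y hy3
  haveI : Fact (Nat.Prime 3) := ⟨by norm_num⟩
  have hcomm : ∀ (R : Subgroup G), Nat.card R = 9 → y ∈ R →
      R ≤ Subgroup.centralizer ({y} : Set G) := by
    intro R hR hyR x hx
    rw [Subgroup.mem_centralizer_iff]
    intro h hh
    rw [Set.mem_singleton_iff] at hh
    subst hh
    have := IsPGroup.commutative_of_card_eq_prime_sq (p := 3) (G := R) (by rw [hR]; norm_num)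
      ⟨h, hyR⟩ ⟨x, hx⟩
    exact congrArg Subtype.val this
  have hPC := hcomm P hP hyP
  have hQC := hcomm Q hQ hyQ
  have hidx : (P.subgroupOf (Subgroup.centralizer ({y} : Set G))).index = 2 := by
    have h1 := Subgroup.card_mul_index (P.subgroupOf (Subgroup.centralizer ({y} : Set G)))
    rw [Nat.card_congr (Subgroup.subgroupOfEquivOfLe hPC).toEquiv, hP, hC] at h1
    omega
  have hnorm : (P.subgroupOf (Subgroup.centralizer ({y} : Set G))).Normal :=
    Subgroup.normal_of_index_eq_two hidx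
  have hCN : Subgroup.centralizer ({y} : Set G) ≤ Subgroup.normalizer (P : Set G) :=
    (Subgroup.normal_subgroupOf_iff_le_normalizer hPC).mp hnorm
  have hPp : IsPGroup 3 P := IsPGroup.of_card (n := 2) (by rw [hP]; norm_num)
  have hQp : IsPGroup 3 Q := IsPGroup.of_card (n := 2) (by rw [hQ]; norm_num)
  have hsup : IsPGroup 3 (Q ⊔ P : Subgroup G) :=
    IsPGroup.to_sup_of_normal_right' hQp hPp (hQC.trans hCN)
  obtain ⟨k, hk⟩ := IsPGroup.iff_card.mp hsup
  have hle : Q ⊔ P ≤ Subgroup.centralizer ({y} : Set G) := sup_le hQC hPC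
  have hdvd : Nat.card (Q ⊔ P : Subgroup G) ∣ 18 := hC ▸ Subgroup.card_dvd_of_le hle
  have hk9 : Nat.card (Q ⊔ P : Subgroup G) ≤ 9 := by
    rw [hk] at hdvd ⊢
    have hk2 : k ≤ 2 := by
      by_contra hk2
      push_neg at hk2
      have : 3 ^ 3 ∣ 18 := (pow_dvd_pow 3 hk2).trans hdvd
      omega
    interval_cases k <;> norm_num
  have e1 : P = Q ⊔ P := Subgroup.eq_of_le_of_card_ge le_sup_right (by rw [hP]; exact hk9)
  have e2 : Q = Q ⊔ P := Subgroup.eq_of_le_of_card_ge le_sup_left (by rw [hQ]; exact hk9)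
  exact e1.trans e2.symm

/-- inside a subgroup of order `720`, a `3`-element lies in a subgroup of order `9` -/
theorem h4_exists_nine [Finite G] (S : Subgroup G) (hS : Nat.card S = 720) (y : G)
    (hy : y ∈ S) (hy3 : orderOf y = 3) :
    ∃ Q : Subgroup G, Nat.card Q = 9 ∧ Q ≤ S ∧ y ∈ Q := by
  haveI : Fact (Nat.Prime 3) := ⟨by norm_num⟩
  have h1 : Nat.card (Subgroup.zpowers (⟨y, hy⟩ : S)) = 3 ^ 1 := by
    rw [Nat.card_zpowers, Subgroup.orderOf_mk, hy3]; norm_num
  have h2 : 3 ^ (1 + 1) ∣ Nat.card S := by rw [hS]; norm_num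
  obtain ⟨K, hK, hle⟩ := Sylow.exists_subgroup_card_pow_succ h2 h1
  refine ⟨K.map S.subtype, ?_, ?_, ?_⟩
  · rw [Subgroup.card_map_of_injective S.subtype_injective, hK]; norm_num
  · exact Subgroup.map_subtype_le K
  · exact ⟨⟨y, hy⟩, hle (Subgroup.mem_zpowers _), rfl⟩

section Action

variable [Finite G] (F : GFacts G) {Ω : Type v} [MulAction G Ω] [Finite Ω]
  (hΩ : Nat.card Ω = 11) [MulAction.IsPretransitive G Ω] [FaithfulSMul G Ω]

include F hΩ in
theorem h4_card_stab (α : Ω) : Nat.card (MulAction.stabilizer G α) = 720 := by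
  have h1 := Subgroup.card_mul_index (MulAction.stabilizer G α)
  rw [MulAction.index_stabilizer_of_transitive, hΩ, F.card] at h1
  omega

include F hΩ in
/-- a point fixed by a nonidentity element of `P` is fixed by all of `P` -/
theorem h4_fix_all (P : Subgroup G) (hP : Nat.card P = 9) (y : G) (hy : y ∈ P) (hy1 : y ≠ 1)
    (ω : Ω) (h : y • ω = ω) : ∀ x ∈ P, x • ω = ω := by
  have hy3 := h4_order_three F P hP y hy hy1
  obtain ⟨Q, hQ, hQS, hyQ⟩ := h4_exists_nine (MulAction.stabilizer G ω)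
    (h4_card_stab F hΩ ω) y (MulAction.mem_stabilizer_iff.mpr h) hy3
  have hPQ := h4_sylow_unique F P Q hP hQ y hy hyQ hy1
  intro x hx
  exact MulAction.mem_stabilizer_iff.mp (hQS (hPQ ▸ hx))

include F hΩ in
/-- the fixed point structure of a subgroup of order `9` fixing a point -/
theorem h4_fixed_structure (P : Subgroup G) (hP : Nat.card P = 9) (α : Ω)
    (hPα : ∀ x ∈ P, x • α = α) :
    ∃ β : Ω, β ≠ α ∧ (∀ x ∈ P, x • β = β) ∧
      (∀ ω : Ω, (∀ x ∈ P, x • ω = ω) → ω = α ∨ ω = β) ∧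
      (∀ δ δ' : Ω, δ ≠ α → δ ≠ β → δ' ≠ α → δ' ≠ β → ∃ x ∈ P, x • δ = δ') := by
  haveI : Fact (Nat.Prime 3) := ⟨by norm_num⟩
  set Φ : Set Ω := {ω | ∀ x ∈ P, x • ω = ω} with hΦ
  have hΦfix : Φ = MulAction.fixedPoints P Ω := by
    ext ω
    simp only [hΦ, Set.mem_setOf_eq, MulAction.mem_fixedPoints, Subtype.forall, Subgroup.mk_smul]
  have hPp : IsPGroup 3 P := IsPGroup.of_card (n := 2) (by rw [hP]; norm_num)
  have hmod : Nat.card Ω ≡ Φ.ncard [MOD 3] := by
    have := hPp.card_modEq_card_fixedPoints Ω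
    rw [← hΦfix, Nat.card_coe_set_eq] at this
    exact this
  rw [hΩ] at hmod
  have hαΦ : α ∈ Φ := hPα
  -- freeness outside Φ
  have hfree : ∀ δ : Ω, δ ∉ Φ → ∀ x ∈ P, x • δ = δ → x = 1 := by
    intro δ hδ x hx hxδ
    by_contra hx1
    exact hδ (h4_fix_all F hΩ P hP x hx hx1 δ hxδ)
  -- orbits outside Φ
  have horb : ∀ δ : Ω, δ ∉ Φ → ({ω | ∃ x ∈ P, x • δ = ω} : Set Ω).ncard = 9 ∧
      ∀ ω ∈ ({ω | ∃ x ∈ P, x • δ = ω} : Set Ω), ω ∉ Φ := by
    intro δ hδ
    constructor
    · have himg : ({ω | ∃ x ∈ P, x • δ = ω} : Set Ω) = Set.range (fun x : P => (x : G) • δ) := by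
        ext ω
        simp only [Set.mem_setOf_eq, Set.mem_range, Subtype.exists, exists_prop]
      have hinj : Function.Injective (fun x : P => (x : G) • δ) := by
        intro a b hab
        simp only at hab
        have h1 : ((a : G)⁻¹ * (b : G)) • δ = δ := by
          rw [mul_smul, ← hab, inv_smul_smul]
        have h2 := hfree δ hδ _ (P.mul_mem (P.inv_mem a.2) b.2) h1
        have h3 : (a : G) = (b : G) := by
          rw [inv_mul_eq_one] at h2; exact h2
        exact Subtype.ext h3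
      rw [himg, ← Nat.card_coe_set_eq, Nat.card_range_of_injective hinj, hP]
    · rintro ω ⟨x, hx, rfl⟩ hω
      apply hδ
      intro z hz
      have h1 := hω (x * z * x⁻¹) (P.mul_mem (P.mul_mem hx hz) (P.inv_mem hx))
      rw [mul_smul, mul_smul, inv_smul_smul] at h1
      exact smul_left_cancel x h1
  -- Φ ≠ univ
  have hne : ∃ δ : Ω, δ ∉ Φ := by
    by_contra hcon
    push_neg at hcon
    have h1 : ∀ x : P, x = 1 := by
      intro x
      apply Subtype.ext
      apply FaithfulSMul.eq_of_smul_eq_smul (α := Ω)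
      intro ω
      rw [Subgroup.coe_one, one_smul]
      exact hcon ω x x.2
    have h2 : Nat.card P ≤ 1 := Finite.card_le_one_iff_subsingleton.mpr ⟨fun a b => by rw [h1 a, h1 b]⟩
    omega
  obtain ⟨δ₀, hδ₀⟩ := hne
  obtain ⟨h9, hout⟩ := horb δ₀ hδ₀
  have hdisj : Disjoint Φ ({ω | ∃ x ∈ P, x • δ₀ = ω} : Set Ω) := by
    rw [Set.disjoint_left]
    intro ω h1 h2
    exact hout ω h2 h1
  have hle : Φ.ncard + 9 ≤ 11 := by
    rw [← h9, ← Set.ncard_union_eq hdisj, ← hΩ, ← Set.ncard_univ]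
    exact Set.ncard_le_ncard (Set.subset_univ _)
  have hpos : 0 < Φ.ncard := (Set.ncard_pos).mpr ⟨α, hαΦ⟩
  have h2 : Φ.ncard = 2 := by
    have := hmod
    unfold Nat.ModEq at this
    omega
  obtain ⟨a, b, hab, hΦab⟩ := Set.ncard_eq_two.mp h2
  -- the other fixed point
  have hcompl : ({ω | ∃ x ∈ P, x • δ₀ = ω} : Set Ω) = Φᶜ := by
    apply Set.eq_of_subset_of_ncard_le _ _ (Set.toFinite _)
    · intro ω hω; exact hout ω hω
    · rw [h9]
      have := Set.ncard_add_ncard_compl Φ
      rw [hΩ] at this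
      omega
  have htrans : ∀ δ δ' : Ω, δ ∉ Φ → δ' ∉ Φ → ∃ x ∈ P, x • δ = δ' := by
    intro δ δ' hδ hδ'
    have h1 : δ ∈ ({ω | ∃ x ∈ P, x • δ₀ = ω} : Set Ω) := by rw [hcompl]; exact hδ
    have h2 : δ' ∈ ({ω | ∃ x ∈ P, x • δ₀ = ω} : Set Ω) := by rw [hcompl]; exact hδ'
    obtain ⟨x, hx, rfl⟩ := h1
    obtain ⟨x', hx', rfl⟩ := h2
    exact ⟨x' * x⁻¹, P.mul_mem hx' (P.inv_mem hx), by rw [mul_smul, inv_smul_smul]⟩
  have hmemΦ : ∀ ω, ω ∈ Φ ↔ ω = a ∨ ω = b := by
    intro ω; rw [hΦab]; simp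
  have hα' := (hmemΦ α).mp hαΦ
  rcases hα' with rfl | rfl
  · refine ⟨b, hab.symm, (hmemΦ b).mpr (Or.inr rfl), fun ω hω => (hmemΦ ω).mp hω, ?_⟩
    intro δ δ' h1 h2 h3 h4
    exact htrans δ δ' (fun h => by rcases (hmemΦ δ).mp h with h | h <;> contradiction)
      (fun h => by rcases (hmemΦ δ').mp h with h | h <;> contradiction)
  · refine ⟨a, hab, (hmemΦ a).mpr (Or.inl rfl), fun ω hω => ((hmemΦ ω).mp hω).symm, ?_⟩
    intro δ δ' h1 h2 h3 h4
    exact htrans δ δ' (fun h => by rcases (hmemΦ δ).mp h with h | h <;> contradiction)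
      (fun h => by rcases (hmemΦ δ').mp h with h | h <;> contradiction)

include F hΩ in
/-- a point stabilizer fixes no second point -/
theorem h4_stab_moves (α β : Ω) (hβα : β ≠ α) :
    ∃ h : G, h • α = α ∧ h • β ≠ β := by
  by_contra hcon
  push_neg at hcon
  have hle : MulAction.stabilizer G α ≤ MulAction.stabilizer G β := by
    intro h hh
    exact MulAction.mem_stabilizer_iff.mpr (hcon h (MulAction.mem_stabilizer_iff.mp hh))
  have heq : MulAction.stabilizer G α = MulAction.stabilizer G β :=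
    Subgroup.eq_of_le_of_card_ge hle (by rw [h4_card_stab F hΩ α, h4_card_stab F hΩ β])
  obtain ⟨g, hg⟩ := MulAction.exists_smul_eq G α β
  have hgN : g ∈ Subgroup.normalizer ((MulAction.stabilizer G α : Subgroup G) : Set G) := by
    rw [Subgroup.mem_normalizer_iff]
    intro h
    constructor
    · intro hh
      rw [heq, MulAction.mem_stabilizer_iff, ← hg, mul_smul, mul_smul, inv_smul_smul,
        MulAction.mem_stabilizer_iff.mp hh]
    · intro hh
      rw [heq, MulAction.mem_stabilizer_iff, ← hg, mul_smul, mul_smul, inv_smul_smul] at hh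
      exact MulAction.mem_stabilizer_iff.mpr (smul_left_cancel g hh)
  have hgH : g ∉ MulAction.stabilizer G α := by
    intro h
    rw [MulAction.mem_stabilizer_iff, hg] at h
    exact hβα h
  have hidx : (MulAction.stabilizer G α).index = 11 := by
    rw [MulAction.index_stabilizer_of_transitive, hΩ]
  have hdvd : (Subgroup.normalizer ((MulAction.stabilizer G α : Subgroup G) : Set G)).index ∣ 11 := by
    rw [← hidx]
    exact Subgroup.index_dvd_of_le Subgroup.le_normalizer
  have hprime : Nat.Prime 11 := by norm_num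
  rcases (Nat.dvd_prime hprime).mp hdvd with h1 | h11
  · have htop := Subgroup.index_eq_one.mp h1
    have hnormal : (MulAction.stabilizer G α).Normal := Subgroup.normalizer_eq_top_iff.mp htop
    haveI := F.simple
    rcases hnormal.eq_bot_or_eq_top with hb | ht
    · have := h4_card_stab F hΩ α
      rw [hb, Subgroup.card_bot] at this
      omega
    · rw [ht, Subgroup.index_top] at hidx
      omega
  · have hcardN : Nat.card (Subgroup.normalizer ((MulAction.stabilizer G α : Subgroup G) : Set G))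
        = 720 := by
      have := Subgroup.card_mul_index
        (Subgroup.normalizer ((MulAction.stabilizer G α : Subgroup G) : Set G))
      rw [h11, F.card] at this
      omega
    have heqN : MulAction.stabilizer G α =
        Subgroup.normalizer ((MulAction.stabilizer G α : Subgroup G) : Set G) :=
      Subgroup.eq_of_le_of_card_ge Subgroup.le_normalizer
        (by rw [hcardN, h4_card_stab F hΩ α])
    exact hgH (heqN ▸ hgN)

include F hΩ in
/-- pointed `2`-transitivity, given the subgroup `P` of order `9` fixing exactly `α, β` -/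
theorem h4_two_trans (P : Subgroup G) (α β : Ω) (hβα : β ≠ α)
    (hPα : ∀ x ∈ P, x • α = α)
    (htr : ∀ δ δ' : Ω, δ ≠ α → δ ≠ β → δ' ≠ α → δ' ≠ β → ∃ x ∈ P, x • δ = δ')
    (ω : Ω) (hω : ω ≠ α) : ∃ h : G, h • α = α ∧ h • β = ω := by
  obtain ⟨h₀, h₀α, h₀β⟩ := h4_stab_moves F hΩ α β hβα
  have h₀βα : h₀ • β ≠ α := by
    intro h
    rw [← h₀α] at h
    exact hβα (smul_left_cancel h₀ h)
  by_cases hωβ : ω = β
  · exact ⟨1, one_smul _ _, by rw [one_smul, hωβ]⟩
  · obtain ⟨x, hx, hxω⟩ := htr (h₀ • β) ω h₀βα h₀β hω hωβ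
    exact ⟨x * h₀, by rw [mul_smul, h₀α, hPα x hx], by rw [mul_smul, hxω]⟩

include F hΩ in
/-- the order of a two point stabilizer -/
theorem h4_card_K (P : Subgroup G) (α β : Ω) (hβα : β ≠ α)
    (hPα : ∀ x ∈ P, x • α = α)
    (htr : ∀ δ δ' : Ω, δ ≠ α → δ ≠ β → δ' ≠ α → δ' ≠ β → ∃ x ∈ P, x • δ = δ') :
    Nat.card ↥(MulAction.stabilizer G α ⊓ MulAction.stabilizer G β) = 72 := by
  have h1 := h4_os (MulAction.stabilizer G α) β
  have h2 : {ω' : Ω | ∃ l ∈ MulAction.stabilizer G α, l • β = ω'} = ({α} : Set Ω)ᶜ := by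
    ext ω
    simp only [Set.mem_setOf_eq, Set.mem_compl_iff, Set.mem_singleton_iff,
      MulAction.mem_stabilizer_iff]
    constructor
    · rintro ⟨l, hl, rfl⟩ h
      rw [← hl] at h
      exact hβα (smul_left_cancel l (by rw [h, hl]))
    · intro hω
      obtain ⟨h, h1, h2⟩ := h4_two_trans F hΩ P α β hβα hPα htr ω hω
      exact ⟨h, h1, h2⟩
  have h3 : (({α} : Set Ω)ᶜ).ncard = 10 := by
    have := Set.ncard_add_ncard_compl ({α} : Set Ω)
    rw [Set.ncard_singleton, hΩ] at this
    omega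
  rw [h2, h3, h4_card_stab F hΩ α] at h1
  omega

include F hΩ in
/-- the order of a three point stabilizer -/
theorem h4_card_T (P : Subgroup G) (α β γ : Ω) (hβα : β ≠ α) (hγα : γ ≠ α) (hγβ : γ ≠ β)
    (hPα : ∀ x ∈ P, x • α = α) (hPβ : ∀ x ∈ P, x • β = β)
    (htr : ∀ δ δ' : Ω, δ ≠ α → δ ≠ β → δ' ≠ α → δ' ≠ β → ∃ x ∈ P, x • δ = δ') :
    Nat.card ↥((MulAction.stabilizer G α ⊓ MulAction.stabilizer G β) ⊓
      MulAction.stabilizer G γ) = 8 := by
  have h1 := h4_os (MulAction.stabilizer G α ⊓ MulAction.stabilizer G β) γ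
  have h2 : {ω' : Ω | ∃ l ∈ MulAction.stabilizer G α ⊓ MulAction.stabilizer G β, l • γ = ω'} =
      ({α, β} : Set Ω)ᶜ := by
    ext ω
    simp only [Set.mem_setOf_eq, Set.mem_compl_iff, Set.mem_insert_iff, Set.mem_singleton_iff,
      Subgroup.mem_inf, MulAction.mem_stabilizer_iff]
    constructor
    · rintro ⟨l, ⟨hl1, hl2⟩, rfl⟩ h
      rcases h with h | h
      · rw [← hl1] at h
        exact hγα (smul_left_cancel l (by rw [h, hl1]))
      · rw [← hl2] at h
        exact hγβ (smul_left_cancel l (by rw [h, hl2]))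
    · intro hω
      push_neg at hω
      obtain ⟨x, hx, hxω⟩ := htr γ ω hγα hγβ hω.1 hω.2
      exact ⟨x, ⟨hPα x hx, hPβ x hx⟩, hxω⟩
  have h3 : (({α, β} : Set Ω)ᶜ).ncard = 9 := by
    have := Set.ncard_add_ncard_compl ({α, β} : Set Ω)
    rw [Set.ncard_pair hβα.symm, hΩ] at this
    omega
  rw [h2, h3, h4_card_K F hΩ P α β hβα hPα htr] at h1
  omega

include F hΩ in
/-- the two point stabilizer normalizes `P` -/
theorem h4_K_le_normalizer (P : Subgroup G) (hP : Nat.card P = 9) (α β : Ω) (hβα : β ≠ α)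
    (hPα : ∀ x ∈ P, x • α = α) (hPβ : ∀ x ∈ P, x • β = β)
    (hΦ : ∀ ω : Ω, (∀ x ∈ P, x • ω = ω) → ω = α ∨ ω = β)
    (htr : ∀ δ δ' : Ω, δ ≠ α → δ ≠ β → δ' ≠ α → δ' ≠ β → ∃ x ∈ P, x • δ = δ') :
    MulAction.stabilizer G α ⊓ MulAction.stabilizer G β ≤ Subgroup.normalizer (P : Set G) := by
  haveI : Fact (Nat.Prime 3) := ⟨by norm_num⟩
  have hPp : IsPGroup 3 P := IsPGroup.of_card (n := 2) (by rw [hP]; norm_num)
  have hidx : ¬ 3 ∣ P.index := by
    have := Subgroup.card_mul_index P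
    rw [hP, F.card] at this
    have h880 : P.index = 880 := by omega
    rw [h880]; norm_num
  have hN := F.norm3 (hPp.toSylow hidx)
  rw [IsPGroup.toSylow_coe] at hN
  -- the normalizer preserves the fixed point set
  have hpres : ∀ n ∈ Subgroup.normalizer (P : Set G), ∀ ω : Ω, (∀ x ∈ P, x • ω = ω) →
      (n • ω = α ∨ n • ω = β) := by
    intro n hn ω hω
    apply hΦ
    intro x hx
    have h1 : n⁻¹ * x * n⁻¹⁻¹ ∈ P :=
      (Subgroup.mem_normalizer_iff.mp (Subgroup.inv_mem _ hn) x).mp hx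
    have h2 := hω _ h1
    rw [inv_inv, mul_smul, mul_smul, inv_smul_eq_iff] at h2
    exact h2
  have h1 := h4_os (Subgroup.normalizer (P : Set G)) α
  have h2 : {ω' : Ω | ∃ l ∈ Subgroup.normalizer (P : Set G), l • α = ω'}.ncard ≤ 2 := by
    have hsub : {ω' : Ω | ∃ l ∈ Subgroup.normalizer (P : Set G), l • α = ω'} ⊆ ({α, β} : Set Ω) := by
      rintro ω ⟨l, hl, rfl⟩
      simpa using hpres l hl α hPα
    calc _ ≤ ({α, β} : Set Ω).ncard := Set.ncard_le_ncard hsub
      _ = 2 := Set.ncard_pair hβα.symm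
  have h3 : 72 ≤ Nat.card ↥(Subgroup.normalizer (P : Set G) ⊓ MulAction.stabilizer G α) := by
    rw [hN] at h1
    by_contra hlt
    push_neg at hlt
    have : {ω' : Ω | ∃ l ∈ Subgroup.normalizer (P : Set G), l • α = ω'}.ncard *
        Nat.card ↥(Subgroup.normalizer (P : Set G) ⊓ MulAction.stabilizer G α) ≤ 2 * 71 :=
      Nat.mul_le_mul h2 (by omega)
    omega
  have h4 : Subgroup.normalizer (P : Set G) ⊓ MulAction.stabilizer G α ≤
      MulAction.stabilizer G α ⊓ MulAction.stabilizer G β := by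
    intro n hn
    rw [Subgroup.mem_inf] at hn
    refine Subgroup.mem_inf.mpr ⟨hn.2, ?_⟩
    rw [MulAction.mem_stabilizer_iff]
    rcases hpres n hn.1 β hPβ with h | h
    · exfalso
      have h5 := MulAction.mem_stabilizer_iff.mp hn.2
      rw [← h5] at h
      exact hβα (smul_left_cancel n h)
    · exact h
  have h5 : Subgroup.normalizer (P : Set G) ⊓ MulAction.stabilizer G α =
      MulAction.stabilizer G α ⊓ MulAction.stabilizer G β :=
    Subgroup.eq_of_le_of_card_ge h4 (by rw [h4_card_K F hΩ P α β hβα hPα htr]; exact h3)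
  rw [← h5]
  exact inf_le_left

omit [Finite G] in
/-- a group of order `8` has a central involution -/
theorem h4_central_involution (T : Subgroup G) (hT : Nat.card T = 8) :
    ∃ z ∈ T, orderOf z = 2 ∧ ∀ t ∈ T, t * z = z * t := by
  haveI : Fact (Nat.Prime 2) := ⟨Nat.prime_two⟩
  have hTp : IsPGroup 2 T := IsPGroup.of_card (n := 3) (by rw [hT]; norm_num)
  haveI : Finite T := Nat.finite_of_card_ne_zero (by rw [hT]; norm_num)
  haveI : Nontrivial T := Finite.one_lt_card_iff_nontrivial.mp (by rw [hT]; norm_num)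
  have hZ : Nontrivial (Subgroup.center T) := hTp.center_nontrivial
  have hZp : IsPGroup 2 (Subgroup.center T) := hTp.to_subgroup _
  obtain ⟨n, hn0, hn⟩ := hZp.nontrivial_iff_card.mp hZ
  have h2 : 2 ∣ Nat.card (Subgroup.center T) := by
    rw [hn]; exact dvd_pow_self 2 (ne_of_gt hn0)
  obtain ⟨z, hz⟩ := exists_prime_orderOf_dvd_card' 2 h2
  refine ⟨((z : T) : G), (z : T).2, ?_, ?_⟩
  · rw [Subgroup.orderOf_coe, Subgroup.orderOf_coe]; exact hz
  · intro t ht
    have := Subgroup.mem_center_iff.mp z.2 ⟨t, ht⟩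
    exact congrArg Subtype.val this

include F hΩ in
/-- a central involution of the three point stabilizer fixes exactly the three points -/
theorem h4_involution_fix (P : Subgroup G) (hP : Nat.card P = 9) (α β γ : Ω) (hβα : β ≠ α)
    (hγα : γ ≠ α) (hγβ : γ ≠ β)
    (hPα : ∀ x ∈ P, x • α = α) (hPβ : ∀ x ∈ P, x • β = β)
    (hΦ : ∀ ω : Ω, (∀ x ∈ P, x • ω = ω) → ω = α ∨ ω = β)
    (htr : ∀ δ δ' : Ω, δ ≠ α → δ ≠ β → δ' ≠ α → δ' ≠ β → ∃ x ∈ P, x • δ = δ')
    (z : G) (hz2 : orderOf z = 2)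
    (hzT : z ∈ (MulAction.stabilizer G α ⊓ MulAction.stabilizer G β) ⊓ MulAction.stabilizer G γ)
    (hzc : ∀ t ∈ (MulAction.stabilizer G α ⊓ MulAction.stabilizer G β) ⊓
      MulAction.stabilizer G γ, t * z = z * t)
    (ω : Ω) (hω : z • ω = ω) : ω = α ∨ ω = β ∨ ω = γ := by
  by_contra hcon
  push_neg at hcon
  obtain ⟨hωα, hωβ, hωγ⟩ := hcon
  have hTN := (inf_le_left : (MulAction.stabilizer G α ⊓ MulAction.stabilizer G β) ⊓
    MulAction.stabilizer G γ ≤ _).trans (h4_K_le_normalizer F hΩ P hP α β hβα hPα hPβ hΦ htr)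
  have hTcard := h4_card_T F hΩ P α β γ hβα hγα hγβ hPα hPβ htr
  set T := (MulAction.stabilizer G α ⊓ MulAction.stabilizer G β) ⊓ MulAction.stabilizer G γ
    with hTdef
  have hTfix : ∀ t ∈ T, t • α = α ∧ t • β = β ∧ t • γ = γ := by
    intro t ht
    rw [hTdef, Subgroup.mem_inf, Subgroup.mem_inf] at ht
    exact ⟨MulAction.mem_stabilizer_iff.mp ht.1.1, MulAction.mem_stabilizer_iff.mp ht.1.2,
      MulAction.mem_stabilizer_iff.mp ht.2⟩
  have hconjP : ∀ t ∈ T, ∀ x ∈ P, t * x * t⁻¹ ∈ P := by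
    intro t ht x hx
    exact (Subgroup.mem_normalizer_iff.mp (hTN ht) x).mp hx
  -- freeness
  have hfree : ∀ x ∈ P, ∀ δ : Ω, δ ≠ α → δ ≠ β → x • δ = δ → x = 1 := by
    intro x hx δ h1 h2 h3
    by_contra hx1
    rcases hΦ δ (h4_fix_all F hΩ P hP x hx hx1 δ h3) with h | h
    · exact h1 h
    · exact h2 h
  -- fixed points of `t ∈ T` on the regular orbit
  have hkey : ∀ t ∈ T, ∀ x ∈ P, t • (x • γ) = x • γ → t * x * t⁻¹ = x := by
    intro t ht x hx h
    have h1 : (x⁻¹ * (t * x * t⁻¹)) • γ = γ := by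
      have h2 : t⁻¹ • γ = γ := by
        rw [inv_smul_eq_iff, (hTfix t ht).2.2]
      rw [mul_smul, mul_smul, mul_smul, h2, h, inv_smul_smul]
    have h3 := hfree _ (P.mul_mem (P.inv_mem hx) (hconjP t ht x hx)) γ hγα hγβ h1
    rw [inv_mul_eq_one] at h3
    exact h3.symm
  -- the bad point
  obtain ⟨x, hx, hxω⟩ := htr γ ω hγα hγβ hωα hωβ
  have hx1 : x ≠ 1 := by
    rintro rfl
    rw [one_smul] at hxω
    exact hωγ hxω.symm
  have hzx : z * x * z⁻¹ = x := hkey z hzT x hx (by rw [hxω]; exact hω)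
  have hx3 : orderOf x = 3 := h4_order_three F P hP x hx hx1
  -- `C = C_P(z)`
  set C : Subgroup G := P ⊓ Subgroup.centralizer ({z} : Set G) with hCdef
  have hmemC : ∀ c : G, c ∈ C ↔ c ∈ P ∧ z * c * z⁻¹ = c := by
    intro c
    rw [hCdef, Subgroup.mem_inf, Subgroup.mem_centralizer_iff]
    constructor
    · rintro ⟨h1, h2⟩
      refine ⟨h1, ?_⟩
      rw [h2 z rfl, mul_inv_cancel_right]
    · rintro ⟨h1, h2⟩
      refine ⟨h1, ?_⟩
      intro h hh
      rw [Set.mem_singleton_iff] at hh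
      subst hh
      rw [mul_inv_eq_iff_eq_mul] at h2
      exact h2
  have hxC : x ∈ C := (hmemC x).mpr ⟨hx, hzx⟩
  have hCdvd : Nat.card C ∣ 9 := hP ▸ Subgroup.card_dvd_of_le (inf_le_left : C ≤ P)
  have hCmem : Nat.card C ∈ Nat.divisors 9 := by simp [hCdvd]
  have hd : Nat.divisors 9 = {1, 3, 9} := by decide
  rw [hd] at hCmem
  simp only [Finset.mem_insert, Finset.mem_singleton] at hCmem
  rcases hCmem with h1 | h3 | h9
  · -- `C = 1`
    have := Subgroup.eq_bot_of_card_eq C h1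
    rw [this, Subgroup.mem_bot] at hxC
    exact hx1 hxC
  · -- `|C| = 3`
    haveI : Fact (Nat.Prime 3) := ⟨by norm_num⟩
    have hCx : ∀ c ∈ C, c = 1 ∨ c = x ∨ c = x⁻¹ := by
      intro c hc
      have hx1' : (⟨x, hxC⟩ : C) ≠ 1 := by
        intro h
        exact hx1 (congrArg Subtype.val h)
      have := mem_powers_of_prime_card (G := C) h3 hx1' (g' := ⟨c, hc⟩)
      obtain ⟨n, hn⟩ := this
      have hn' : x ^ n = c := by
        have := congrArg Subtype.val hn
        simpa using this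
      rw [← pow_mod_orderOf, hx3] at hn'
      have hlt : n % 3 < 3 := Nat.mod_lt _ (by norm_num)
      have hxinv : x ^ 2 = x⁻¹ := by
        have h33 : x ^ 3 = 1 := by rw [← hx3, pow_orderOf_eq_one]
        rw [eq_inv_iff_mul_eq_one, ← pow_succ]
        exact h33
      interval_cases (n % 3)
      · left; rw [← hn', pow_zero]
      · right; left; rw [← hn', pow_one]
      · right; right; rw [← hn', hxinv]
    have hTx : ∀ t ∈ T, t * x * t⁻¹ = x ∨ t * x * t⁻¹ = x⁻¹ := by
      intro t ht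
      have hmem : t * x * t⁻¹ ∈ C := by
        rw [hmemC]
        refine ⟨hconjP t ht x hx, ?_⟩
        have h1 := hzc t ht
        have h2 : z * t⁻¹ = t⁻¹ * z := by
          rw [eq_inv_mul_iff_mul_eq, ← mul_assoc, h1, mul_inv_cancel_right]
        calc z * (t * x * t⁻¹) * z⁻¹ = (z * t) * x * (t⁻¹ * z⁻¹) := by group
          _ = (t * z) * x * (z⁻¹ * t⁻¹) := by
              rw [h1]
              congr 1
              rw [← mul_inv_rev, ← mul_inv_rev, h1]
          _ = t * (z * x * z⁻¹) * t⁻¹ := by group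
          _ = t * x * t⁻¹ := by rw [hzx]
      rcases hCx _ hmem with h | h | h
      · exfalso
        apply hx1
        have : x = t⁻¹ * 1 * t := by rw [← h]; group
        rw [this]; group
      · left; exact h
      · right; exact h
    set D : Subgroup G := T ⊓ Subgroup.centralizer ({x} : Set G) with hDdef
    have hmemD : ∀ d : G, d ∈ D ↔ d ∈ T ∧ d * x * d⁻¹ = x := by
      intro d
      rw [hDdef, Subgroup.mem_inf, Subgroup.mem_centralizer_iff]
      constructor
      · rintro ⟨h1, h2⟩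
        refine ⟨h1, ?_⟩
        rw [← h2 x rfl, mul_inv_cancel_right]
      · rintro ⟨h1, h2⟩
        refine ⟨h1, ?_⟩
        intro h hh
        rw [Set.mem_singleton_iff] at hh
        subst hh
        rw [mul_inv_eq_iff_eq_mul] at h2
        exact h2.symm
    have hD2 : Nat.card D ≤ 2 := by
      have h8 : Nat.card D ∣ 8 := hTcard ▸ Subgroup.card_dvd_of_le (inf_le_left : D ≤ T)
      have h18 : Nat.card D ∣ 18 := (F.cent3 x hx3) ▸ Subgroup.card_dvd_of_le
        (inf_le_right : D ≤ Subgroup.centralizer ({x} : Set G))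
      have := Nat.dvd_gcd h8 h18
      have hg : Nat.gcd 8 18 = 2 := by norm_num
      rw [hg] at this
      exact Nat.le_of_dvd (by norm_num) this
    have hTD : Nat.card T ≤ 2 * Nat.card D := by
      by_cases hall : ∀ t ∈ T, t * x * t⁻¹ = x
      · have : T ≤ D := fun t ht => (hmemD t).mpr ⟨ht, hall t ht⟩
        have := Subgroup.card_le_of_le this
        omega
      · push_neg at hall
        obtain ⟨t₀, ht₀, ht₀x⟩ := hall
        have ht₀x' : t₀ * x * t₀⁻¹ = x⁻¹ := by
          rcases hTx t₀ ht₀ with h | h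
          · exact absurd h ht₀x
          · exact h
        have hsub : (T : Set G) ⊆ (D : Set G) ∪ (fun d => t₀ * d) '' (D : Set G) := by
          intro t ht
          rcases hTx t ht with h | h
          · left; exact (hmemD t).mpr ⟨ht, h⟩
          · right
            refine ⟨t₀⁻¹ * t, (hmemD _).mpr ⟨T.mul_mem (T.inv_mem ht₀) ht, ?_⟩, by group⟩
            calc t₀⁻¹ * t * x * (t₀⁻¹ * t)⁻¹ = t₀⁻¹ * (t * x * t⁻¹) * t₀ := by group
              _ = t₀⁻¹ * x⁻¹ * t₀ := by rw [h]
              _ = t₀⁻¹ * (t₀ * x * t₀⁻¹) * t₀ := by rw [ht₀x']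
              _ = x := by group
        have hfin : ((D : Set G) ∪ (fun d => t₀ * d) '' (D : Set G)).Finite := Set.toFinite _
        calc Nat.card T = (T : Set G).ncard := (Nat.card_coe_set_eq (T : Set G))
          _ ≤ ((D : Set G) ∪ (fun d => t₀ * d) '' (D : Set G)).ncard :=
              Set.ncard_le_ncard hsub hfin
          _ ≤ (D : Set G).ncard + ((fun d => t₀ * d) '' (D : Set G)).ncard :=
              Set.ncard_union_le _ _
          _ ≤ (D : Set G).ncard + (D : Set G).ncard :=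
              Nat.add_le_add_left (Set.ncard_image_le (Set.toFinite _)) _
          _ = 2 * Nat.card D := by
              rw [← Nat.card_coe_set_eq (D : Set G)]
              have : Nat.card (↥(D : Set G)) = Nat.card D := rfl
              rw [this]; ring
    omega
  · -- `C = P`
    have hCP : C = P := Subgroup.eq_of_le_of_card_ge inf_le_left (by rw [h9, hP])
    have hall : ∀ ω' : Ω, z • ω' = ω' := by
      intro ω'
      by_cases h1 : ω' = α
      · rw [h1]; exact (hTfix z hzT).1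
      by_cases h2 : ω' = β
      · rw [h2]; exact (hTfix z hzT).2.1
      obtain ⟨x', hx', rfl⟩ := htr γ ω' hγα hγβ h1 h2
      have hx'C : x' ∈ C := hCP ▸ hx'
      have h3 := ((hmemC x').mp hx'C).2
      have h4 : z * x' = x' * z := by
        rw [mul_inv_eq_iff_eq_mul] at h3; exact h3
      rw [← mul_smul, h4, mul_smul, (hTfix z hzT).2.2]
    have hz1 : z = 1 := by
      apply FaithfulSMul.eq_of_smul_eq_smul (α := Ω)
      intro ω'
      rw [one_smul, hall ω']
    rw [hz1, orderOf_one] at hz2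
    omega

include F in
omit [Finite G] [Finite Ω] [MulAction.IsPretransitive G Ω] [FaithfulSMul G Ω] in
/-- if one involution fixes at most three points, no involution fixes four -/
theorem h4_invol_le_three (z : G) (hz2 : orderOf z = 2) (α β γ : Ω)
    (hzfix : ∀ ω : Ω, z • ω = ω → ω = α ∨ ω = β ∨ ω = γ)
    (w : G) (hw : orderOf w = 2) (x : Fin 4 ↪ Ω) (hfix : ∀ i, w • x i = x i) : False := by
  obtain ⟨g, hg⟩ := isConj_iff.mp (F.conj2 z w hz2 hw)
  have hsub : Set.range (fun i : Fin 4 => g⁻¹ • x i) ⊆ ({α, β, γ} : Set Ω) := by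
    rintro ω ⟨i, rfl⟩
    have h1 : z • (g⁻¹ • x i) = g⁻¹ • x i := by
      have h2 : z = g⁻¹ * w * g := by rw [← hg]; group
      rw [h2, mul_smul, mul_smul, smul_inv_smul, hfix i]
    simpa using hzfix _ h1
  have hinj : Function.Injective (fun i : Fin 4 => g⁻¹ • x i) := by
    intro i j hij
    exact x.injective (smul_left_cancel g⁻¹ hij)
  have h4 : (Set.range (fun i : Fin 4 => g⁻¹ • x i)).ncard = 4 := by
    rw [← Nat.card_coe_set_eq, Nat.card_range_of_injective hinj, Nat.card_fin]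
  have h3 : ({α, β, γ} : Set Ω).ncard ≤ 3 := by
    calc ({α, β, γ} : Set Ω).ncard ≤ ({β, γ} : Set Ω).ncard + 1 := Set.ncard_insert_le _ _
      _ ≤ (({γ} : Set Ω).ncard + 1) + 1 := Nat.add_le_add_right (Set.ncard_insert_le _ _) _
      _ = 3 := by rw [Set.ncard_singleton]
  have := Set.ncard_le_ncard hsub (Set.toFinite _)
  omega

include F hΩ in
/-- **PART B**, abstract form: a transitive faithful action on `11` points is
`4`-transitive. -/
theorem h4_four_trans : MulAction.IsMultiplyPretransitive G Ω 4 := by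
  haveI : Fact (Nat.Prime 3) := ⟨by norm_num⟩
  haveI : Nonempty Ω := by
    rw [← Finite.card_pos_iff, hΩ]; norm_num
  obtain ⟨α⟩ := ‹Nonempty Ω›
  -- the subgroup `P`
  have hS := h4_card_stab F hΩ α
  obtain ⟨y', hy'⟩ := exists_prime_orderOf_dvd_card' (G := MulAction.stabilizer G α) 3
    (by rw [hS]; norm_num)
  obtain ⟨P, hP, hPS, -⟩ := h4_exists_nine (MulAction.stabilizer G α) hS (y' : G) y'.2
    (by rw [Subgroup.orderOf_coe]; exact hy')
  have hPα : ∀ x ∈ P, x • α = α := fun x hx => MulAction.mem_stabilizer_iff.mp (hPS hx)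
  obtain ⟨β, hβα, hPβ, hΦ, htr⟩ := h4_fixed_structure F hΩ P hP α hPα
  -- two more points
  have hex : ∀ s : Set Ω, s.ncard ≤ 3 → ∃ ω : Ω, ω ∉ s := by
    intro s hs
    by_contra hcon
    push_neg at hcon
    have : s = Set.univ := Set.eq_univ_of_forall hcon
    rw [this, Set.ncard_univ, hΩ] at hs
    omega
  obtain ⟨γ, hγ⟩ := hex ({α, β} : Set Ω) (by rw [Set.ncard_pair hβα.symm]; norm_num)
  have hγα : γ ≠ α := fun h => hγ (by rw [h]; simp)
  have hγβ : γ ≠ β := fun h => hγ (by rw [h]; simp)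
  have h3 : ({α, β, γ} : Set Ω).ncard ≤ 3 := by
    calc ({α, β, γ} : Set Ω).ncard ≤ ({β, γ} : Set Ω).ncard + 1 := Set.ncard_insert_le _ _
      _ ≤ (({γ} : Set Ω).ncard + 1) + 1 := Nat.add_le_add_right (Set.ncard_insert_le _ _) _
      _ = 3 := by rw [Set.ncard_singleton]
  obtain ⟨δ, hδ⟩ := hex ({α, β, γ} : Set Ω) h3
  have hδα : δ ≠ α := fun h => hδ (by rw [h]; simp)
  have hδβ : δ ≠ β := fun h => hδ (by rw [h]; simp)
  have hδγ : δ ≠ γ := fun h => hδ (by rw [h]; simp)
  -- the involution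
  have hTcard := h4_card_T F hΩ P α β γ hβα hγα hγβ hPα hPβ htr
  obtain ⟨z, hzT, hz2, hzc⟩ := h4_central_involution _ hTcard
  have hzfix := h4_involution_fix F hΩ P hP α β γ hβα hγα hγβ hPα hPβ hΦ htr z hz2 hzT hzc
  -- the base tuple
  have hinj : Function.Injective (![α, β, γ, δ] : Fin 4 → Ω) := by
    intro i j hij
    fin_cases i <;> fin_cases j <;> simp_all
  set x₀ : Fin 4 ↪ Ω := ⟨![α, β, γ, δ], hinj⟩ with hx₀
  have hstab : MulAction.stabilizer G x₀ = ⊥ := by
    rw [Subgroup.eq_bot_iff_forall]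
    intro g hg
    rw [MulAction.mem_stabilizer_iff] at hg
    have hgi : ∀ i, g • x₀ i = x₀ i := by
      intro i
      rw [← Function.Embedding.smul_apply, hg]
    by_contra hg1
    have hgT : g ∈ (MulAction.stabilizer G α ⊓ MulAction.stabilizer G β) ⊓
        MulAction.stabilizer G γ := by
      refine Subgroup.mem_inf.mpr ⟨Subgroup.mem_inf.mpr ⟨?_, ?_⟩, ?_⟩
      · exact MulAction.mem_stabilizer_iff.mpr (hgi 0)
      · exact MulAction.mem_stabilizer_iff.mpr (hgi 1)
      · exact MulAction.mem_stabilizer_iff.mpr (hgi 2)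
    have hdvd : orderOf g ∣ 2 ^ 3 := by
      have := Subgroup.orderOf_dvd_natCard _ hgT
      rw [hTcard] at this
      exact this
    obtain ⟨k, hk3, hk⟩ := (Nat.dvd_prime_pow Nat.prime_two).mp hdvd
    have hk0 : k ≠ 0 := by
      rintro rfl
      rw [pow_zero, orderOf_eq_one_iff] at hk
      exact hg1 hk
    have hw : orderOf (g ^ 2 ^ (k - 1)) = 2 := by
      rw [orderOf_pow_of_dvd (by positivity) (by rw [hk]; exact pow_dvd_pow 2 (Nat.sub_le k 1)), hk]
      interval_cases k <;> simp_all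
    have hwfix : ∀ i, (g ^ 2 ^ (k - 1)) • x₀ i = x₀ i := by
      intro i
      exact MulAction.mem_stabilizer_iff.mp
        (Subgroup.pow_mem _ (MulAction.mem_stabilizer_iff.mpr (hgi i)) _)
    exact h4_invol_le_three F z hz2 α β γ hzfix _ hw x₀ hwfix
  -- counting
  have hidx := MulAction.index_stabilizer G x₀
  rw [hstab, Subgroup.index_bot, F.card] at hidx
  have hcardX : Nat.card (Fin 4 ↪ Ω) = 7920 := by
    haveI := Fintype.ofFinite Ω
    rw [Nat.card_eq_fintype_card, Fintype.card_embedding_eq, Fintype.card_fin,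
      ← Nat.card_eq_fintype_card, hΩ]
    rfl
  have horb : MulAction.orbit G x₀ = Set.univ := by
    rw [Set.eq_univ_iff_ncard, ← hidx, hcardX]
  rw [MulAction.isMultiplyPretransitive_iff]
  intro a b
  have ha : a ∈ MulAction.orbit G x₀ := by rw [horb]; trivial
  have hb : b ∈ MulAction.orbit G x₀ := by rw [horb]; trivial
  obtain ⟨ga, rfl⟩ := ha
  obtain ⟨gb, rfl⟩ := hb
  exact ⟨gb * ga⁻¹, by simp only [mul_smul, inv_smul_smul]⟩

end Action

end PartB

/-- **PART B** -/
theorem sharp4_of_index_eleven {G : Type u} [Group G] [Finite G] (F : GFacts G) (H : Subgroup G)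
    (hH : H.index = 11) :
    FaithfulSMul G (G ⧸ H) ∧ MulAction.IsMultiplyPretransitive G (G ⧸ H) 4 := by
  have hfaith : FaithfulSMul G (G ⧸ H) := by
    haveI := F.simple
    have hcore : H.normalCore = ⊥ := by
      rcases (Subgroup.normalCore_normal H).eq_bot_or_eq_top with h | h
      · exact h
      · exfalso
        have : H = ⊤ := top_le_iff.mp (h ▸ Subgroup.normalCore_le H)
        rw [this, Subgroup.index_top] at hH
        omega
    constructor
    intro g₁ g₂ h
    have hker : g₂⁻¹ * g₁ ∈ (MulAction.toPermHom G (G ⧸ H)).ker := by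
      rw [MonoidHom.mem_ker]
      ext q
      rw [MulAction.toPermHom_apply, MulAction.toPerm_apply, Equiv.Perm.coe_one, id_eq, mul_smul,
        h q, inv_smul_smul]
    rw [← Subgroup.normalCore_eq_ker, hcore, Subgroup.mem_bot, inv_mul_eq_one] at hker
    exact hker.symm
  haveI := hfaith
  have hcard : Nat.card (G ⧸ H) = 11 := hH
  exact ⟨hfaith, h4_four_trans F hcard⟩

end Cfsg.Agent.M11U
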