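import Cfsg.Agent.M11U.Base
import Cfsg.Agent.Helper5.M11_S0434f
import Cfsg.Agent.Helper5.M11_S0434e
import Cfsg.Agent.Helper3.M11_C10fin

/-!
# S0420, PART F: the facts exported by the M11 cluster

`facts : IsM11 G → GFacts G ∧ ∃ χ, CFacts G χ`.
-/

set_option autoImplicit false
set_option linter.unusedVariables false
set_option linter.unusedSectionVars false
set_option linter.style.haveILetI false
set_option linter.unusedSimpArgs false

namespace Cfsg.Agent.M11U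

open scoped ComplexConjugate
open Cfsg.Agent.Helper2.M11 Cfsg.Agent.Helper5.M11c

universe u

variable {G : Type u} [Group G] [Finite G]

/-- The values at an involution of the ten characters, along the fixed enumeration of Case A. -/
theorem h5_uvals (hG : Cfsg.IsM11 G)
    (hC5 : ∀ Q : Sylow 5 G, Subgroup.centralizer ((Q : Subgroup G) : Set G) = (Q : Subgroup G))
    (P : Sylow 11 G) (A : CaseA (P : Subgroup G)) (e : Fin 10 ≃ Cfsg.IrrCharacter G)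
    (hdeg : ∀ i, Cfsg.charDegree ((e i : Cfsg.IrrCharacter G) : G → ℂ) =
      (![1, 10, 10, 10, 11, 16, 16, 44, 45, 55] : Fin 10 → ℕ) i)
    (he0 : e 0 = Cfsg.Agent.Helper2.M11.triv G) (he1 : e 1 = A.X₁) (he2 : e 2 = A.X₂) (he3 : e 3 = A.X₃)
    (he5 : e 5 = A.Λ₀) (he6 : e 6 = A.Λ₁) (he8 : e 8 = A.Y)
    (u : G) (hu : orderOf u = 2) :
    ∃ a : Fin 10 → ℤ, (∀ i, (e i : G → ℂ) u = (a i : ℂ)) ∧ a 0 = 1 ∧
      ((a 1 = 2 ∧ a 2 = -2 ∧ a 3 = -2) ∨ (a 1 = -2 ∧ a 2 = 2 ∧ a 3 = -2) ∨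
        (a 1 = -2 ∧ a 2 = -2 ∧ a 3 = 2)) ∧
      a 4 = 3 ∧ a 5 = 0 ∧ a 6 = 0 ∧ a 7 = 4 ∧ a 8 = -3 ∧ a 9 = -1 := by
  classical
  haveI := Fintype.ofFinite G
  haveI : Finite (Cfsg.IrrCharacter G) := Cfsg.Agent.Helper6.irr_finite
  haveI := Fintype.ofFinite (Cfsg.IrrCharacter G)
  haveI : Fact (Nat.Prime 5) := ⟨by norm_num⟩
  obtain ⟨q, hq⟩ := exists_prime_orderOf_dvd_card' (G := G) 5 (by rw [hG.2]; norm_num)
  have vq := h7_qval hG hC5 e hdeg q hq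
  have hval : ∀ i, ∃ v : ℤ, (e i : G → ℂ) u = (v : ℂ) := fun i => by
    obtain ⟨v, hv, -⟩ := h7_involution_value (e i) u hu
    exact ⟨v, hv⟩
  choose a ha using hval
  obtain ⟨hY, hL0, hL1, hX⟩ := h7_caseA_u hG P A hC5 u hu
  have cast_inj : ∀ (m n : ℤ), (m : ℂ) = (n : ℂ) → m = n := fun m n h => by exact_mod_cast h
  have h0 : a 0 = 1 := by
    apply cast_inj
    rw [← ha 0, he0]
    simp only [Int.cast_one]
    rfl
  have h5 : a 5 = 0 := by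
    apply cast_inj
    rw [← ha 5, he5, hL0]
    simp
  have h6 : a 6 = 0 := by
    apply cast_inj
    rw [← ha 6, he6, hL1]
    simp
  have h8 : a 8 = -3 := by
    apply cast_inj
    rw [← ha 8, he8, hY]
    simp
  have hperm : (a 1 = 2 ∧ a 2 = -2 ∧ a 3 = -2) ∨ (a 1 = -2 ∧ a 2 = 2 ∧ a 3 = -2) ∨
      (a 1 = -2 ∧ a 2 = -2 ∧ a 3 = 2) := by
    rw [← he1, ← he2, ← he3, ha 1, ha 2, ha 3] at hX
    rcases hX with ⟨x1, x2, x3⟩ | ⟨x1, x2, x3⟩ | ⟨x1, x2, x3⟩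
    · exact Or.inl ⟨cast_inj _ _ (by rw [x1]; simp), cast_inj _ _ (by rw [x2]; simp),
        cast_inj _ _ (by rw [x3]; simp)⟩
    · exact Or.inr (Or.inl ⟨cast_inj _ _ (by rw [x1]; simp), cast_inj _ _ (by rw [x2]; simp),
        cast_inj _ _ (by rw [x3]; simp)⟩)
    · exact Or.inr (Or.inr ⟨cast_inj _ _ (by rw [x1]; simp), cast_inj _ _ (by rw [x2]; simp),
        cast_inj _ _ (by rw [x3]; simp)⟩)
  have hs10 : a 1 + a 2 + a 3 = -2 := by
    rcases hperm with ⟨x1, x2, x3⟩ | ⟨x1, x2, x3⟩ | ⟨x1, x2, x3⟩ <;> rw [x1, x2, x3] <;> norm_num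
  have hq10 : a 1 ^ 2 + a 2 ^ 2 + a 3 ^ 2 = 12 := by
    rcases hperm with ⟨x1, x2, x3⟩ | ⟨x1, x2, x3⟩ | ⟨x1, x2, x3⟩ <;> rw [x1, x2, x3] <;> norm_num
  have hu1 : u ≠ 1 := by
    intro h
    rw [h, orderOf_one] at hu
    omega
  have huq : ¬ IsConj u q := not_isConj_of_orderOf_ne (by rw [hu, hq]; norm_num)
  have hdvd := card_centralizer_involution_dvd_144 hG hC5 u hu
  obtain ⟨-, h4, h7, h9⟩ := h7_table_u_values e hdeg q vq u hu1 huq a ha h0 hs10 hq10 h5 h6 h8 hdvd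
  exact ⟨a, ha, h0, hperm, h4, h5, h6, h7, h8, h9⟩

/-- All involutions are conjugate. -/
theorem h5_conj2 (hG : Cfsg.IsM11 G)
    (hC5 : ∀ Q : Sylow 5 G, Subgroup.centralizer ((Q : Subgroup G) : Set G) = (Q : Subgroup G))
    (u u' : G) (hu : orderOf u = 2) (hu' : orderOf u' = 2) : IsConj u u' := by
  classical
  haveI := Fintype.ofFinite G
  haveI : Finite (Cfsg.IrrCharacter G) := Cfsg.Agent.Helper6.irr_finite
  haveI := Fintype.ofFinite (Cfsg.IrrCharacter G)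
  haveI : Fact (Nat.Prime 11) := ⟨by norm_num⟩
  obtain ⟨P⟩ : Nonempty (Sylow 11 G) := inferInstance
  obtain ⟨A⟩ := exists_caseA hG hC5 P
  obtain ⟨e, hdeg, he0, he1, he2, he3, he5, he6, he8⟩ := h7_caseA_enum hG A hC5
  obtain ⟨a, ha, a0, aperm, a4, a5, a6, a7, a8, a9⟩ :=
    h5_uvals hG hC5 P A e hdeg he0 he1 he2 he3 he5 he6 he8 u hu
  obtain ⟨b, hb, b0, bperm, b4, b5, b6, b7, b8, b9⟩ :=
    h5_uvals hG hC5 P A e hdeg he0 he1 he2 he3 he5 he6 he8 u' hu'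
  by_contra hne
  have h := (col e u u').2 hne
  rw [sum10] at h
  simp only [ha, hb, map_intCast] at h
  have h' : a 0 * b 0 + a 1 * b 1 + a 2 * b 2 + a 3 * b 3 + a 4 * b 4 + a 5 * b 5 + a 6 * b 6
      + a 7 * b 7 + a 8 * b 8 + a 9 * b 9 = 0 := by exact_mod_cast h
  rw [a0, a4, a5, a6, a7, a8, a9, b0, b4, b5, b6, b7, b8, b9] at h'
  rcases aperm with ⟨x1, x2, x3⟩ | ⟨x1, x2, x3⟩ | ⟨x1, x2, x3⟩ <;>
    rcases bperm with ⟨y1, y2, y3⟩ | ⟨y1, y2, y3⟩ | ⟨y1, y2, y3⟩ <;>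
    rw [x1, x2, x3, y1, y2, y3] at h' <;> norm_num at h'

/-- PART F from `C(Q₅) = Q₅`. -/
theorem h5_facts_of_c5 (hG : Cfsg.IsM11 G)
    (hC5 : ∀ Q : Sylow 5 G, Subgroup.centralizer ((Q : Subgroup G) : Set G) = (Q : Subgroup G)) :
    GFacts G ∧ ∃ χ : Cfsg.IrrCharacter G, CFacts G χ := by
  classical
  haveI := Fintype.ofFinite G
  haveI : Finite (Cfsg.IrrCharacter G) := Cfsg.Agent.Helper6.irr_finite
  haveI := Fintype.ofFinite (Cfsg.IrrCharacter G)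
  haveI : Fact (Nat.Prime 11) := ⟨by norm_num⟩
  obtain ⟨u, hu⟩ := exists_involution hG
  obtain ⟨e, H⟩ := exists_hyp hG hC5 u hu
  obtain ⟨P11⟩ : Nonempty (Sylow 11 G) := inferInstance
  obtain ⟨A⟩ := exists_caseA hG hC5 P11
  have h3 : ∀ x : G, orderOf x = 3 → x ≠ 1 ∧ x ^ 9 = 1 := by
    intro x hx
    constructor
    · intro h
      rw [h, orderOf_one] at hx
      omega
    · have : x ^ 3 = 1 := by rw [← hx]; exact pow_orderOf_eq_one x
      calc x ^ 9 = (x ^ 3) ^ 3 := by rw [← pow_mul]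
        _ = 1 := by rw [this, one_pow]
  refine ⟨⟨hG.1, hG.2, ?_, ?_, ?_, ?_, ?_⟩, e 1, ⟨?_, ?_, ?_⟩⟩
  · exact fun a b ha hb => h5_conj2 hG hC5 a b ha hb
  · exact fun a ha => card_centralizer_involution_caseA hG P11 A hC5 a ha
  · intro x hx
    obtain ⟨hx1, hx9⟩ := h3 x hx
    exact (three_main H x hx1 hx9 (card_centralizer_cases H x hx1 hx9)).1
  · intro x hx
    have hx9 : x ^ 9 = 1 := by rw [← hx]; exact pow_orderOf_eq_one x
    have hx1 : x ≠ 1 := by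
      intro h
      rw [h, orderOf_one] at hx
      omega
    have hy : orderOf (x ^ 3) = 3 := by
      rw [orderOf_pow' x (by norm_num), hx]
      norm_num
    obtain ⟨hy1, hy9⟩ := h3 (x ^ 3) hy
    have hc := three_conj H x (x ^ 3) hx1 hx9 hy1 hy9
    have := not_isConj_of_orderOf_ne (x := x) (y := x ^ 3) (by rw [hx, hy]; norm_num)
    exact this hc
  · exact fun P => card_normalizer_sylow3 H P
  · rw [H.deg 1, dg_1]
  · intro a ha
    have hc := h5_conj2 hG hC5 u a hu ha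
    rw [← irr_isConj (e 1) hc, H.uval 1, uv_1]
  · intro x hx
    obtain ⟨hx1, hx9⟩ := h3 x hx
    rw [(three_main H x hx1 hx9 (card_centralizer_cases H x hx1 hx9)).2 1, tv_1]

/-- PART F. -/
theorem facts (hG : Cfsg.IsM11 G) : GFacts G ∧ ∃ χ : Cfsg.IrrCharacter G, CFacts G χ :=
  h5_facts_of_c5 hG (fun Q => centralizer_sylow5 hG Q)

end Cfsg.Agent.M11U
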