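import Mathlib
import Cfsg.Prelude.Def_Sporadic_a
import Cfsg.Agent.Helper9.Steiner.AutTransport

/-!
# S0420 / M11U, PART E (helper9): automorphism groups of isomorphic set systems are isomorphic.
-/

set_option autoImplicit false

namespace Cfsg.Agent.M11U

universe u v

theorem aut_congr_of_iso {α : Type u} {β : Type v} [DecidableEq α] [DecidableEq β]
    {B : Set (Finset α)} {B' : Set (Finset β)} (h : Cfsg.SetSystemIso B B') :
    Nonempty (Cfsg.setSystemAut B ≃* Cfsg.setSystemAut B') := by
  obtain ⟨e, he⟩ := h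
  exact ⟨Cfsg.Agent.Helper9.Steiner.autCongr e B B' he⟩

end Cfsg.Agent.M11U
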