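import Mathlib
import Cfsg.Agent.M11U.Base

/-!
# S0420, part A-FIN: the subgroup `⟨P, R, S'⟩`, if proper, has index `11`
-/

set_option autoImplicit false

namespace Cfsg.Agent.M11U

universe u

/-- a simple group of order `7920` has no subgroup of index `5` -/
theorem lead_index_ne_five {G : Type u} [Group G] [Finite G] (hs : IsSimpleGroup G)
    (hc : Nat.card G = 7920) (H : Subgroup G) : H.index ≠ 5 := by
  intro h5
  have hdvd : H.normalCore.index ∣ H.index.factorial := by
    rw [Subgroup.normalCore_eq_ker, Subgroup.index_ker, Subgroup.index_eq_card, ← Nat.card_perm]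
    exact Subgroup.card_subgroup_dvd_card _
  have hne : H.normalCore ≠ ⊤ := by
    intro htop
    have : H = ⊤ := top_le_iff.mp (htop ▸ Subgroup.normalCore_le H)
    rw [this, Subgroup.index_top] at h5
    omega
  have hbot : H.normalCore = ⊥ :=
    (hs.eq_bot_or_eq_top_of_normal H.normalCore (Subgroup.normalCore_normal H)).resolve_right hne
  rw [hbot, Subgroup.index_bot, hc, h5] at hdvd
  revert hdvd
  decide

theorem lead_card_map_conj {G : Type u} [Group G] (S : Subgroup G) (g : G) :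
    Nat.card (S.map (MulAut.conj g).toMonoidHom) = Nat.card S := by
  exact Nat.card_congr (S.equivMapOfInjective _ (MulAut.conj g).injective).symm.toEquiv

end Cfsg.Agent.M11U

namespace Cfsg.Agent.M11U

universe u

/-- if `P` has order `9`, `P ≤ H`, `|H| = 144` and `H ⊓ N(P)` has index at most `2` in `H`
(witnessed by a subgroup `K ≤ H ⊓ N(P)` with `72 ∣ |K|`) then `H ≤ N(P)` -/
theorem lead_le_normalizer_of_card {G : Type u} [Group G] [Finite G] (P K H : Subgroup G)
    (hP : Nat.card P = 9) (hPH : P ≤ H) (hKH : K ≤ H)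
    (hKN : K ≤ Subgroup.normalizer (P : Set G)) (hK : 72 ∣ Nat.card K) (hH : Nat.card H = 144) :
    H ≤ Subgroup.normalizer (P : Set G) := by
  have : Fact (Nat.Prime 3) := ⟨Nat.prime_three⟩
  have hcP' : Nat.card (P.subgroupOf H) = 9 := by
    rw [Nat.card_congr (Subgroup.subgroupOfEquivOfLe hPH).toEquiv]; exact hP
  have hP' : IsPGroup 3 (P.subgroupOf H) := IsPGroup.of_card (n := 2) (by rw [hcP']; norm_num)
  obtain ⟨Q, hQ⟩ := hP'.exists_le_sylow
  obtain ⟨n, hn⟩ := IsPGroup.iff_card.mp Q.isPGroup'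
  have hQdvd : Nat.card (Q : Subgroup H) ∣ 144 := by
    have := Subgroup.card_subgroup_dvd_card (Q : Subgroup H)
    rwa [hH] at this
  have hPQ : 9 ∣ Nat.card (Q : Subgroup H) := by
    rw [← hcP']; exact Subgroup.card_dvd_of_le hQ
  have hQ9 : Nat.card (Q : Subgroup H) = 9 := by
    rw [hn] at hQdvd hPQ ⊢
    have hn3 : n < 3 := by
      by_contra hcon
      have h27 : 3 ^ 3 ∣ 3 ^ n := pow_dvd_pow 3 (by omega)
      have : 3 ^ 3 ∣ 144 := h27.trans hQdvd
      omega
    interval_cases n <;> omega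
  have hQeq : (Q : Subgroup H) = P.subgroupOf H := by
    symm
    apply Subgroup.eq_of_le_of_card_ge hQ
    rw [hQ9, hcP']
  have h1 := card_sylow_modEq_one 3 H
  have h2 : Nat.card (Sylow 3 H) =
      (Subgroup.normalizer ((P.subgroupOf H : Subgroup H) : Set H)).index := by
    rw [← hQeq]; exact Q.card_eq_index_normalizer
  rw [← Subgroup.subgroupOf_normalizer_eq hPH] at h2
  have h3 : (Subgroup.normalizer (P : Set G)).relIndex H ∣ K.relIndex H :=
    Subgroup.relIndex_dvd_of_le_left H hKN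
  have h4 : Nat.card K * K.relIndex H = Nat.card H := by
    have := Subgroup.relIndex_mul_relIndex ⊥ K H (bot_le : (⊥ : Subgroup G) ≤ K) hKH
    rwa [Subgroup.relIndex_bot_left, Subgroup.relIndex_bot_left] at this
  have h5 : K.relIndex H ∣ 2 := by
    obtain ⟨c, hc⟩ := hK
    rw [hc, hH] at h4
    have : c * K.relIndex H = 2 := by nlinarith
    exact Dvd.intro_left c this
  have h6 : (Subgroup.normalizer (P : Set G)).relIndex H ∣ 2 := h3.trans h5
  have h7 : (Subgroup.normalizer (P : Set G)).relIndex H = 1 := by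
    have hle : (Subgroup.normalizer (P : Set G)).relIndex H ≤ 2 := Nat.le_of_dvd (by norm_num) h6
    have hmod : (Subgroup.normalizer (P : Set G)).relIndex H ≡ 1 [MOD 3] := by
      have : Nat.card (Sylow 3 H) = (Subgroup.normalizer (P : Set G)).relIndex H := h2
      rw [← this]; exact h1
    have hpos : (Subgroup.normalizer (P : Set G)).relIndex H ≠ 0 := by
      intro h0; rw [h0] at h6; omega
    unfold Nat.ModEq at hmod
    interval_cases hh : (Subgroup.normalizer (P : Set G)).relIndex H <;> simp_all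
  exact Subgroup.relIndex_eq_one.mp h7

end Cfsg.Agent.M11U

namespace Cfsg.Agent.M11U

universe u

/-- **A-FIN**: the subgroup `⟨P, R, S'⟩` of a local configuration, if proper, has index `11`. -/
theorem index_eleven_of_cfg {G : Type u} [Group G] [Finite G] (F : GFacts G) (L : LocalCfg G)
    (h : (L.P ⊔ L.R) ⊔ L.S' ≠ ⊤) : ((L.P ⊔ L.R) ⊔ L.S').index = 11 := by
  have h9K : 9 ∣ Nat.card (L.P ⊔ L.R : Subgroup G) :=
    L.cardP ▸ Subgroup.card_dvd_of_le (le_sup_left : L.P ≤ L.P ⊔ L.R)
  have h8K : 8 ∣ Nat.card (L.P ⊔ L.R : Subgroup G) :=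
    L.cardR ▸ Subgroup.card_dvd_of_le (le_sup_right : L.R ≤ L.P ⊔ L.R)
  have h72K : 72 ∣ Nat.card (L.P ⊔ L.R : Subgroup G) :=
    Nat.Coprime.mul_dvd_of_dvd_of_dvd (by norm_num : Nat.Coprime 9 8) h9K h8K
  have hKH : Nat.card (L.P ⊔ L.R : Subgroup G) ∣ Nat.card ((L.P ⊔ L.R) ⊔ L.S' : Subgroup G) :=
    Subgroup.card_dvd_of_le le_sup_left
  obtain ⟨g, hg⟩ := L.conjS
  have hS' : Nat.card L.S' = 16 := by rw [hg, lead_card_map_conj, L.cardS]
  have h16H : 16 ∣ Nat.card ((L.P ⊔ L.R) ⊔ L.S' : Subgroup G) :=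
    hS' ▸ Subgroup.card_dvd_of_le (le_sup_right : L.S' ≤ (L.P ⊔ L.R) ⊔ L.S')
  have h144 : 144 ∣ Nat.card ((L.P ⊔ L.R) ⊔ L.S' : Subgroup G) := by
    have h72H := h72K.trans hKH
    have := Nat.lcm_dvd h72H h16H
    have e : Nat.lcm 72 16 = 144 := by decide
    rwa [e] at this
  have hidx : ((L.P ⊔ L.R) ⊔ L.S').index * Nat.card ((L.P ⊔ L.R) ⊔ L.S' : Subgroup G) = 7920 := by
    rw [← F.card]; exact Subgroup.index_mul_card _
  obtain ⟨k, hk⟩ := h144
  rw [hk] at hidx
  have hk55 : ((L.P ⊔ L.R) ⊔ L.S').index * k = 55 := by nlinarith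
  have hkd : k ∣ 55 := Dvd.intro_left _ hk55
  have hkle : k ≤ 55 := Nat.le_of_dvd (by norm_num) hkd
  have hkpos : 0 < k := Nat.pos_of_dvd_of_pos hkd (by norm_num)
  -- the four cases k = 1, 5, 11, 55
  have hcases : k = 1 ∨ k = 5 ∨ k = 11 ∨ k = 55 := by
    have : k ∈ Nat.divisors 55 := Nat.mem_divisors.mpr ⟨hkd, by norm_num⟩
    have e : Nat.divisors 55 = {1, 5, 11, 55} := by decide
    rw [e] at this
    simpa using this
  rcases hcases with rfl | rfl | rfl | rfl
  · -- |H| = 144: then H ≤ N(P), so S' ≤ N(P)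
    exfalso
    have hKN : L.P ⊔ L.R ≤ Subgroup.normalizer (L.P : Set G) :=
      sup_le Subgroup.le_normalizer L.RN
    have := lead_le_normalizer_of_card L.P (L.P ⊔ L.R) ((L.P ⊔ L.R) ⊔ L.S') L.cardP
      (le_sup_of_le_left le_sup_left) le_sup_left hKN h72K (by rw [hk])
    exact L.S'N (le_sup_right.trans this)
  · omega
  · exfalso
    have : ((L.P ⊔ L.R) ⊔ L.S').index = 5 := by omega
    exact lead_index_ne_five F.simple F.card _ this
  · exfalso
    apply h
    apply (Subgroup.card_eq_iff_eq_top _).mp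
    rw [hk, F.card]

end Cfsg.Agent.M11U
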