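import Mathlib
import Cfsg.Prelude.Def_Characters
import Cfsg.Agent.M11U.Base
import Cfsg.Agent.Helper3.M11_C10
import Cfsg.Agent.Helper6.IrrBasis

/-!
# S0420 / M11U, A-CHAR-S (helper3; architect lead)

The sum of the degree-10 character over the Sylow 2-subgroup `S'` of the local configuration is
`16 d_S` with `d_S ≥ 2`, given that its sum over `R` is `24`.
-/

set_option autoImplicit false
set_option linter.style.haveILetI false
set_option maxHeartbeats 800000

namespace Cfsg.Agent.M11U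

open scoped ComplexConjugate Pointwise
open Classical

universe u

variable {G : Type u} [Group G]

/-- An element of order `2 ^ k`, `k ≥ 2`, has a centralizer of order at most 16. -/
theorem h3_card_centralizer_le_16 [Finite G] (F : GFacts G) (s : G) (k : ℕ) (hk : 2 ≤ k)
    (hs : orderOf s = 2 ^ k) : Nat.card (Subgroup.centralizer ({s} : Set G)) ≤ 16 := by
  haveI : Fact (Nat.Prime 3) := ⟨by norm_num⟩
  -- the involution `u = s ^ (2 ^ (k - 1))`
  have hu : orderOf (s ^ 2 ^ (k - 1)) = 2 := by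
    rw [orderOf_pow_of_dvd (by positivity) (by rw [hs]; exact pow_dvd_pow 2 (by omega)), hs,
      Nat.pow_div (by omega) (by norm_num)]
    have : k - (k - 1) = 1 := by omega
    rw [this, pow_one]
  have hle : Subgroup.centralizer ({s} : Set G) ≤
      Subgroup.centralizer ({s ^ 2 ^ (k - 1)} : Set G) := by
    intro x hx
    rw [Subgroup.mem_centralizer_singleton_iff] at hx ⊢
    exact ((Commute.pow_left (show Commute s x from hx.symm) _).eq).symm
  have hdvd : Nat.card (Subgroup.centralizer ({s} : Set G)) ∣ 48 := by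
    rw [← F.cent2 _ hu]
    exact Subgroup.card_dvd_of_le hle
  have h3 : ¬ 3 ∣ Nat.card (Subgroup.centralizer ({s} : Set G)) := by
    intro h3
    obtain ⟨y, hy⟩ := exists_prime_orderOf_dvd_card' 3 h3
    have hyo : orderOf (y : G) = 3 := by rw [Subgroup.orderOf_coe]; exact hy
    have hcomm : (y : G) * s = s * (y : G) := Subgroup.mem_centralizer_singleton_iff.1 y.2
    have hsmem : s ∈ Subgroup.centralizer ({(y : G)} : Set G) := by
      rw [Subgroup.mem_centralizer_singleton_iff]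
      exact hcomm.symm
    have hd : orderOf (⟨s, hsmem⟩ : Subgroup.centralizer ({(y : G)} : Set G)) ∣
        Nat.card (Subgroup.centralizer ({(y : G)} : Set G)) := orderOf_dvd_natCard _
    rw [F.cent3 _ hyo, Subgroup.orderOf_mk, hs] at hd
    have h4 : (4 : ℕ) ∣ 18 := by
      refine dvd_trans ?_ hd
      exact pow_dvd_pow 2 hk
    norm_num at h4
  have hcop : Nat.Coprime (Nat.card (Subgroup.centralizer ({s} : Set G))) 3 := by
    rw [Nat.coprime_comm]
    exact (Nat.Prime.coprime_iff_not_dvd (by norm_num)).2 h3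
  have h16 : Nat.card (Subgroup.centralizer ({s} : Set G)) ∣ 16 := by
    have : Nat.card (Subgroup.centralizer ({s} : Set G)) ∣ 16 * 3 := by simpa using hdvd
    exact hcop.dvd_of_dvd_mul_right this
  exact Nat.le_of_dvd (by norm_num) h16

/-- The degree-10 character has absolute value `< 4` at elements of order `2 ^ k`, `k ≥ 2`. -/
theorem h3_norm_lt_four [Fintype G] (F : GFacts G) (χ : Cfsg.IrrCharacter G)
    (hχ : (χ : G → ℂ) 1 = 10) (s : G) (k : ℕ) (hk : 2 ≤ k) (hs : orderOf s = 2 ^ k) :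
    ‖(χ : G → ℂ) s‖ < 4 := by
  haveI : Finite (Cfsg.IrrCharacter G) := Cfsg.Agent.Helper6.irr_finite
  haveI : Fintype (Cfsg.IrrCharacter G) := Fintype.ofFinite _
  have hle := h3_card_centralizer_le_16 F s k hk hs
  have hsum := Cfsg.Agent.Helper2.M11.h3_sum_norm_sq s
  set t : Cfsg.IrrCharacter G := ⟨fun _ => (1 : ℂ), Cfsg.Agent.Helper2.M11.h3_isIrr_one⟩ with ht
  have hne : χ ≠ t := by
    intro h
    rw [h] at hχ
    norm_num [ht] at hχ
  have hsub : ∑ ψ ∈ ({χ, t} : Finset (Cfsg.IrrCharacter G)), ‖(ψ : G → ℂ) s‖ ^ 2 ≤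
      ∑ ψ : Cfsg.IrrCharacter G, ‖(ψ : G → ℂ) s‖ ^ 2 :=
    Finset.sum_le_sum_of_subset_of_nonneg (Finset.subset_univ _) (fun ψ _ _ => by positivity)
  rw [Finset.sum_pair hne, hsum] at hsub
  have ht1 : ‖(t : G → ℂ) s‖ ^ 2 = 1 := by
    norm_num [ht]
  rw [ht1] at hsub
  have h16 : (Nat.card (Subgroup.centralizer ({s} : Set G)) : ℝ) ≤ 16 := by exact_mod_cast hle
  have hsq : ‖(χ : G → ℂ) s‖ ^ 2 ≤ 15 := by linarith
  have hnn : 0 ≤ ‖(χ : G → ℂ) s‖ := norm_nonneg _
  nlinarith

/-- **A-CHAR-S.**  If the sum of `χ` over `R` is `24`, then the sum of `χ` over `S'` is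
`16 d_S` with `d_S ≥ 2`. -/
theorem h3_dS_ge_two {G : Type u} [Group G] [Fintype G] (F : GFacts G)
    (χ : Cfsg.IrrCharacter G) (C : CFacts G χ) (L : LocalCfg G)
    (hR : ∑ g : G, (if g ∈ L.R then (χ : G → ℂ) g else 0) = 24) (dS : ℕ)
    (hS : ∑ g : G, (if g ∈ L.S' then (χ : G → ℂ) g else 0) =
      (dS : ℂ) * (Nat.card L.S' : ℂ)) : 2 ≤ dS := by
  -- class function
  have hcl : ∀ a b : G, (χ : G → ℂ) (b * a * b⁻¹) = (χ : G → ℂ) a := by
    obtain ⟨n, ρ, _, hρ⟩ := χ.2
    intro a b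
    rw [← hρ]
    exact Representation.char_conj ρ a b
  obtain ⟨g, hg⟩ := L.conjS
  -- transport to `S`
  have hmem : ∀ x : G, g * x * g⁻¹ ∈ L.S' ↔ x ∈ L.S := by
    intro x
    rw [hg]
    have : g * x * g⁻¹ = (MulAut.conj g).toMonoidHom x := rfl
    rw [this]
    exact Subgroup.mem_map_iff_mem (MulAut.conj g).injective
  have hsumS : ∑ x : G, (if x ∈ L.S' then (χ : G → ℂ) x else 0) =
      ∑ x : G, (if x ∈ L.S then (χ : G → ℂ) x else 0) := by
    symm
    apply Fintype.sum_equiv (MulAut.conj g).toEquiv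
    intro x
    have hx : (MulAut.conj g).toEquiv x = g * x * g⁻¹ := rfl
    rw [hx, hcl]
    by_cases h : x ∈ L.S
    · rw [if_pos h, if_pos ((hmem x).2 h)]
    · rw [if_neg h, if_neg (fun h' => h ((hmem x).1 h'))]
  have hcardS' : Nat.card L.S' = 16 := by
    rw [hg, Subgroup.card_map_of_injective (MulAut.conj g).injective, L.cardS]
  rw [hsumS, hcardS'] at hS
  -- split `S = R ⊔ (S \ R)`
  set T : Finset G := Finset.univ.filter (fun x => x ∈ L.S ∧ x ∉ L.R) with hT
  have hsplit : ∑ x : G, (if x ∈ L.S then (χ : G → ℂ) x else 0) =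
      ∑ x : G, (if x ∈ L.R then (χ : G → ℂ) x else 0) + ∑ x ∈ T, (χ : G → ℂ) x := by
    rw [hT, Finset.sum_filter, ← Finset.sum_add_distrib]
    apply Finset.sum_congr rfl
    intro x _
    by_cases h1 : x ∈ L.R
    · rw [if_pos h1, if_pos (L.RS h1), if_neg (fun h => h.2 h1), add_zero]
    · by_cases h2 : x ∈ L.S
      · rw [if_neg h1, if_pos h2, if_pos ⟨h2, h1⟩, zero_add]
      · rw [if_neg h1, if_neg h2, if_neg (fun h => h2 h.1), add_zero]
  -- cardinalities
  have hcS : (Finset.univ.filter (fun x => x ∈ L.S)).card = 16 := by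
    rw [← L.cardS, Nat.card_eq_fintype_card, Fintype.card_subtype]
  have hcR : (Finset.univ.filter (fun x => x ∈ L.R)).card = 8 := by
    rw [← L.cardR, Nat.card_eq_fintype_card, Fintype.card_subtype]
  have hTeq : T = (Finset.univ.filter (fun x => x ∈ L.S)) \
      (Finset.univ.filter (fun x => x ∈ L.R)) := by
    ext x
    simp [hT]
  have hcT : T.card = 8 := by
    rw [hTeq, Finset.card_sdiff_of_subset, hcS, hcR]
    intro x hx
    simp only [Finset.mem_filter, Finset.mem_univ, true_and] at hx ⊢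
    exact L.RS hx
  obtain ⟨F4, hF4c, hF4⟩ := L.refl4
  have hF4T : F4 ⊆ T := by
    intro x hx
    obtain ⟨h1, h2, _⟩ := hF4 x hx
    simp only [hT, Finset.mem_filter, Finset.mem_univ, true_and]
    exact ⟨h1, h2⟩
  have hsplitT : ∑ x ∈ T, (χ : G → ℂ) x =
      ∑ x ∈ F4, (χ : G → ℂ) x + ∑ x ∈ T \ F4, (χ : G → ℂ) x := by
    rw [← Finset.sum_sdiff hF4T, add_comm]
  have hF4sum : ∑ x ∈ F4, (χ : G → ℂ) x = 8 := by
    have : ∀ x ∈ F4, (χ : G → ℂ) x = 2 := fun x hx => C.val2 x (hF4 x hx).2.2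
    rw [Finset.sum_congr rfl this, Finset.sum_const, hF4c]
    norm_num
  have hcU : (T \ F4).card = 4 := by
    rw [Finset.card_sdiff_of_subset hF4T, hcT, hF4c]
  -- the real parts of the remaining four terms
  have hre : ∀ x ∈ T \ F4, (-4 : ℝ) < ((χ : G → ℂ) x).re := by
    intro x hx
    have hxT : x ∈ T := (Finset.mem_sdiff.1 hx).1
    simp only [hT, Finset.mem_filter, Finset.mem_univ, true_and] at hxT
    obtain ⟨k, hk⟩ := L.twoS x hxT.1
    rcases Nat.lt_or_ge k 2 with hk2 | hk2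
    · interval_cases k
      · exfalso
        apply hxT.2
        have : x = 1 := by
          rw [← orderOf_eq_one_iff]; simpa using hk
        rw [this]; exact L.R.one_mem
      · have : (χ : G → ℂ) x = 2 := C.val2 x (by simpa using hk)
        rw [this]
        norm_num
    · have hn := h3_norm_lt_four F χ C.deg x k hk2 hk
      have habs : |((χ : G → ℂ) x).re| ≤ ‖(χ : G → ℂ) x‖ := Complex.abs_re_le_norm _
      have := neg_abs_le (((χ : G → ℂ) x).re)
      linarith
  have hUsum : (-16 : ℝ) < ∑ x ∈ T \ F4, ((χ : G → ℂ) x).re := by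
    have hne : (T \ F4).Nonempty := by
      rw [← Finset.card_pos, hcU]; norm_num
    have h1 : ∑ x ∈ T \ F4, (-4 : ℝ) < ∑ x ∈ T \ F4, ((χ : G → ℂ) x).re :=
      Finset.sum_lt_sum_of_nonempty hne hre
    rw [Finset.sum_const, hcU] at h1
    norm_num at h1
    linarith
  -- conclusion
  rw [hsplit, hR, hsplitT, hF4sum] at hS
  have hreS := congrArg Complex.re hS
  rw [Complex.add_re, Complex.add_re, Complex.re_sum] at hreS
  have h24 : (24 : ℂ).re = 24 := by norm_num
  have h8 : (8 : ℂ).re = 8 := by norm_num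
  have hrhs : ((dS : ℂ) * ((16 : ℕ) : ℂ)).re = (dS : ℝ) * 16 := by
    rw [← Nat.cast_mul, Complex.natCast_re]
    push_cast
    ring
  rw [h24, h8, hrhs] at hreS
  have hd : (1 : ℝ) < (dS : ℝ) := by nlinarith
  have : 1 < dS := by exact_mod_cast hd
  omega

end Cfsg.Agent.M11U
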