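import Mathlib
import Cfsg.Prelude.Def_Characters
import Cfsg.Agent.Helper6.ColumnOrth
import Cfsg.Agent.Helper6.GaloisChar
import Cfsg.Agent.Helper6.RepEigen
import Cfsg.Agent.Helper6.CharBasic
import Cfsg.Agent.Helper6.IrrBasis
import Cfsg.Agent.Helper6.OddReal
import Cfsg.Agent.M11U.Base

/-!
# S0420, part A-CHAR, generic lemmas
-/

set_option autoImplicit false

namespace Cfsg.Agent.M11U

open Classical
open scoped ComplexConjugate Pointwise
open Cfsg.Agent.Helper6

universe u

variable {G : Type u} [Group G]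

/-- irreducible characters are class functions (conjugation form) -/
theorem lead_char_conj (χ : Cfsg.IrrCharacter G) (b r : G) :
    (χ : G → ℂ) (b * r * b⁻¹) = (χ : G → ℂ) r :=
  (IsCharacter.isClassFunction (IsIrrCharacter.isCharacter χ.2)) r b

theorem lead_char_isConj (χ : Cfsg.IrrCharacter G) {a b : G} (h : IsConj a b) :
    (χ : G → ℂ) a = (χ : G → ℂ) b := by
  obtain ⟨c, hc⟩ := isConj_iff.mp h
  rw [← hc, lead_char_conj]

/-- the sum over `P ⊔ R = P·R` as a double sum -/
theorem lead_sum_sup [Fintype G] (P R : Subgroup G) (hRN : R ≤ Subgroup.normalizer (P : Set G))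
    (hPR : P ⊓ R = ⊥) (f : G → ℂ) :
    ∑ g : G, (if g ∈ P ⊔ R then f g else 0) = ∑ r : R, ∑ y : P, f ((y : G) * (r : G)) := by
  rw [← Finset.sum_filter]
  rw [Finset.sum_comm, ← Finset.sum_product']
  symm
  apply Finset.sum_bij (fun (p : P × R) _ => (p.1 : G) * (p.2 : G))
  · intro p _
    simp only [Finset.mem_filter, Finset.mem_univ, true_and]
    exact mul_mem (Subgroup.mem_sup_left p.1.2) (Subgroup.mem_sup_right p.2.2)
  · rintro ⟨⟨y, hy⟩, ⟨r, hr⟩⟩ _ ⟨⟨y', hy'⟩, ⟨r', hr'⟩⟩ _ h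
    simp only at h
    have h1 : y'⁻¹ * y = r' * r⁻¹ := by
      have : y'⁻¹ * (y * r) * r⁻¹ = y'⁻¹ * (y' * r') * r⁻¹ := by rw [h]
      simpa [mul_assoc] using this
    have h2 : y'⁻¹ * y ∈ P ⊓ R :=
      ⟨P.mul_mem (P.inv_mem hy') hy, h1 ▸ R.mul_mem hr' (R.inv_mem hr)⟩
    rw [hPR, Subgroup.mem_bot] at h2
    have hyy : y = y' := by
      have := congrArg (fun z => y' * z) h2
      simpa using this
    subst hyy
    have hrr : r = r' := by
      have := mul_left_cancel h
      exact this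
    subst hrr
    rfl
  · intro g hg
    simp only [Finset.mem_filter, Finset.mem_univ, true_and] at hg
    have hset : g ∈ ((P ⊔ R : Subgroup G) : Set G) := hg
    rw [Subgroup.coe_mul_of_right_le_normalizer_left P R hRN] at hset
    obtain ⟨y, hy, r, hr, rfl⟩ := hset
    exact ⟨(⟨y, hy⟩, ⟨r, hr⟩), Finset.mem_univ _, rfl⟩
  · intro p _
    rfl

end Cfsg.Agent.M11U
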