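import Mathlib
import Cfsg.Agent.M11U.Lead_Char1

/-!
# S0420, part A-CHAR, generic lemmas (2): norm bound, integrality, conjugacy in `P·R`
-/

set_option autoImplicit false
set_option linter.style.haveILetI false

namespace Cfsg.Agent.M11U

open Classical
open scoped ComplexConjugate Pointwise
open Cfsg.Agent.Helper6

universe u

variable {G : Type u} [Group G]

/-- `1 + |χ(g)|² ≤ |C(g)|` for a non-trivial irreducible character -/
theorem lead_normSq_le [Finite G] (χ : Cfsg.IrrCharacter G) (hχ : (χ : G → ℂ) 1 ≠ 1) (g : G) :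
    1 + Complex.normSq ((χ : G → ℂ) g) ≤
      (Nat.card (Subgroup.centralizer ({g} : Set G)) : ℝ) := by
  haveI := Fintype.ofFinite G
  haveI : Finite (Cfsg.IrrCharacter G) := irr_finite
  haveI := Fintype.ofFinite (Cfsg.IrrCharacter G)
  have hcol := column_orthogonality_aux g g
  rw [if_pos (IsConj.refl g)] at hcol
  have hall : ∑ ψ : Cfsg.IrrCharacter G, Complex.normSq ((ψ : G → ℂ) g) =
      (Nat.card (Subgroup.centralizer ({g} : Set G)) : ℝ) := by
    have : ((∑ ψ : Cfsg.IrrCharacter G, Complex.normSq ((ψ : G → ℂ) g) : ℝ) : ℂ) =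
        ((Nat.card (Subgroup.centralizer ({g} : Set G)) : ℝ) : ℂ) := by
      rw [Complex.ofReal_sum]
      simp_rw [← Complex.mul_conj]
      rw [hcol]
      simp
    exact_mod_cast this
  rw [← hall]
  let τ : Cfsg.IrrCharacter G := ⟨fun _ => 1, isIrrCharacter_one⟩
  have hne : τ ≠ χ := by
    intro h
    apply hχ
    rw [← h]
  have hsub : ({τ, χ} : Finset (Cfsg.IrrCharacter G)) ⊆ Finset.univ := Finset.subset_univ _
  have := Finset.sum_le_sum_of_subset_of_nonneg hsub
    (f := fun ψ : Cfsg.IrrCharacter G => Complex.normSq ((ψ : G → ℂ) g))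
    (fun ψ _ _ => Complex.normSq_nonneg _)
  rw [Finset.sum_pair hne] at this
  have h1 : Complex.normSq ((τ : G → ℂ) g) = 1 := by simp [τ]
  rw [h1] at this
  exact this

/-- an element of order `4` conjugate to its inverse has integer character values -/
theorem lead_int_of_order_four [Finite G] (χ : Cfsg.IrrCharacter G) (g : G) (hg : g ^ 4 = 1)
    (hc : IsConj g g⁻¹) : ∃ c : ℤ, (χ : G → ℂ) g = (c : ℂ) := by
  obtain ⟨n, ρ, -, hρ⟩ := χ.2
  have key := (char_galois_facts ρ g 4 hg).2.2.1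
  have hq : ∃ q : ℚ, ρ.character g = q := by
    apply key.mp
    intro k
    have hk : (k : ZMod 4).val = 1 ∨ (k : ZMod 4).val = 3 := by
      revert k; decide
    rcases hk with hk | hk
    · rw [hk, pow_one]
    · rw [hk, hρ]
      have : g ^ 3 = g⁻¹ := by
        have h4 : g ^ 3 * g = 1 := by rw [← pow_succ]; exact hg
        exact eq_inv_of_mul_eq_one_left h4
      rw [this]
      exact (lead_char_isConj χ hc).symm
  obtain ⟨q, hq⟩ := hq
  have hint : IsIntegral ℤ (ρ.character g) := isIntegral_char ρ g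
  have h1 : IsIntegral ℤ (algebraMap ℚ ℂ q) := by
    rw [hq] at hint
    exact hint
  have h2 : IsIntegral ℤ q :=
    (isIntegral_algebraMap_iff (FaithfulSMul.algebraMap_injective ℚ ℂ)).mp h1
  obtain ⟨c, hc'⟩ := IsIntegrallyClosed.isIntegral_iff.mp h2
  refine ⟨c, ?_⟩
  rw [← hρ, hq, ← hc']
  simp

/-- in `P·R` with `R` acting freely on `P \ 1`: `y r` is a `P`-conjugate of `r` -/
theorem lead_conj_in_coset [Finite G] (P : Subgroup G) (r : G)
    (hrN : r ∈ Subgroup.normalizer (P : Set G))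
    (hreg : ∀ y ∈ P, y ≠ 1 → r * y * r⁻¹ ≠ y) (y : G) (hy : y ∈ P) :
    ∃ b ∈ P, y * r = b * r * b⁻¹ := by
  have hmem : ∀ b : P, (b : G) * (r * (b : G)⁻¹ * r⁻¹) ∈ P := by
    intro b
    apply P.mul_mem b.2
    exact (Subgroup.mem_normalizer_iff.mp hrN _).mp (P.inv_mem b.2)
  let φ : P → P := fun b => ⟨(b : G) * (r * (b : G)⁻¹ * r⁻¹), hmem b⟩
  have hinj : Function.Injective φ := by
    intro b b' h
    have h' : (b : G) * (r * (b : G)⁻¹ * r⁻¹) = (b' : G) * (r * (b' : G)⁻¹ * r⁻¹) :=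
      congrArg Subtype.val h
    by_contra hne
    have ha : (b' : G)⁻¹ * (b : G) ∈ P := P.mul_mem (P.inv_mem b'.2) b.2
    have ha1 : (b' : G)⁻¹ * (b : G) ≠ 1 := by
      intro h1
      apply hne
      apply Subtype.ext
      have := congrArg (fun z => (b' : G) * z) h1
      simpa using this
    apply hreg _ ha ha1
    -- r a r⁻¹ = a  with a = b'⁻¹ b
    have e1 : (b : G) * r * (b : G)⁻¹ = (b' : G) * r * (b' : G)⁻¹ := by
      have := congrArg (fun z => z * r) h'
      simpa [mul_assoc] using this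
    have e2 : r * ((b' : G)⁻¹ * (b : G)) = ((b' : G)⁻¹ * (b : G)) * r := by
      have := congrArg (fun z => (b' : G)⁻¹ * z * (b : G)) e1
      simp only [mul_assoc, inv_mul_cancel_left, inv_mul_cancel, mul_one] at this
      rw [mul_assoc]
      exact this.symm
    calc r * ((b' : G)⁻¹ * (b : G)) * r⁻¹ = ((b' : G)⁻¹ * (b : G)) * r * r⁻¹ := by rw [e2]
      _ = (b' : G)⁻¹ * (b : G) := by rw [mul_assoc, mul_inv_cancel, mul_one]
  have hsurj : Function.Surjective φ := Finite.injective_iff_surjective.mp hinj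
  obtain ⟨b, hb⟩ := hsurj ⟨y, hy⟩
  refine ⟨b, b.2, ?_⟩
  have : (b : G) * (r * (b : G)⁻¹ * r⁻¹) = y := congrArg Subtype.val hb
  rw [← this]
  simp [mul_assoc]

end Cfsg.Agent.M11U
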