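import Mathlib
import Cfsg.Agent.M11U.Lead_Char2

/-!
# S0420, part A-CHAR, group-theoretic lemmas from `GFacts`
-/

set_option autoImplicit false
set_option linter.style.haveILetI false

namespace Cfsg.Agent.M11U

open Classical
open scoped ComplexConjugate Pointwise

universe u

variable {G : Type u} [Group G]

theorem lead_order_three [Finite G] (F : GFacts G) (P : Subgroup G) (hP : Nat.card P = 9)
    (y : G) (hy : y ∈ P) (hy1 : y ≠ 1) : orderOf y = 3 := by
  have hdvd : orderOf y ∣ 9 := hP ▸ Subgroup.orderOf_dvd_natCard P hy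
  have h9 := F.no9 y
  have h1 : orderOf y ≠ 1 := fun h => hy1 (orderOf_eq_one_iff.mp h)
  have hle : orderOf y ≤ 9 := Nat.le_of_dvd (by norm_num) hdvd
  interval_cases h : orderOf y <;> simp_all

theorem lead_involution_mul (t y : G) (ht : orderOf t = 2) (hinv : t * y * t⁻¹ = y⁻¹)
    (hne : y * t ≠ 1) : orderOf (y * t) = 2 := by
  have ht2 : t * t = 1 := by rw [← sq, ← ht]; exact pow_orderOf_eq_one _
  have htinv : t⁻¹ = t := inv_eq_of_mul_eq_one_left ht2
  rw [htinv] at hinv
  have hsq : (y * t) ^ 2 = 1 := by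
    rw [sq]
    calc y * t * (y * t) = y * (t * y * t) := by simp [mul_assoc]
      _ = y * y⁻¹ := by rw [hinv]
      _ = 1 := mul_inv_cancel y
  exact orderOf_eq_prime hsq hne

theorem lead_centralizer_le_pow (s : G) (m : ℕ) :
    Subgroup.centralizer ({s} : Set G) ≤ Subgroup.centralizer ({s ^ m} : Set G) := by
  intro g hg
  rw [Subgroup.mem_centralizer_singleton_iff] at hg ⊢
  exact ((Commute.pow_left (show Commute s g from hg.symm) m).eq).symm

/-- a `2`-element of order at least `4` has centralizer of order at most `16` -/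
theorem lead_card_cent_two_pow [Finite G] (F : GFacts G) (s : G) (k : ℕ) (hk : 2 ≤ k)
    (hs : orderOf s = 2 ^ k) : Nat.card (Subgroup.centralizer ({s} : Set G)) ≤ 16 := by
  have hpos : 0 < orderOf s := by rw [hs]; positivity
  -- the involution in ⟨s⟩
  have ho2 : orderOf (s ^ 2 ^ (k - 1)) = 2 := by
    rw [orderOf_pow' s (by positivity), hs]
    have : 2 ^ k = 2 ^ (k - 1) * 2 := by rw [← pow_succ]; congr 1; omega
    rw [this, Nat.gcd_eq_right (Dvd.intro _ rfl), Nat.mul_div_cancel_left _ (by positivity)]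
  have ho4 : orderOf (s ^ 2 ^ (k - 2)) = 4 := by
    rw [orderOf_pow' s (by positivity), hs]
    have : 2 ^ k = 2 ^ (k - 2) * 4 := by
      have : (4 : ℕ) = 2 ^ 2 := by norm_num
      rw [this, ← pow_add]; congr 1; omega
    rw [this, Nat.gcd_eq_right (Dvd.intro _ rfl), Nat.mul_div_cancel_left _ (by positivity)]
  have h48 : Nat.card (Subgroup.centralizer ({s} : Set G)) ∣ 48 := by
    rw [← F.cent2 _ ho2]
    exact Subgroup.card_dvd_of_le (lead_centralizer_le_pow s _)
  have h3 : ¬ 3 ∣ Nat.card (Subgroup.centralizer ({s} : Set G)) := by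
    intro h3
    haveI : Fact (Nat.Prime 3) := ⟨Nat.prime_three⟩
    obtain ⟨x, hx⟩ := exists_prime_orderOf_dvd_card' (G := Subgroup.centralizer ({s} : Set G)) 3 h3
    have hx3 : orderOf (x : G) = 3 := by rw [Subgroup.orderOf_coe]; exact hx
    have hcomm : (x : G) * s = s * (x : G) := by
      have := x.2
      rw [Subgroup.mem_centralizer_singleton_iff] at this
      exact this
    have hmem : s ^ 2 ^ (k - 2) ∈ Subgroup.centralizer ({(x : G)} : Set G) := by
      rw [Subgroup.mem_centralizer_singleton_iff]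
      exact ((Commute.pow_right (show Commute (x : G) s from hcomm) _).eq).symm
    have hd := Subgroup.orderOf_dvd_natCard _ hmem
    rw [ho4, F.cent3 _ hx3] at hd
    omega
  have hcop : Nat.Coprime (Nat.card (Subgroup.centralizer ({s} : Set G))) 3 :=
    (Nat.Prime.coprime_iff_not_dvd Nat.prime_three).mpr h3 |>.symm
  have h16 : Nat.card (Subgroup.centralizer ({s} : Set G)) ∣ 16 := by
    have : Nat.card (Subgroup.centralizer ({s} : Set G)) ∣ 16 * 3 := by norm_num; exact h48
    exact hcop.dvd_of_dvd_mul_right this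
  exact Nat.le_of_dvd (by norm_num) h16

end Cfsg.Agent.M11U
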