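import Mathlib
import Cfsg.Agent.M11U.Lead_Char3
import Cfsg.Agent.M11U.Lead_Fin

/-!
# S0420, part A-CHAR, the three character sums
-/

set_option autoImplicit false
set_option linter.style.haveILetI false

namespace Cfsg.Agent.M11U

open Classical
open scoped ComplexConjugate Pointwise

universe u

variable {G : Type u} [Group G]

theorem lead_sum_three {α : Type*} [Fintype α] (a b : α) (hab : a ≠ b) (f : α → ℂ)
    (A B C : ℂ) (ha : f a = A) (hb : f b = B) (hc : ∀ x, x ≠ a → x ≠ b → f x = C) :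
    ∑ x, f x = A + B + ((Fintype.card α : ℂ) - 2) * C := by
  rw [← Finset.add_sum_erase Finset.univ f (Finset.mem_univ a)]
  have hb' : b ∈ Finset.univ.erase a := Finset.mem_erase.mpr ⟨hab.symm, Finset.mem_univ b⟩
  rw [← Finset.add_sum_erase _ f hb', ha, hb]
  have hrest : ∑ x ∈ (Finset.univ.erase a).erase b, f x =
      ∑ x ∈ (Finset.univ.erase a).erase b, C := by
    apply Finset.sum_congr rfl
    intro x hx
    rw [Finset.mem_erase, Finset.mem_erase] at hx
    exact hc x hx.2.1 hx.1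
  rw [hrest, Finset.sum_const, Finset.card_erase_of_mem hb',
    Finset.card_erase_of_mem (Finset.mem_univ a), Finset.card_univ, nsmul_eq_mul]
  have h2 : 2 ≤ Fintype.card α := by
    have : ({a, b} : Finset α).card ≤ Fintype.card α := Finset.card_le_univ _
    rwa [Finset.card_pair hab] at this
  have : ((Fintype.card α - 1 - 1 : ℕ) : ℂ) = (Fintype.card α : ℂ) - 2 := by
    have e : Fintype.card α - 1 - 1 = Fintype.card α - 2 := by omega
    rw [e, Nat.cast_sub h2]
    norm_num
  rw [this]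
  ring

theorem lead_sum_ite_mem [Fintype G] (X : Subgroup G) (f : G → ℂ) :
    ∑ g : G, (if g ∈ X then f g else 0) = ∑ x : X, f (x : G) := by
  rw [← Finset.sum_filter]
  exact (Finset.sum_subtype (Finset.univ.filter (· ∈ X)) (by simp) f)

end Cfsg.Agent.M11U

namespace Cfsg.Agent.M11U

open Classical
open scoped ComplexConjugate Pointwise

universe u

variable {G : Type u} [Group G]

/-- basic consequences of a local configuration -/
theorem lead_cfg_basic (L : LocalCfg G) :
    L.t * L.t = 1 ∧ L.t ≠ 1 ∧ L.t⁻¹ = L.t ∧ L.P ⊓ L.R = ⊥ ∧ L.t ∉ L.P := by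
  have ht2 : L.t * L.t = 1 := by rw [← sq, ← L.ht]; exact pow_orderOf_eq_one _
  have ht1 : L.t ≠ 1 := by
    intro h
    have := L.ht
    rw [h, orderOf_one] at this
    omega
  have hPR : L.P ⊓ L.R = ⊥ :=
    (Subgroup.disjoint_of_coprime_natCard (by rw [L.cardP, L.cardR]; norm_num)).eq_bot
  refine ⟨ht2, ht1, inv_eq_of_mul_eq_one_left ht2, hPR, ?_⟩
  intro htP
  have : L.t ∈ L.P ⊓ L.R := ⟨htP, L.tR⟩
  rw [hPR, Subgroup.mem_bot] at this
  exact ht1 this

theorem lead_sum_one {α : Type*} [Fintype α] (a : α) (f : α → ℂ)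
    (A C : ℂ) (ha : f a = A) (hc : ∀ x, x ≠ a → f x = C) :
    ∑ x, f x = A + ((Fintype.card α : ℂ) - 1) * C := by
  rw [← Finset.add_sum_erase Finset.univ f (Finset.mem_univ a), ha]
  have hrest : ∑ x ∈ Finset.univ.erase a, f x = ∑ x ∈ Finset.univ.erase a, C := by
    apply Finset.sum_congr rfl
    intro x hx
    rw [Finset.mem_erase] at hx
    exact hc x hx.1
  rw [hrest, Finset.sum_const, Finset.card_erase_of_mem (Finset.mem_univ a), Finset.card_univ,
    nsmul_eq_mul]
  have h1 : 1 ≤ Fintype.card α := Fintype.card_pos_iff.mpr ⟨a⟩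
  rw [Nat.cast_sub h1]
  norm_num

/-- the sum of `χ` over `K = P·R` -/
theorem lead_sum_K [Fintype G] (F : GFacts G) (χ : Cfsg.IrrCharacter G) (C : CFacts G χ)
    (L : LocalCfg G) (c : ℂ) (hc : ∀ r ∈ L.R, r ≠ 1 → r ≠ L.t → (χ : G → ℂ) r = c) :
    ∑ g : G, (if g ∈ L.P ⊔ L.R then (χ : G → ℂ) g else 0) = 36 + 54 * c := by
  obtain ⟨ht2, ht1, htinv, hPR, htP⟩ := lead_cfg_basic L
  rw [lead_sum_sup L.P L.R L.RN hPR]
  have hcardP : (Fintype.card L.P : ℂ) = 9 := by
    rw [← Nat.card_eq_fintype_card, L.cardP]; norm_num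
  have hcardR : (Fintype.card L.R : ℂ) = 8 := by
    rw [← Nat.card_eq_fintype_card, L.cardR]; norm_num
  -- inner sum for r = 1
  have hin1 : ∑ y : L.P, (χ : G → ℂ) ((y : G) * ((1 : L.R) : G)) = 18 := by
    rw [lead_sum_one (1 : L.P) _ 10 1 (by simp [C.deg]) ?_, hcardP]
    · norm_num
    · intro y hy
      simp only [Subgroup.coe_one, mul_one]
      apply C.val3
      apply lead_order_three F L.P L.cardP y y.2
      intro h
      exact hy (Subtype.ext h)
  -- inner sum for r = t
  have hin2 : ∑ y : L.P, (χ : G → ℂ) ((y : G) * L.t) = 18 := by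
    have : ∀ y : L.P, (χ : G → ℂ) ((y : G) * L.t) = 2 := by
      intro y
      apply C.val2
      apply lead_involution_mul L.t y L.ht (L.inv y y.2)
      intro h
      apply htP
      have : L.t = (y : G)⁻¹ := eq_inv_of_mul_eq_one_right h
      rw [this]
      exact L.P.inv_mem y.2
    simp_rw [this]
    rw [Finset.sum_const, Finset.card_univ, nsmul_eq_mul, hcardP]
    norm_num
  -- inner sum for the other r
  have hin3 : ∀ r : L.R, (r : G) ≠ 1 → (r : G) ≠ L.t →
      ∑ y : L.P, (χ : G → ℂ) ((y : G) * (r : G)) = 9 * c := by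
    intro r hr1 hrt
    have : ∀ y : L.P, (χ : G → ℂ) ((y : G) * (r : G)) = c := by
      intro y
      obtain ⟨b, -, hb⟩ := lead_conj_in_coset L.P (r : G) (L.RN r.2)
        (fun z hz hz1 => L.reg r r.2 hr1 z hz hz1) y y.2
      rw [hb, lead_char_conj]
      exact hc r r.2 hr1 hrt
    simp_rw [this]
    rw [Finset.sum_const, Finset.card_univ, nsmul_eq_mul, hcardP]
  rw [lead_sum_three (1 : L.R) ⟨L.t, L.tR⟩ ?_ _ 18 18 (9 * c) hin1 hin2 ?_, hcardR]
  · ring
  · intro h
    apply ht1
    exact (congrArg Subtype.val h).symm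
  · intro r hr1 hrt
    apply hin3 r
    · intro h; exact hr1 (Subtype.ext h)
    · intro h; exact hrt (Subtype.ext h)

end Cfsg.Agent.M11U

namespace Cfsg.Agent.M11U

open Classical
open scoped ComplexConjugate Pointwise

universe u

variable {G : Type u} [Group G]

/-- the sum of `χ` over `R` -/
theorem lead_sum_R [Fintype G] (χ : Cfsg.IrrCharacter G) (C : CFacts G χ)
    (L : LocalCfg G) (c : ℂ) (hc : ∀ r ∈ L.R, r ≠ 1 → r ≠ L.t → (χ : G → ℂ) r = c) :
    ∑ g : G, (if g ∈ L.R then (χ : G → ℂ) g else 0) = 12 + 6 * c := by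
  obtain ⟨ht2, ht1, htinv, hPR, htP⟩ := lead_cfg_basic L
  have hcardR : (Fintype.card L.R : ℂ) = 8 := by
    rw [← Nat.card_eq_fintype_card, L.cardR]; norm_num
  rw [lead_sum_ite_mem]
  rw [lead_sum_three (1 : L.R) ⟨L.t, L.tR⟩ ?_ _ 10 2 c (by simp [C.deg]) (C.val2 _ L.ht) ?_, hcardR]
  · ring
  · intro h
    apply ht1
    exact (congrArg Subtype.val h).symm
  · intro r hr1 hrt
    apply hc r r.2
    · intro h; exact hr1 (Subtype.ext h)
    · intro h; exact hrt (Subtype.ext h)

/-- the cardinality of `K = P·R` -/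
theorem lead_card_K [Finite G] (L : LocalCfg G) : Nat.card (L.P ⊔ L.R : Subgroup G) = 72 := by
  haveI := Fintype.ofFinite G
  obtain ⟨ht2, ht1, htinv, hPR, htP⟩ := lead_cfg_basic L
  have h := lead_sum_sup L.P L.R L.RN hPR (fun _ => (1 : ℂ))
  have hcardP : Fintype.card L.P = 9 := by rw [← Nat.card_eq_fintype_card, L.cardP]
  have hcardR : Fintype.card L.R = 8 := by rw [← Nat.card_eq_fintype_card, L.cardR]
  simp only [Finset.sum_const, Finset.card_univ, nsmul_eq_mul, mul_one, hcardP, hcardR] at h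
  rw [← Finset.sum_filter, Finset.sum_const, nsmul_eq_mul, mul_one] at h
  have h' : ((Finset.univ.filter (· ∈ L.P ⊔ L.R)).card : ℂ) = ((72 : ℕ) : ℂ) := by
    rw [h]; norm_num
  have h'' : (Finset.univ.filter (· ∈ L.P ⊔ L.R)).card = 72 := by exact_mod_cast h'
  rw [Nat.card_eq_fintype_card, Fintype.card_subtype]
  exact h''

/-- the real part of `χ` at a `2`-element of `S` outside `R` is larger than `-4` -/
theorem lead_re_gt [Finite G] (F : GFacts G) (χ : Cfsg.IrrCharacter G) (C : CFacts G χ)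
    (s : G) (hs1 : s ≠ 1) (k : ℕ) (hk : orderOf s = 2 ^ k) :
    -4 < ((χ : G → ℂ) s).re := by
  have hχ1 : (χ : G → ℂ) 1 ≠ 1 := by rw [C.deg]; norm_num
  rcases Nat.lt_or_ge k 2 with hk2 | hk2
  · interval_cases k
    · exfalso
      apply hs1
      rw [← orderOf_eq_one_iff, hk]; norm_num
    · rw [C.val2 s (by rw [hk]; norm_num)]
      norm_num
  · have h1 := lead_normSq_le χ hχ1 s
    have h2 := lead_card_cent_two_pow F s k hk2 hk
    have h3 : Complex.normSq ((χ : G → ℂ) s) ≤ 15 := by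
      have : (Nat.card (Subgroup.centralizer ({s} : Set G)) : ℝ) ≤ 16 := by exact_mod_cast h2
      linarith
    have h4 : ((χ : G → ℂ) s).re * ((χ : G → ℂ) s).re ≤ 15 := by
      have := Complex.normSq_apply ((χ : G → ℂ) s)
      nlinarith [mul_self_nonneg ((χ : G → ℂ) s).im]
    nlinarith

end Cfsg.Agent.M11U

namespace Cfsg.Agent.M11U

open Classical
open scoped ComplexConjugate Pointwise

universe u

variable {G : Type u} [Group G]

/-- lower bound for the real part of the sum of `χ` over `S` -/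
theorem lead_sum_S_re [Fintype G] (F : GFacts G) (χ : Cfsg.IrrCharacter G) (C : CFacts G χ)
    (L : LocalCfg G) (c : ℂ) (hc : ∀ r ∈ L.R, r ≠ 1 → r ≠ L.t → (χ : G → ℂ) r = c) :
    4 + 6 * c.re < (∑ g : G, (if g ∈ L.S then (χ : G → ℂ) g else 0)).re := by
  obtain ⟨F0, hF0card, hF0⟩ := L.refl4
  set T : Finset G := Finset.univ.filter (fun g => g ∈ L.S ∧ g ∉ L.R) with hT
  have hsplit : ∑ g : G, (if g ∈ L.S then (χ : G → ℂ) g else 0) =
      ∑ g : G, (if g ∈ L.R then (χ : G → ℂ) g else 0) + ∑ g ∈ T, (χ : G → ℂ) g := by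
    rw [hT, Finset.sum_filter, ← Finset.sum_add_distrib]
    apply Finset.sum_congr rfl
    intro g _
    by_cases hR : g ∈ L.R
    · simp [hR, L.RS hR]
    · by_cases hS : g ∈ L.S
      · simp [hR, hS]
      · simp [hR, hS]
  have hcardT : T.card = 8 := by
    have h1 : (Finset.univ.filter (· ∈ L.S)).card = 16 := by
      rw [← Fintype.card_subtype, ← Nat.card_eq_fintype_card]; exact L.cardS
    have h2 : (Finset.univ.filter (· ∈ L.R)).card = 8 := by
      rw [← Fintype.card_subtype, ← Nat.card_eq_fintype_card]; exact L.cardR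
    have h3 : Finset.univ.filter (· ∈ L.S) = Finset.univ.filter (· ∈ L.R) ∪ T := by
      ext g
      simp only [hT, Finset.mem_filter, Finset.mem_univ, true_and, Finset.mem_union]
      constructor
      · intro hS
        by_cases hR : g ∈ L.R
        · exact Or.inl hR
        · exact Or.inr ⟨hS, hR⟩
      · rintro (hR | ⟨hS, -⟩)
        · exact L.RS hR
        · exact hS
    have h4 : Disjoint (Finset.univ.filter (· ∈ L.R)) T := by
      rw [Finset.disjoint_left]
      intro g hg hg'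
      simp only [hT, Finset.mem_filter, Finset.mem_univ, true_and] at hg hg'
      exact hg'.2 hg
    have := Finset.card_union_of_disjoint h4
    rw [← h3, h1, h2] at this
    omega
  have hF0T : F0 ⊆ T := by
    intro s hs
    obtain ⟨h1, h2, -⟩ := hF0 s hs
    simp only [hT, Finset.mem_filter, Finset.mem_univ, true_and]
    exact ⟨h1, h2⟩
  have hsplit2 : ∑ g ∈ T, (χ : G → ℂ) g = ∑ g ∈ F0, (χ : G → ℂ) g + ∑ g ∈ T \ F0, (χ : G → ℂ) g := by
    rw [add_comm]
    exact (Finset.sum_sdiff hF0T).symm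
  have hF0sum : ∑ g ∈ F0, (χ : G → ℂ) g = 8 := by
    have : ∀ g ∈ F0, (χ : G → ℂ) g = 2 := fun g hg => C.val2 g (hF0 g hg).2.2
    rw [Finset.sum_congr rfl this, Finset.sum_const, hF0card]
    norm_num
  have hcardrest : (T \ F0).card = 4 := by
    rw [Finset.card_sdiff_of_subset hF0T, hcardT, hF0card]
  have hne : (T \ F0).Nonempty := by
    rw [← Finset.card_pos, hcardrest]; norm_num
  have hrest : ∑ _g ∈ T \ F0, (-4 : ℝ) < ∑ g ∈ T \ F0, ((χ : G → ℂ) g).re := by
    apply Finset.sum_lt_sum_of_nonempty hne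
    intro s hs
    rw [Finset.mem_sdiff] at hs
    have hsT := hs.1
    simp only [hT, Finset.mem_filter, Finset.mem_univ, true_and] at hsT
    obtain ⟨k, hk⟩ := L.twoS s hsT.1
    apply lead_re_gt F χ C s ?_ k hk
    intro h1
    apply hsT.2
    rw [h1]; exact L.R.one_mem
  rw [Finset.sum_const, hcardrest] at hrest
  rw [hsplit, lead_sum_R χ C L c hc, hsplit2, hF0sum]
  simp only [Complex.add_re, Complex.re_sum, Complex.mul_re]
  norm_num at hrest ⊢
  linarith

end Cfsg.Agent.M11U
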